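import Cfsg.Agent.Omega.IId.Ns.Defs

/-!
# II.d, `k = 2`, nonsplit: the facts (4)-(7) on `UU = ⟨N₁ ^ M⟩`, `M = C_G(U₁)`, as a structure

`CC U U' = C_G(U) ∩ C_G(U')`, `UG A U = ⟨A ^ C_G(U)⟩`.
`Core T L A A' U U' π e g s` : `UU = UG A U` is elementary abelian, normalised by `C_G(U)` and `T`, contained in
`O₂(CC U U')`; `s : UU → F` is additive, `s = π · 0` on `A`, an element of `A'` inducing `lo (t²)` on `A / U` acts on `UU` by
`u ↦ e (t² s u) g (t s u) u`, and `s (c a c⁻¹) = s a` for `c ∈ CC U U'`, `a ∈ A`.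
-/

set_option autoImplicit false
set_option linter.unusedSectionVars false

namespace Cfsg.Agent.Omega.IId.Ns

open Subgroup Cfsg Cfsg.Agent.ZN Cfsg.Agent.Lib.SL2Mat
open Cfsg.Agent.Omega.HOne.NSMod Cfsg.Agent.Omega.HOne.NSSide Cfsg.Agent.Omega.HOne.NSPair

universe u

variable {G : Type u} [Group G] {F : Type} [Field F]

/-- `C = C_G(U) ∩ C_G(U')` -/
def CC (U U' : Subgroup G) : Subgroup G := centralizer (U : Set G) ⊓ centralizer (U' : Set G)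

/-- `UU = ⟨A ^ C_G(U)⟩` -/
def UG (A U : Subgroup G) : Subgroup G :=
  closure {x | ∃ m ∈ centralizer (U : Set G), ∃ a ∈ A, x = m * a * m⁻¹}

/-- (4)-(7) -/
structure Core (T L A A' U U' : Subgroup G) (π : G → Fin 2 → F) (e g : F → G) (s : G → F) : Prop where
  ab : ∀ x ∈ UG A U, ∀ y ∈ UG A U, x * y = y * x
  sq : ∀ x ∈ UG A U, x * x = 1
  AU : A ≤ UG A U
  UO : UG A U ≤ o2 (CC U U')
  MU : ∀ m ∈ centralizer (U : Set G), ∀ u ∈ UG A U, m * u * m⁻¹ ∈ UG A U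
  TU : ∀ t ∈ T, ∀ u ∈ UG A U, t * u * t⁻¹ ∈ UG A U
  s_add : ∀ u ∈ UG A U, ∀ v ∈ UG A U, s (u * v) = s u + s v
  s_A : ∀ a ∈ A, s a = π a 0
  s_act : ∀ t, ∀ n ∈ A', Is L A U π n (lo (t ^ 2)) → ∀ u ∈ UG A U, n * u * n⁻¹ = e (t ^ 2 * s u) * g (t * s u) * u
  s_conj : ∀ c ∈ CC U U', ∀ a ∈ A, s (c * a * c⁻¹) = π a 0

end Cfsg.Agent.Omega.IId.Ns
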