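import Cfsg.Agent.Omega.IId.Ns.Defs

/-!
# II.d, nonsplit: one side

`M : NatK F S P (zl S P) (cv S P) k`, `i : Fin k`.

* `St M i` : the stabiliser of the `i`-th factor in `P`; `D1 M i = {v ∈ V | e v i = 0}`;
* `St_conj_Fc`, `Nc_le`, `e_Nc`, `St_norm_Nc`, `Nc_surj`, `exists_Nc_D1`;
* `comm_D1` : `[D₁, Fc] = 1`; `comm_Nc_of`, `comm_Nc` : rigidity; `exists_Ec` : Frattini;
* `natOver`, `rig_of`, `is_of_acts`, `sideS_of`, `exists_form` : `SideS (Tc) (Lc) (Nc) (Uc) B π`, `Form .. (Nc)`;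
* `relIndex_Tc`, `card_Tc` : `|S| = k |Tc|`; `Lc_le_norm_Qc`; `exists_Qc_ne` : `Qc` is not commutative if `k > 1`.
-/

set_option autoImplicit false
set_option linter.unusedSectionVars false

namespace Cfsg.Agent.Omega.IId.Ns.Sd

open Subgroup Cfsg Cfsg.Agent.ZN Cfsg.Agent.ZN.ChoiceSit Cfsg.Agent.ZN.ChoiceBase Cfsg.Agent.Omega.MinPar
open Cfsg.Agent.Omega.FrameFF Cfsg.Agent.Omega.FFThm Cfsg.Agent.Lib.SL2Mat
open Cfsg.Agent.Omega.NatPair (ap ap_add ap_mul ap_one ap_inj ext2 ap_zero' ap_one' ap_inv_ap ap_ap_inv)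
open Cfsg.Agent.Omega.HOne (cv_le conj_mem_zl conj_mem_cv exists_ap_three_sub)
open Cfsg.Agent.Omega.IId.Cv

universe u

section st

variable {G : Type u} [Group G] {F : Type} [Field F] {S P : Subgroup G} {k : ℕ}
  (M : NatK F S P (zl S P) (cv S P) k)

/-- The stabiliser of the `i`-th factor in `P`. -/
def St (i : Fin k) : Subgroup G where
  carrier := {t | t ∈ P ∧ ∀ v ∈ zl S P, M.e (t * v * t⁻¹) i = 0 ↔ M.e v i = 0}
  one_mem' := ⟨one_mem _, fun v _ => by rw [one_mul, inv_one, mul_one]⟩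
  mul_mem' := by
    rintro x y ⟨hx, hx'⟩ ⟨hy, hy'⟩
    refine ⟨mul_mem hx hy, fun v hv => ?_⟩
    have e : x * y * v * (x * y)⁻¹ = x * (y * v * y⁻¹) * x⁻¹ := by group
    rw [e, hx' _ (conj_mem_zl hy hv), hy' v hv]
  inv_mem' := by
    rintro x ⟨hx, hx'⟩
    refine ⟨inv_mem hx, fun v hv => ?_⟩
    have h1 := hx' _ (conj_mem_zl (inv_mem hx) hv)
    have e : x * (x⁻¹ * v * x⁻¹⁻¹) * x⁻¹ = v := by group
    rw [e] at h1
    exact h1.symm

theorem mem_St {i : Fin k} {t : G} :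
    t ∈ St M i ↔ t ∈ P ∧ ∀ v ∈ zl S P, M.e (t * v * t⁻¹) i = 0 ↔ M.e v i = 0 := Iff.rfl

theorem St_le (i : Fin k) : St M i ≤ P := fun _ h => h.1

theorem Tc_le_St (i : Fin k) : Tc M i ≤ St M i := fun _ h => ⟨h.1.2, h.2⟩

theorem Tc_le (i : Fin k) : Tc M i ≤ S := fun _ h => h.1.1

theorem mem_Tc_iff {i : Fin k} {t : G} : t ∈ Tc M i ↔ t ∈ S ∧ t ∈ St M i :=
  ⟨fun h => ⟨h.1.1, h.1.2, h.2⟩, fun h => ⟨⟨h.1, h.2.1⟩, h.2.2⟩⟩

theorem Fc_le (i : Fin k) : Fc M i ≤ P := fun _ h => h.1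

theorem Fc_le_St (i : Fin k) : Fc M i ≤ St M i := by
  rintro x ⟨hx, B, hB⟩
  refine ⟨hx, fun v hv => ?_⟩
  rw [hB.1 v hv i, one1_same]
  constructor
  · intro h
    have h1 := ap_inv_ap B (M.e v i)
    rw [h] at h1
    rw [← h1]
    apply ext2
    · rw [ap_zero']; simp
    · rw [ap_one']; simp
  · intro h
    rw [h]
    apply ext2
    · rw [ap_zero']; simp
    · rw [ap_one']; simp

/-- an element of `V` with one nonzero coordinate -/
theorem exists_single (i : Fin k) (x : Fin 2 → F) : ∃ v ∈ zl S P, M.e v i = x ∧ ∀ j, j ≠ i → M.e v j = 0 := by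
  classical
  obtain ⟨v, hv, e⟩ := M.surj (Function.update 0 i x)
  refine ⟨v, hv, ?_, fun j hj => ?_⟩
  · rw [e, Function.update_self]
  · rw [e, Function.update_of_ne hj]; rfl

/-- an element of `St M i` permutes the factors and fixes the `i`-th -/
theorem exists_perm {i : Fin k} {t : G} (ht : t ∈ St M i) : ∃ σ : Equiv.Perm (Fin k), σ i = i ∧
    ∀ v ∈ zl S P, ∀ l, M.e (t * v * t⁻¹) (σ l) = 0 ↔ M.e v l = 0 := by
  obtain ⟨σ, hσ⟩ := M.perm t ht.1
  refine ⟨σ, ?_, hσ⟩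
  by_contra hne
  have hl : σ.symm i ≠ i := fun h => hne (by rw [← h, Equiv.apply_symm_apply, h])
  obtain ⟨v, hv, e1, e2⟩ := exists_single M i ![1, 0]
  have h1 := hσ v hv (σ.symm i)
  rw [Equiv.apply_symm_apply, ht.2 v hv, e1, e2 _ hl] at h1
  have := congrFun (h1.2 rfl) 0
  simp at this

/-- elements with all coordinates outside `i` zero -/
theorem St_zero {i : Fin k} {t u : G} (ht : t ∈ St M i) (hu : u ∈ zl S P) (h0 : ∀ j, j ≠ i → M.e u j = 0) :
    ∀ j, j ≠ i → M.e (t * u * t⁻¹) j = 0 := by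
  obtain ⟨σ, h1, h2⟩ := exists_perm M ht
  intro j hj
  have h3 := h2 u hu (σ.symm j)
  rw [Equiv.apply_symm_apply] at h3
  refine h3.2 (h0 _ fun h => hj ?_)
  rw [← h1, ← h, Equiv.apply_symm_apply]

/-- the conjugate of an element acting as an element of `SL₂(F)^k` -/
theorem acts_conj {t x : G} (ht : t ∈ P) (hx : x ∈ P) {A : Fin k → Matrix.SpecialLinearGroup (Fin 2) F}
    (hA : ActsSL M.e (zl S P) (cv S P) x A) : ∃ B, ActsSL M.e (zl S P) (cv S P) (t * x * t⁻¹) B := by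
  obtain ⟨B, hB⟩ := M.norm t ht x hx A hA.1
  refine ⟨B, hB, fun d hd => ?_⟩
  have h1 := hA.2 _ (conj_mem_cv (inv_mem ht) hd)
  rw [inv_inv] at h1
  calc t * x * t⁻¹ * d = t * (x * (t⁻¹ * d * t)) * t⁻¹ := by group
    _ = t * (t⁻¹ * d * t * x) * t⁻¹ := by rw [h1]
    _ = _ := by group

theorem ap_eq_one {A : Matrix.SpecialLinearGroup (Fin 2) F} (h : ∀ x, ap A x = x) : A = 1 := by
  have h0 := h ![1, 0]
  have h1 := h ![0, 1]
  have a0 := congrFun h0 0
  have a1 := congrFun h0 1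
  have b0 := congrFun h1 0
  have b1 := congrFun h1 1
  rw [ap_zero'] at a0 b0
  rw [ap_one'] at a1 b1
  simp at a0 a1 b0 b1
  apply ext_ent
  · rw [a0]; rfl
  · rw [b0]; rfl
  · rw [a1]; rfl
  · rw [b1]; rfl

/-- `St M i` normalises `Fc M i` -/
theorem St_conj_Fc {i : Fin k} {t x : G} (ht : t ∈ St M i) (hx : x ∈ Fc M i) : t * x * t⁻¹ ∈ Fc M i := by
  obtain ⟨hxP, B, hB⟩ := hx
  obtain ⟨C, hC⟩ := acts_conj M ht.1 hxP hB
  refine ⟨mul_mem (mul_mem ht.1 hxP) (inv_mem ht.1), C i, ?_⟩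
  have hCj : ∀ j, j ≠ i → C j = 1 := by
    intro j hj
    apply ap_eq_one
    intro y
    obtain ⟨v, hv, e1, -⟩ := exists_single M j y
    rw [← e1, ← hC.1 v hv j]
    set w := t⁻¹ * v * t with hw
    have hwV : w ∈ zl S P := by
      have := conj_mem_zl (inv_mem ht.1) hv
      rwa [inv_inv] at this
    have hu : x * w * x⁻¹ * w⁻¹ ∈ zl S P := mul_mem (conj_mem_zl hxP hwV) (inv_mem hwV)
    have hu0 : ∀ j, j ≠ i → M.e (x * w * x⁻¹ * w⁻¹) j = 0 := by
      intro j hj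
      rw [e_div M (conj_mem_zl hxP hwV) hwV, Pi.sub_apply, hB.1 w hwV j, one1_ne hj, ap_one, sub_self]
    have h1 := St_zero M ht hu hu0 j hj
    have e2 : t * (x * w * x⁻¹ * w⁻¹) * t⁻¹ = t * x * t⁻¹ * v * (t * x * t⁻¹)⁻¹ * v⁻¹ := by
      rw [hw]; group
    have hxt : t * x * t⁻¹ * v * (t * x * t⁻¹)⁻¹ ∈ zl S P :=
      conj_mem_zl (mul_mem (mul_mem ht.1 hxP) (inv_mem ht.1)) hv
    rw [e2, e_div M hxt hv, Pi.sub_apply] at h1
    exact sub_eq_zero.1 h1
  have e3 : one1 i (C i) = C := by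
    funext j
    by_cases h : j = i
    · subst h; rw [one1_same]
    · rw [one1_ne h, hCj j h]
  rw [e3]
  exact hC

/-- `D₁ = {v ∈ V | e v i = 0}` -/
def D1 (i : Fin k) : Subgroup G where
  carrier := {v | v ∈ zl S P ∧ M.e v i = 0}
  one_mem' := ⟨one_mem _, by rw [e_one M]; rfl⟩
  mul_mem' := by
    rintro x y ⟨hx, hx'⟩ ⟨hy, hy'⟩
    exact ⟨mul_mem hx hy, by rw [M.mul x hx y hy, Pi.add_apply, hx', hy', add_zero]⟩
  inv_mem' := by
    rintro x ⟨hx, hx'⟩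
    exact ⟨inv_mem hx, by rw [e_inv M hx, Pi.neg_apply, hx', neg_zero]⟩

theorem mem_D1 {i : Fin k} {v : G} : v ∈ D1 M i ↔ v ∈ zl S P ∧ M.e v i = 0 := Iff.rfl

theorem D1_le (i : Fin k) : D1 M i ≤ zl S P := fun _ h => h.1

theorem cv_le_D1 (i : Fin k) : cv S P ≤ D1 M i := fun d hd => ⟨cv_le _ _ hd, by rw [e_cv M hd]; rfl⟩

theorem St_conj_D1 {i : Fin k} {t v : G} (ht : t ∈ St M i) (hv : v ∈ D1 M i) : t * v * t⁻¹ ∈ D1 M i :=
  ⟨conj_mem_zl ht.1 hv.1, (ht.2 v hv.1).2 hv.2⟩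

/-! ### `Nc` -/

theorem Nc_le (i : Fin k) : Nc M i ≤ zl S P := by
  unfold Nc
  rw [closure_le]
  rintro _ ⟨x, hx, v, hv, rfl⟩
  exact mul_mem (conj_mem_zl hx.1 hv) (inv_mem hv)

theorem comm_mem_Nc {i : Fin k} {x v : G} (hx : x ∈ Fc M i) (hv : v ∈ zl S P) : x * v * x⁻¹ * v⁻¹ ∈ Nc M i :=
  subset_closure ⟨x, hx, v, hv, rfl⟩

/-- the coordinates of `Nc M i` -/
theorem e_Nc {i j : Fin k} {v : G} (hv : v ∈ Nc M i) (hj : j ≠ i) : M.e v j = 0 := by
  have h1 : Nc M i ≤ D1 M j := by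
    unfold Nc
    rw [closure_le]
    rintro _ ⟨x, ⟨hx, B, hB⟩, v, hv, rfl⟩
    refine ⟨mul_mem (conj_mem_zl hx hv) (inv_mem hv), ?_⟩
    rw [e_div M (conj_mem_zl hx hv) hv, Pi.sub_apply, hB.1 v hv j, one1_ne hj, ap_one, sub_self]
  exact (h1 hv).2

/-- `St M i` normalises `Nc M i` -/
theorem St_conj_Nc {i : Fin k} {t v : G} (ht : t ∈ St M i) (hv : v ∈ Nc M i) : t * v * t⁻¹ ∈ Nc M i := by
  unfold Nc at hv
  induction hv using closure_induction with
  | mem v hv =>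
    obtain ⟨x, hx, w, hw, rfl⟩ := hv
    have e : t * (x * w * x⁻¹ * w⁻¹) * t⁻¹ = t * x * t⁻¹ * (t * w * t⁻¹) * (t * x * t⁻¹)⁻¹ * (t * w * t⁻¹)⁻¹ := by
      group
    rw [e]
    exact comm_mem_Nc M (St_conj_Fc M ht hx) (conj_mem_zl ht.1 hw)
  | one => rw [mul_one, mul_inv_cancel]; exact one_mem _
  | mul v w _ _ h1 h2 =>
    have e : t * (v * w) * t⁻¹ = t * v * t⁻¹ * (t * w * t⁻¹) := by group
    rw [e]
    exact mul_mem h1 h2
  | inv v _ h1 =>
    have e : t * v⁻¹ * t⁻¹ = (t * v * t⁻¹)⁻¹ := by group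
    rw [e]
    exact inv_mem h1

theorem le_normalizer_of_conj {H A : Subgroup G} (h : ∀ t ∈ H, ∀ v ∈ A, t * v * t⁻¹ ∈ A) :
    H ≤ normalizer (A : Set G) := by
  intro t ht
  rw [mem_normalizer_iff]
  intro v
  refine ⟨h t ht v, fun hv => ?_⟩
  have h1 := h t⁻¹ (inv_mem ht) _ hv
  have e : t⁻¹ * (t * v * t⁻¹) * t⁻¹⁻¹ = v := by group
  rwa [e] at h1

theorem St_norm_Fc (i : Fin k) : St M i ≤ normalizer (Fc M i : Set G) :=
  le_normalizer_of_conj fun _ ht _ hx => St_conj_Fc M ht hx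

theorem St_norm_Nc (i : Fin k) : St M i ≤ normalizer (Nc M i : Set G) :=
  le_normalizer_of_conj fun _ ht _ hx => St_conj_Nc M ht hx

theorem St_norm_D1 (i : Fin k) : St M i ≤ normalizer (D1 M i : Set G) :=
  le_normalizer_of_conj fun _ ht _ hx => St_conj_D1 M ht hx

theorem St_norm_Uc (i : Fin k) : St M i ≤ normalizer (Uc M i : Set G) :=
  le_normalizer_of_conj fun _ ht _ hx => ⟨St_conj_Nc M ht hx.1, conj_mem_cv ht.1 hx.2⟩

/-- every vector is the `i`-th coordinate of an element of `Nc M i` -/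
theorem Nc_surj [CharP F 2] (i : Fin k) (x : Fin 2 → F) : ∃ v ∈ Nc M i, M.e v i = x := by
  obtain ⟨y, hy⟩ := exists_ap_three_sub 0 x
  obtain ⟨g, hg, hA⟩ := M.lift (one1 i (Cfsg.Agent.Omega.HOne.three F))
  obtain ⟨v, hv, e1, -⟩ := exists_single M i y
  refine ⟨g * v * g⁻¹ * v⁻¹, comm_mem_Nc M ⟨hg, _, hA⟩ hv, ?_⟩
  rw [e_div M (conj_mem_zl hg hv) hv, Pi.sub_apply, hA.1 v hv i, one1_same, e1]
  simpa using hy

/-- `V = N₁ D₁` -/
theorem exists_Nc_D1 [CharP F 2] (i : Fin k) {v : G} (hv : v ∈ zl S P) : ∃ n ∈ Nc M i, ∃ d ∈ D1 M i, v = n * d := by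
  obtain ⟨n, hn, e⟩ := Nc_surj M i (M.e v i)
  refine ⟨n, hn, n⁻¹ * v, ⟨mul_mem (inv_mem (Nc_le M i hn)) hv, ?_⟩, by group⟩
  rw [M.mul _ (inv_mem (Nc_le M i hn)) v hv, e_inv M (Nc_le M i hn), Pi.add_apply, Pi.neg_apply, e, neg_add_cancel]

end st


/-! ### A Sylow argument -/

section syl

variable {G : Type u} [Group G] [Finite G]

theorem relIndex_sup_norm {X E : Subgroup G} (h : X ≤ normalizer (E : Set G)) : X.relIndex (E ⊔ X) = X.relIndex E := by
  have hKH : E ≤ E ⊔ X := le_sup_left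
  have hn : (E.subgroupOf (E ⊔ X)).Normal := (normal_subgroupOf_iff_le_normalizer hKH).2 (sup_le le_normalizer h)
  have h1 : E.relIndex (E ⊔ X) = E.relIndex X := by
    have h := Subgroup.relIndex_sup_left (K := E.subgroupOf (E ⊔ X)) (H := X.subgroupOf (E ⊔ X))
    rw [← Subgroup.subgroupOf_sup hKH le_sup_right, Subgroup.relIndex_subgroupOf le_rfl,
      Subgroup.relIndex_subgroupOf le_sup_right] at h
    exact h
  have h2 := Subgroup.relIndex_mul_relIndex (E ⊓ X) E (E ⊔ X) inf_le_left le_sup_left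
  have h3 := Subgroup.relIndex_mul_relIndex (E ⊓ X) X (E ⊔ X) inf_le_right le_sup_right
  have h4 : (E ⊓ X).relIndex X = E.relIndex X := Subgroup.inf_relIndex_right E X
  have h4' : (E ⊓ X).relIndex E = X.relIndex E := Subgroup.inf_relIndex_left E X
  rw [h1, h4'] at h2
  rw [h4, ← h2, mul_comm] at h3
  exact Nat.eq_of_mul_eq_mul_right (Nat.pos_of_ne_zero (Subgroup.index_ne_zero_of_finite
      (H := E.subgroupOf X))) h3

/-- two Sylow 2-subgroups `T` and `T'` of `N` are conjugate -/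
theorem exists_conj_sylow {T T' N : Subgroup G} (hT : T ≤ N) (hT' : T' ≤ N) (h2 : IsPGroup 2 T) (h2' : IsPGroup 2 T')
    (ho : ¬ 2 ∣ T.relIndex N) (ho' : ¬ 2 ∣ T'.relIndex N) : ∃ k ∈ N, ∀ x, x ∈ T ↔ k⁻¹ * x * k ∈ T' := by
  have : Fact (Nat.Prime 2) := ⟨Nat.prime_two⟩
  have a1 : IsPGroup 2 (T.subgroupOf N) := h2.comap_of_injective N.subtype N.subtype_injective
  have a2 : IsPGroup 2 (T'.subgroupOf N) := h2'.comap_of_injective N.subtype N.subtype_injective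
  obtain ⟨n, hn⟩ := MulAction.exists_smul_eq N (a2.toSylow ho') (a1.toSylow ho)
  have h3 : ∀ x : N, x ∈ T.subgroupOf N ↔ n⁻¹ * x * n ∈ T'.subgroupOf N := by
    intro x
    have e1 : x ∈ (a1.toSylow ho : Sylow 2 N) ↔ x ∈ T.subgroupOf N := Iff.rfl
    have e2 : n⁻¹ * x * n ∈ (a2.toSylow ho' : Sylow 2 N) ↔ n⁻¹ * x * n ∈ T'.subgroupOf N := Iff.rfl
    rw [← e1, ← e2, ← hn]
    constructor
    · intro hx
      have h4 := Subgroup.mem_pointwise_smul_iff_inv_smul_mem.1 hx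
      rw [← map_inv, MulAut.smul_def, MulAut.conj_apply, inv_inv] at h4
      exact h4
    · intro hx
      refine Subgroup.mem_pointwise_smul_iff_inv_smul_mem.2 ?_
      rw [← map_inv, MulAut.smul_def, MulAut.conj_apply, inv_inv]
      exact hx
  refine ⟨n, n.2, fun x => ⟨fun hx => ?_, fun hx => ?_⟩⟩
  · exact mem_subgroupOf.1 ((h3 ⟨x, hT hx⟩).1 (mem_subgroupOf.2 hx))
  · have hxN : x ∈ N := by
      have h4 := mul_mem (mul_mem n.2 (hT' hx)) (inv_mem n.2)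
      have e : (n : G) * ((n : G)⁻¹ * x * n) * (n : G)⁻¹ = x := by group
      rwa [e] at h4
    exact mem_subgroupOf.1 ((h3 ⟨x, hxN⟩).2 (mem_subgroupOf.2 hx))

end syl

section par

variable {G : Type u} [Group G] [Finite G] (hG : IsCharacteristicTwoType G) (S : Sylow 2 G) {P : Subgroup G}
  (h : IsParS (S : Subgroup G) P) {F : Type} [Field F] [CharP F 2] {k : ℕ}
  (M : NatK F (S : Subgroup G) P (zl (S : Subgroup G) P) (cv (S : Subgroup G) P) k)
  (hω : ∃ ω : F, ω ≠ 0 ∧ ω ≠ 1)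

include hG h in
theorem V_comm {v w : G} (hv : v ∈ zl (S : Subgroup G) P) (hw : w ∈ zl (S : Subgroup G) P) : v * w = w * v :=
  MinSimple.VModule.zc_comm _ _ (h.isLoc.zl_le S hG hv) _ (h.isLoc.zl_le S hG hw)

include hG h M in
/-- an element acting as `1` centralises `V` -/
theorem comm_of_acts_one (hk : 0 < k) {x : G} (hx : x ∈ P)
    (hA : ActsSL M.e (zl (S : Subgroup G) P) (cv (S : Subgroup G) P) x (fun _ => 1)) :
    ∀ v ∈ zl (S : Subgroup G) P, x * v = v * x := by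
  refine comm_of_kern hG S h M hk ⟨hx, fun v hv => ?_⟩ hA.2
  funext j
  rw [hA.1 v hv j, ap_one]

include hG h M in
/-- two elements which act as the same element of `SL₂(F)^k` -/
theorem comm_of_acts_eq (hk : 0 < k) {x y : G} (hx : x ∈ P) (hy : y ∈ P)
    {A : Fin k → Matrix.SpecialLinearGroup (Fin 2) F}
    (hA : ActsSL M.e (zl (S : Subgroup G) P) (cv (S : Subgroup G) P) x A)
    (hA' : ActsSL M.e (zl (S : Subgroup G) P) (cv (S : Subgroup G) P) y A) :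
    ∀ v ∈ zl (S : Subgroup G) P, x⁻¹ * y * v = v * (x⁻¹ * y) := by
  refine comm_of_acts_one hG S h M hk (mul_mem (inv_mem hx) hy) ?_
  have h1 := acts_mul M (inv_mem hx) hy (acts_inv M hx hA) hA'
  have e : (fun j => (A j)⁻¹ * A j) = fun _ => (1 : Matrix.SpecialLinearGroup (Fin 2) F) := by
    funext j; rw [inv_mul_cancel]
  rwa [e] at h1

omit [Finite G] [CharP F 2] in
theorem acts_one1_mul {i : Fin k} {x y : G} (hx : x ∈ P) (hy : y ∈ P) {A B : Matrix.SpecialLinearGroup (Fin 2) F}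
    (hA : ActsSL M.e (zl (S : Subgroup G) P) (cv (S : Subgroup G) P) x (one1 i A))
    (hB : ActsSL M.e (zl (S : Subgroup G) P) (cv (S : Subgroup G) P) y (one1 i B)) :
    ActsSL M.e (zl (S : Subgroup G) P) (cv (S : Subgroup G) P) (x * y) (one1 i (A * B)) := by
  have h := acts_mul M hx hy hA hB
  rwa [show (fun j => one1 i A j * one1 i B j) = one1 i (A * B) from funext (one1_mul i A B)] at h

omit [Finite G] [CharP F 2] in
theorem acts_one1_inv {i : Fin k} {x : G} (hx : x ∈ P) {A : Matrix.SpecialLinearGroup (Fin 2) F}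
    (hA : ActsSL M.e (zl (S : Subgroup G) P) (cv (S : Subgroup G) P) x (one1 i A)) :
    ActsSL M.e (zl (S : Subgroup G) P) (cv (S : Subgroup G) P) x⁻¹ (one1 i A⁻¹) := by
  have h := acts_inv M hx hA
  have e : (fun j => (one1 i A j)⁻¹) = one1 i A⁻¹ := by
    funext j
    by_cases h : j = i
    · subst h; rw [one1_same, one1_same]
    · rw [one1_ne h, one1_ne h, inv_one]
  rwa [e] at h

omit [Finite G] in
include hω in
/-- every element of `SL₂(F)` is in a subgroup which contains the commutators -/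
theorem mem_of_comm (K : Subgroup (Matrix.SpecialLinearGroup (Fin 2) F))
    (hK : ∀ A B : Matrix.SpecialLinearGroup (Fin 2) F, A * B * A⁻¹ * B⁻¹ ∈ K) (A) : A ∈ K := by
  obtain ⟨ω, h0, h1⟩ := hω
  have h2 : ω ^ 2 - 1 ≠ 0 := by
    intro h
    have e : (ω - 1) ^ 2 = 0 := by
      have two : (2 : F) = 0 := CharTwo.two_eq_zero
      linear_combination h + (1 - ω) * two
    exact h1 (sub_eq_zero.1 ((pow_eq_zero_iff two_ne_zero).1 e))
  have hup : ∀ b, up b ∈ K := by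
    intro b
    have h3 := hK (dg ω h0) (up (b / (ω ^ 2 - 1)))
    have e : dg ω h0 * up (b / (ω ^ 2 - 1)) * (dg ω h0)⁻¹ * (up (b / (ω ^ 2 - 1)))⁻¹ = up b := by
      rw [dg_up, mul_inv_cancel_right, up_inv, up_mul]
      congr 1
      field_simp
      ring
    rwa [e] at h3
  have hlo : ∀ b, lo b ∈ K := by
    intro b
    have h3 := hK (dg ω h0)⁻¹ (lo (b / (ω ^ 2 - 1)))
    have e1 : (dg ω h0)⁻¹ * lo (b / (ω ^ 2 - 1)) = lo (ω ^ 2 * (b / (ω ^ 2 - 1))) * (dg ω h0)⁻¹ := by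
      rw [inv_mul_eq_iff_eq_mul, ← mul_assoc, eq_mul_inv_iff_mul_eq]
      refine ext_ent ?_ ?_ ?_ ?_ <;> simp [ent_mul]
      field_simp
    have e : (dg ω h0)⁻¹ * lo (b / (ω ^ 2 - 1)) * (dg ω h0)⁻¹⁻¹ * (lo (b / (ω ^ 2 - 1)))⁻¹ = lo b := by
      rw [e1, mul_inv_cancel_right, lo_inv, lo_mul]
      congr 1
      field_simp
      ring
    rwa [e] at h3
  obtain ⟨a, b, c, d, rfl⟩ := exists_up_lo A
  exact mul_mem (mul_mem (mul_mem (hup _) (hlo _)) (hup _)) (hlo _)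

omit [CharP F 2] in
/-- `[Fc, D₁] ≤ D` -/
theorem comm_D1_mem {i : Fin k} {x d : G} (hx : x ∈ Fc M i) (hd : d ∈ D1 M i) :
    x * d * x⁻¹ * d⁻¹ ∈ cv (S : Subgroup G) P := by
  obtain ⟨hxP, B, hB⟩ := hx
  rw [← eq_iff M (conj_mem_zl hxP hd.1) hd.1]
  funext j
  rw [hB.1 d hd.1 j]
  by_cases hj : j = i
  · subst hj
    rw [hd.2]
    apply ext2
    · rw [ap_zero']; simp
    · rw [ap_one']; simp
  · rw [one1_ne hj, ap_one]

include hG h hω in
/-- **`Fc` centralises `D₁`** -/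
theorem comm_D1 {i : Fin k} {x d : G} (hx : x ∈ Fc M i) (hd : d ∈ D1 M i) : x * d = d * x := by
  have hk : 0 < k := i.pos
  have hdV := hd.1
  let K : Subgroup (Matrix.SpecialLinearGroup (Fin 2) F) :=
    { carrier := {A | ∀ x ∈ P, ActsSL M.e (zl (S : Subgroup G) P) (cv (S : Subgroup G) P) x (one1 i A) → x * d = d * x}
      one_mem' := fun x hx hA => by
        rw [one1_one] at hA
        exact comm_of_acts_one hG S h M hk hx hA d hdV
      mul_mem' := by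
        intro A B hA hB x hx hAB
        obtain ⟨y, hy, hyB⟩ := M.lift (one1 i B)
        have h1 := acts_one1_mul S M hx (inv_mem hy) hAB (acts_one1_inv S M hy hyB)
        rw [mul_inv_cancel_right] at h1
        have h2 := hA _ (mul_mem hx (inv_mem hy)) h1
        have h3 := hB y hy hyB
        calc x * d = (x * y⁻¹) * (y * d) := by group
          _ = (x * y⁻¹) * (d * y) := by rw [h3]
          _ = (x * y⁻¹ * d) * y := by group
          _ = (d * (x * y⁻¹)) * y := by rw [h2]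
          _ = d * x := by group
      inv_mem' := by
        intro A hA x hx hA'
        have h1 := acts_one1_inv S M hx hA'
        rw [inv_inv] at h1
        have h2 := hA _ (inv_mem hx) h1
        calc x * d = x * (d * x⁻¹) * x := by group
          _ = x * (x⁻¹ * d) * x := by rw [h2]
          _ = d * x := by group }
  obtain ⟨hxP, B, hB⟩ := hx
  refine mem_of_comm hω K ?_ B x hxP hB
  clear hB hxP x B
  intro A B x hx hAB
  obtain ⟨a, ha, haA⟩ := M.lift (one1 i A)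
  obtain ⟨b, hb, hbB⟩ := M.lift (one1 i B)
  have hc := acts_one1_mul S M (mul_mem (mul_mem ha hb) (inv_mem ha)) (inv_mem hb)
    (acts_one1_mul S M (mul_mem ha hb) (inv_mem ha) (acts_one1_mul S M ha hb haA hbB) (acts_one1_inv S M ha haA))
    (acts_one1_inv S M hb hbB)
  have hcP : a * b * a⁻¹ * b⁻¹ ∈ P := mul_mem (mul_mem (mul_mem ha hb) (inv_mem ha)) (inv_mem hb)
  have h1 := comm_of_acts_eq hG S h M hk hcP hx hc hAB d hdV
  -- `[a, b]` commutes with `d`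
  have hinv : ∀ y ∈ P, ∀ C, ActsSL M.e (zl (S : Subgroup G) P) (cv (S : Subgroup G) P) y (one1 i C) →
      ∃ δ ∈ cv (S : Subgroup G) P, y * d * y⁻¹ = δ * d := by
    intro y hy C hC
    exact ⟨_, comm_D1_mem S M ⟨hy, C, hC⟩ hd, by group⟩
  obtain ⟨α, hα, eα⟩ := hinv a ha A haA
  obtain ⟨β, hβ, eβ⟩ := hinv b hb B hbB
  have aβ := haA.2 β hβ
  have bα := hbB.2 α hα
  have hαβ : α * β = β * α := V_comm hG S h (cv_le _ _ hα) (cv_le _ _ hβ)
  have e1 : a * b * d * (a * b)⁻¹ = α * β * d := by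
    calc a * b * d * (a * b)⁻¹ = a * (b * d * b⁻¹) * a⁻¹ := by group
      _ = (a * β) * d * a⁻¹ := by rw [eβ]; group
      _ = β * (a * d * a⁻¹) := by rw [aβ]; group
      _ = β * α * d := by rw [eα]; group
      _ = _ := by rw [hαβ]
  have e2 : b * a * d * (b * a)⁻¹ = α * β * d := by
    calc b * a * d * (b * a)⁻¹ = b * (a * d * a⁻¹) * b⁻¹ := by group
      _ = (b * α) * d * b⁻¹ := by rw [eα]; group
      _ = α * (b * d * b⁻¹) := by rw [bα]; group
      _ = _ := by rw [eβ]; group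
  have e3 : a * b * a⁻¹ * b⁻¹ * (α * β * d) = α * β * d * (a * b * a⁻¹ * b⁻¹) := by
    calc a * b * a⁻¹ * b⁻¹ * (α * β * d) = a * b * a⁻¹ * b⁻¹ * (b * a * d * (b * a)⁻¹) := by rw [e2]
      _ = (a * b * d * (a * b)⁻¹) * (a * b * a⁻¹ * b⁻¹) := by group
      _ = _ := by rw [e1]
  -- `[a, b]` commutes with `α β ∈ D`
  have e4 := hc.2 (α * β) (mul_mem hα hβ)
  have e5 : a * b * a⁻¹ * b⁻¹ * d = d * (a * b * a⁻¹ * b⁻¹) := by
    obtain ⟨c, hc'⟩ : ∃ c, c = a * b * a⁻¹ * b⁻¹ := ⟨_, rfl⟩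
    rw [← hc'] at e3 e4 ⊢
    have : α * β * (c * d) = α * β * (d * c) := by
      calc α * β * (c * d) = (α * β * c) * d := by group
        _ = (c * (α * β)) * d := by rw [e4]
        _ = c * (α * β * d) := by group
        _ = α * β * d * c := e3
        _ = _ := by group
    exact mul_left_cancel this
  calc x * d = a * b * a⁻¹ * b⁻¹ * ((a * b * a⁻¹ * b⁻¹)⁻¹ * x * d) := by group
    _ = a * b * a⁻¹ * b⁻¹ * (d * ((a * b * a⁻¹ * b⁻¹)⁻¹ * x)) := by rw [h1]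
    _ = (a * b * a⁻¹ * b⁻¹ * d) * ((a * b * a⁻¹ * b⁻¹)⁻¹ * x) := by group
    _ = (d * (a * b * a⁻¹ * b⁻¹)) * ((a * b * a⁻¹ * b⁻¹)⁻¹ * x) := by rw [e5]
    _ = d * x := by group

omit [Finite G] in
theorem ap_ext {A B : Matrix.SpecialLinearGroup (Fin 2) F} (h : ∀ x, ap A x = ap B x) : A = B := by
  have h1 : B⁻¹ * A = 1 := ap_eq_one fun x => by rw [ap_mul, h x, ap_inv_ap]
  exact (inv_mul_eq_one.1 h1).symm

include hG h hω in
/-- **Lemma R**: an element of `P` which is trivial on `V / D₁` centralises `N₁` -/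
theorem comm_Nc_of {i : Fin k} {x : G} (hx : x ∈ P)
    (hc : ∀ v ∈ zl (S : Subgroup G) P, M.e (x * v * x⁻¹) i = M.e v i) : ∀ n ∈ Nc M i, x * n = n * x := by
  have hk : 0 < k := i.pos
  have hxS : x ∈ St M i := ⟨hx, fun v hv => by rw [hc v hv]⟩
  intro n hn
  unfold Nc at hn
  induction hn using closure_induction with
  | mem n hn =>
    obtain ⟨e, he, v, hv, rfl⟩ := hn
    obtain ⟨heP, B, hB⟩ := id he
    obtain ⟨-, C, hC⟩ := St_conj_Fc M hxS he
    have hCB : C = B := by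
      apply ap_ext
      intro y
      obtain ⟨u, hu, e1, -⟩ := exists_single M i y
      have hw : x⁻¹ * u * x ∈ zl (S : Subgroup G) P := by
        have := conj_mem_zl (inv_mem hx) hu
        rwa [inv_inv] at this
      have h1 := hC.1 u hu i
      have e2 : x * e * x⁻¹ * u * (x * e * x⁻¹)⁻¹ = x * (e * (x⁻¹ * u * x) * e⁻¹) * x⁻¹ := by group
      have h2 := hc _ hw
      have e3 : x * (x⁻¹ * u * x) * x⁻¹ = u := by group
      rw [e3] at h2
      rw [e2, hc _ (conj_mem_zl heP hw), hB.1 _ hw i, one1_same, one1_same, ← h2, e1] at h1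
      exact h1.symm
    rw [hCB] at hC
    have h1 := comm_of_acts_eq hG S h M hk heP (mul_mem (mul_mem hx heP) (inv_mem hx)) hB hC
    -- `[x, v] ∈ D₁`
    have hxv := conj_mem_zl hx hv
    have hdm : x * v * x⁻¹ * v⁻¹ ∈ D1 M i :=
      ⟨mul_mem hxv (inv_mem hv), by rw [e_div M hxv hv, Pi.sub_apply, hc v hv, sub_self]⟩
    have h2 := comm_D1 hG S h M hω he hdm
    obtain ⟨d, hd⟩ : ∃ d, d = x * v * x⁻¹ * v⁻¹ := ⟨_, rfl⟩
    obtain ⟨c, hcd⟩ : ∃ c, c = e⁻¹ * (x * e * x⁻¹) := ⟨_, rfl⟩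
    rw [← hd] at h2 hdm
    have e1 : x * v * x⁻¹ = d * v := by rw [hd]; group
    have e2 : x * e * x⁻¹ = e * c := by rw [hcd]; group
    have h3 : c * (d * v) = (d * v) * c := by rw [hcd, ← e1]; exact h1 _ hxv
    have hev := conj_mem_zl heP hv
    have h4 : d * (e * v * e⁻¹ * v⁻¹) = e * v * e⁻¹ * v⁻¹ * d :=
      V_comm hG S h hdm.1 (mul_mem hev (inv_mem hv))
    have e3 : x * (e * v * e⁻¹ * v⁻¹) * x⁻¹ = e * v * e⁻¹ * v⁻¹ := by
      calc x * (e * v * e⁻¹ * v⁻¹) * x⁻¹ = (x * e * x⁻¹) * (x * v * x⁻¹) * (x * e * x⁻¹)⁻¹ * (x * v * x⁻¹)⁻¹ := by group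
        _ = e * (c * (d * v)) * c⁻¹ * e⁻¹ * (d * v)⁻¹ := by rw [e1, e2]; group
        _ = (e * d) * v * e⁻¹ * v⁻¹ * d⁻¹ := by rw [h3]; group
        _ = d * (e * v * e⁻¹ * v⁻¹) * d⁻¹ := by rw [h2]; group
        _ = _ := by rw [h4]; group
    exact mul_inv_eq_iff_eq_mul.1 e3
  | one => rw [mul_one, one_mul]
  | mul v w _ _ h1 h2 => rw [← mul_assoc, h1, mul_assoc, h2, mul_assoc]
  | inv v _ h1 =>
    calc x * v⁻¹ = v⁻¹ * (v * x) * v⁻¹ := by group
      _ = v⁻¹ * (x * v) * v⁻¹ := by rw [h1]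
      _ = v⁻¹ * x := by group

include hG h hω in
/-- rigidity of `N₁` -/
theorem comm_Nc {i : Fin k} {x : G} (hx : x ∈ St M i)
    (hc : ∀ v ∈ Nc M i, M.e (x * v * x⁻¹) i = M.e v i) : ∀ n ∈ Nc M i, x * n = n * x := by
  refine comm_Nc_of hG S h M hω hx.1 fun v hv => ?_
  obtain ⟨n, hn, d, hd, rfl⟩ := exists_Nc_D1 M i hv
  have hnV := Nc_le M i hn
  have e1 : x * (n * d) * x⁻¹ = x * n * x⁻¹ * (x * d * x⁻¹) := by group
  rw [e1, M.mul _ (conj_mem_zl hx.1 hnV) _ (conj_mem_zl hx.1 hd.1), M.mul _ hnV _ hd.1, Pi.add_apply, Pi.add_apply,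
    hc n hn, (St_conj_D1 M hx hd).2, hd.2]

/-! ### `Qc`, `Ec`, `Lc` -/

omit [Finite G] [CharP F 2] in
theorem Tc_norm_Qc (i : Fin k) : ∀ t ∈ Tc M i, ∀ q ∈ Qc M i, t * q * t⁻¹ ∈ Qc M i := by
  intro t ht q hq
  refine mem_inf.2 ⟨mul_mem (mul_mem ht hq.1) (inv_mem ht), mem_centralizer_iff.2 fun n hn => ?_⟩
  have h1 := St_conj_Nc M (inv_mem (Tc_le_St M i ht)) hn
  rw [inv_inv] at h1
  have h2 := mem_centralizer_iff.1 hq.2 _ h1
  calc n * (t * q * t⁻¹) = t * (t⁻¹ * n * t * q) * t⁻¹ := by group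
    _ = t * (q * (t⁻¹ * n * t)) * t⁻¹ := by rw [h2]
    _ = t * q * t⁻¹ * n := by group

omit [Finite G] [CharP F 2] in
theorem Tc_le_norm_Qc (i : Fin k) : Tc M i ≤ normalizer (Qc M i : Set G) :=
  le_normalizer_of_conj (Tc_norm_Qc S M i)

omit [Finite G] [CharP F 2] in
theorem Ec_le (i : Fin k) : Ec M i ≤ Fc M i := inf_le_left

omit [Finite G] [CharP F 2] in
theorem Lc_le_St (i : Fin k) : Lc M i ≤ St M i := sup_le (Tc_le_St M i) ((Ec_le S M i).trans (Fc_le_St M i))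

omit [Finite G] [CharP F 2] in
theorem Lc_le_norm_Qc (i : Fin k) : Lc M i ≤ normalizer (Qc M i : Set G) := sup_le (Tc_le_norm_Qc S M i) inf_le_right

omit [Finite G] [CharP F 2] in
theorem Tc_norm_Ec (i : Fin k) : Tc M i ≤ normalizer (Ec M i : Set G) :=
  le_normalizer_of_conj fun _ ht _ hx => mem_inf.2 ⟨St_conj_Fc M (Tc_le_St M i ht) hx.1,
    mul_mem (mul_mem (Tc_le_norm_Qc S M i ht) hx.2) (inv_mem (Tc_le_norm_Qc S M i ht))⟩

include hG h in
theorem V_le_S : zl (S : Subgroup G) P ≤ (S : Subgroup G) :=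
  ((h.isLoc.zl_le S hG).trans (MinSimple.VModule.zc_le _)).trans (h.isLoc.o2_le S)

include hG h hω in
/-- an element of `Fc` which centralises `N₁` centralises `V` -/
theorem comm_V_of_Fc {i : Fin k} {x : G} (hx : x ∈ Fc M i) (hc : ∀ n ∈ Nc M i, x * n = n * x) :
    ∀ v ∈ zl (S : Subgroup G) P, x * v = v * x := by
  intro v hv
  obtain ⟨n, hn, d, hd, rfl⟩ := exists_Nc_D1 M i hv
  rw [← mul_assoc, hc n hn, mul_assoc, comm_D1 hG S h M hω hx hd, mul_assoc]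

include hG h hω in
/-- **Frattini**: `Ec` covers `Fc` modulo `C(V)` -/
theorem exists_Ec {i : Fin k} {x : G} (hx : x ∈ Fc M i) :
    ∃ y ∈ Ec M i, ∀ v ∈ zl (S : Subgroup G) P, y * v * y⁻¹ = x * v * x⁻¹ := by
  set C : Subgroup G := P ⊓ centralizer (zl (S : Subgroup G) P : Set G) with hC
  have hCP : C ≤ P := inf_le_left
  have hPC : P ≤ normalizer (C : Set G) := by
    refine le_normalizer_of_conj fun t ht c hc => mem_inf.2 ⟨mul_mem (mul_mem ht hc.1) (inv_mem ht), ?_⟩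
    rw [mem_centralizer_iff]
    intro v hv
    have h1 := conj_mem_zl (inv_mem ht) hv
    rw [inv_inv] at h1
    have h2 := mem_centralizer_iff.1 hc.2 _ h1
    calc v * (t * c * t⁻¹) = t * (t⁻¹ * v * t * c) * t⁻¹ := by group
      _ = t * (c * (t⁻¹ * v * t)) * t⁻¹ := by rw [h2]
      _ = t * c * t⁻¹ * v := by group
  have hCF : C ≤ Fc M i := by
    intro c hc
    refine ⟨hc.1, 1, ?_⟩
    rw [one1_one]
    have h1 := fun v (hv : v ∈ zl (S : Subgroup G) P) => (mem_centralizer_iff.1 hc.2 v hv).symm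
    refine ⟨fun v hv j => ?_, fun d hd => h1 d (cv_le _ _ hd)⟩
    rw [h1 v hv, mul_inv_cancel_right, ap_one]
  have hQP : Qc M i ≤ P := fun q hq => (St_le M i) (Tc_le_St M i hq.1)
  have hxP := Fc_le M i hx
  -- the group `X = C Q₁`
  set X : Subgroup G := C ⊔ Qc M i with hX
  have hQX : Qc M i ≤ X := le_sup_right
  have hQ2 : IsPGroup 2 (Qc M i) := S.isPGroup'.to_le (inf_le_left.trans (Tc_le M i))
  have hCS : ¬ 2 ∣ (S : Subgroup G).relIndex C := by
    have h1 : (C.subgroupOf P).Normal := normal_subgroupOf_iff_le_normalizer hCP |>.2 hPC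
    have h2 : Fact (Nat.Prime 2) := ⟨Nat.prime_two⟩
    have h3 := Lib.SylowNormalInf.not_dvd_relIndex (S.subtype h.le) (C.subgroupOf P)
    have h4 : ((S.subtype h.le : Sylow 2 P) : Subgroup P) = (S : Subgroup G).subgroupOf P := rfl
    rw [h4, relIndex_subgroupOf hCP] at h3
    exact h3
  have hSC : (S : Subgroup G) ⊓ C ≤ Qc M i := by
    rintro s ⟨hs, hc⟩
    have h1 := fun v (hv : v ∈ zl (S : Subgroup G) P) => (mem_centralizer_iff.1 hc.2 v hv).symm
    refine mem_inf.2 ⟨⟨⟨hs, hc.1⟩, fun v hv => ?_⟩, mem_centralizer_iff.2 fun n hn => (h1 n (Nc_le M i hn)).symm⟩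
    rw [h1 v hv, mul_inv_cancel_right]
  have ho : ¬ 2 ∣ (Qc M i).relIndex X := by
    rw [hX, relIndex_sup_norm (hQP.trans hPC)]
    intro h0
    apply hCS
    rw [← inf_relIndex_right] at h0 ⊢
    have h1 : (S : Subgroup G) ⊓ C ≤ Qc M i ⊓ C := le_inf hSC inf_le_right
    exact h0.trans (relIndex_dvd_of_le_left _ h1)
  -- the conjugate
  set Q' : Subgroup G := (Qc M i).map (MulAut.conj x).toMonoidHom with hQ'
  have hQ'X : Q' ≤ X := by
    rintro _ ⟨q, hq, rfl⟩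
    change x * q * x⁻¹ ∈ X
    have hqS := Tc_le_St M i hq.1
    have h1 : x * q * x⁻¹ * q⁻¹ ∈ Fc M i := by
      have h2 := St_conj_Fc M hqS (inv_mem hx)
      have e : x * q * x⁻¹ * q⁻¹ = x * (q * x⁻¹ * q⁻¹) := by group
      rw [e]
      exact mul_mem hx h2
    have h2 : ∀ n ∈ Nc M i, x * q * x⁻¹ * q⁻¹ * n = n * (x * q * x⁻¹ * q⁻¹) := by
      intro n hn
      have h3 := St_conj_Nc M (inv_mem (Fc_le_St M i hx)) hn
      rw [inv_inv] at h3
      have h4 := mem_centralizer_iff.1 hq.2 _ h3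
      have h5 := mem_centralizer_iff.1 hq.2 _ hn
      have h6 : x * q * x⁻¹ * n = n * (x * q * x⁻¹) := by
        calc x * q * x⁻¹ * n = x * (q * (x⁻¹ * n * x)) * x⁻¹ := by group
          _ = x * (x⁻¹ * n * x * q) * x⁻¹ := by rw [h4]
          _ = n * (x * q * x⁻¹) := by group
      calc x * q * x⁻¹ * q⁻¹ * n = x * q * x⁻¹ * (q⁻¹ * (n * q) * q⁻¹) := by group
        _ = x * q * x⁻¹ * (q⁻¹ * (q * n) * q⁻¹) := by rw [h5]
        _ = x * q * x⁻¹ * n * q⁻¹ := by group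
        _ = n * (x * q * x⁻¹ * q⁻¹) := by rw [h6]; group
    have h3 := comm_V_of_Fc hG S h M hω h1 h2
    have h4 : x * q * x⁻¹ * q⁻¹ ∈ C :=
      mem_inf.2 ⟨Fc_le M i h1, mem_centralizer_iff.2 fun v hv => (h3 v hv).symm⟩
    have e : x * q * x⁻¹ = x * q * x⁻¹ * q⁻¹ * q := by group
    rw [e]
    exact mul_mem ((le_sup_left : C ≤ X) h4) (hQX hq)
  have hcard : Nat.card Q' = Nat.card (Qc M i) :=
    Nat.card_congr ((Qc M i).equivMapOfInjective _ (MulAut.conj x).injective).symm.toEquiv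
  have ho' : ¬ 2 ∣ Q'.relIndex X := by
    have h1 := Lib.SylowNormalInf.card_mul_relIndex Q' X hQ'X
    have h2 := Lib.SylowNormalInf.card_mul_relIndex (Qc M i) X hQX
    rw [hcard, ← h2] at h1
    rw [Nat.eq_of_mul_eq_mul_left Nat.card_pos h1]
    exact ho
  have hQ'2 : IsPGroup 2 Q' := hQ2.map _
  obtain ⟨y, hy, hyQ⟩ := exists_conj_sylow hQX hQ'X hQ2 hQ'2 ho ho'
  -- `y = q c`
  have hy' : y ∈ ((X : Subgroup G) : Set G) := hy
  rw [hX, sup_comm, coe_mul_of_left_le_normalizer_right _ _ (hQP.trans hPC)] at hy'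
  obtain ⟨q, hq, c, hc, rfl⟩ := hy'
  have hcP := hCP hc
  refine ⟨c * x, mem_inf.2 ⟨mul_mem (hCF hc) hx, ?_⟩, fun v hv => ?_⟩
  · have h1 : (q * c * x)⁻¹ ∈ normalizer (Qc M i : Set G) := by
      rw [mem_normalizer_iff]
      intro g
      rw [hyQ g, hQ', mem_map_equiv]
      have e : (MulAut.conj x).symm ((q * c)⁻¹ * g * (q * c)) = (q * c * x)⁻¹ * g * (q * c * x)⁻¹⁻¹ := by
        rw [MulAut.conj_symm_apply]; group
      rw [e]
    have h2 := mul_mem (inv_mem (le_normalizer hq)) (inv_mem h1)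
    have e : q⁻¹ * (q * c * x)⁻¹⁻¹ = c * x := by group
    rwa [e] at h2
  · have h1 := mem_centralizer_iff.1 hc.2 _ (conj_mem_zl hxP hv)
    have e : c * x * v * (c * x)⁻¹ = c * (x * v * x⁻¹) * c⁻¹ := by group
    rw [e, ← h1]
    group

end par

/-! ### `SideS` from a `NatOver` -/

open Cfsg.Agent.Omega.HOne.NSMod Cfsg.Agent.Omega.HOne.NSSide Cfsg.Agent.Omega.HOne.NSPair

section gen

variable {G : Type u} [Group G] {F : Type} [Field F] [Finite F] [CharP F 2] {T L A U B : Subgroup G}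

/-- a 2-element acting semilinearly on `A / U` and trivially on the line `{(0, c)}` acts as `lo b` -/
theorem lin_of (N : NatOver F L A U) (r : Rig L A U N.e) (h2 : IsPGroup 2 T) (TL : T ≤ L) {s : G} (hs : s ∈ T)
    (h1 : ∀ v ∈ A, N.e v 0 = 0 → N.e (s * v * s⁻¹) = N.e v) :
    ∃ b, ∀ v ∈ A, N.e (s * v * s⁻¹) = ap (lo b) (N.e v) := by
  set N' := Cfsg.Agent.Omega.HOne.toSec N r.DV (fun _ hh _ hv => r.Vn _ hh _ hv) (fun _ hh _ hv => r.Dn _ hh _ hv) with hN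
  have hsP : s ∈ L := TL hs
  obtain ⟨σ, hσ⟩ := N'.exists_semi hsP
  have hfix : ∀ c : F, N'.act s ![0, c] = ![0, c] := by
    intro c
    obtain ⟨v, hv, e⟩ := N.surj ![0, c]
    have h2 := N'.act_π hsP hv
    change N'.act s (N.e v) = N.e _ at h2
    rw [e, h1 v hv (by rw [e]; simp), e] at h2
    exact h2
  have hσ1 : ∀ c, σ c = c := by
    intro c
    have h2 := hσ c ![0, 1]
    have e1 : (c • ![0, 1] : Fin 2 → F) = ![0, c] := by apply ext2 <;> simp
    rw [e1, hfix, hfix] at h2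
    have := congrFun h2 1
    simp at this
    exact this.symm
  have hsm : ∀ (c : F) x, N'.act s (c • x) = c • N'.act s x := fun c x => by rw [hσ, hσ1]
  obtain ⟨d, b, hdb⟩ : ∃ d b, N'.act s ![1, 0] = ![d, b] := ⟨N'.act s ![1, 0] 0, N'.act s ![1, 0] 1, by
    apply ext2 <;> simp⟩
  have hform : ∀ x : Fin 2 → F, N'.act s x = ![d * x 0, b * x 0 + x 1] := by
    intro x
    have e1 : x = x 0 • ![1, 0] + ![0, x 1] := by apply ext2 <;> simp
    have h2 := N'.act_add hsP (x 0 • ![1, 0]) ![0, x 1]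
    rw [← e1, hsm, hfix, hdb] at h2
    rw [h2]
    apply ext2
    · simp [mul_comm]
    · simp [mul_comm]
  have hpow : ∀ k : ℕ, ∀ x, N'.act (s ^ k) x 0 = d ^ k * x 0 := by
    intro k
    induction k with
    | zero => intro x; rw [pow_zero, N'.act_one, pow_zero, one_mul]
    | succ k ih =>
      intro x
      rw [pow_succ', N'.act_mul hsP (pow_mem hsP k), hform]
      change d * N'.act (s ^ k) x 0 = _
      rw [ih, pow_succ']; ring
  obtain ⟨k, hk⟩ := h2 ⟨s, hs⟩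
  have hk' : s ^ 2 ^ k = 1 := by simpa using congrArg Subtype.val hk
  have hd1 : d = 1 := by
    have h2 := hpow (2 ^ k) ![1, 0]
    rw [hk', N'.act_one] at h2
    simp only [Matrix.cons_val_zero, mul_one] at h2
    have h4 : (d - 1) ^ 2 ^ k = 0 := by
      rw [sub_pow_char_pow, ← h2, one_pow, sub_self]
    exact sub_eq_zero.1 (pow_eq_zero_iff (pow_ne_zero k two_ne_zero) |>.1 h4)
  refine ⟨b, fun v hv => ?_⟩
  have h2 := N'.act_π hsP hv
  change N'.act s (N.e v) = N.e _ at h2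
  rw [← h2, hform, ap_lo, hd1, one_mul]

/-- a 2-element acting linearly and fixing the line `{(0, c)}` acts as `lo b` -/
theorem fz_of {π : G → Fin 2 → F} (r : Rig L A U π) (h2 : IsPGroup 2 T) {y : G} (hy : y ∈ T)
    {B : Matrix.SpecialLinearGroup (Fin 2) F} (hB : Is L A U π y B)
    (hl : ∀ v ∈ A, π v 0 = 0 → π (y * v * y⁻¹) 0 = 0) : ∃ b, B = lo b := by
  obtain ⟨v, hv, e⟩ := r.surj ![0, 1]
  have h3 := hl v hv (by rw [e]; simp)
  rw [hB.act v hv, e, ap_zero'] at h3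
  simp only [Matrix.cons_val_zero, Matrix.cons_val_one, mul_one, mul_zero, zero_add] at h3
  have hd := det_eq B
  rw [h3, zero_mul, sub_zero] at hd
  obtain ⟨m, hm⟩ := h2 ⟨y, hy⟩
  have hm' : y ^ 2 ^ m = 1 := by simpa using congrArg Subtype.val hm
  have hpow : ∀ n : ℕ, Is L A U π (y ^ n) (B ^ n) := by
    intro n
    induction n with
    | zero => rw [pow_zero, pow_zero]; exact r.is_one
    | succ n ih => rw [pow_succ, pow_succ]; exact r.is_mul ih hB
  have h01 : ∀ n : ℕ, ent (B ^ n) 0 1 = 0 ∧ ent (B ^ n) 0 0 = ent B 0 0 ^ n := by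
    intro n
    induction n with
    | zero => rw [pow_zero, pow_zero]; exact ⟨rfl, rfl⟩
    | succ n ih =>
      rw [pow_succ, ent_mul, ent_mul, ih.1, ih.2, h3]
      constructor
      · ring
      · ring
  have h4 := hpow (2 ^ m)
  rw [hm'] at h4
  obtain ⟨w, hw, ew⟩ := r.surj ![1, 0]
  have h5 := h4.act w hw
  rw [one_mul, inv_one, mul_one, ew] at h5
  have h6 := congrFun h5 0
  rw [ap_zero'] at h6
  simp only [Matrix.cons_val_zero, Matrix.cons_val_one, mul_one, mul_zero, add_zero] at h6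
  rw [(h01 _).2] at h6
  have h7 : ent B 0 0 = 1 := by
    have h8 : (ent B 0 0 - 1) ^ 2 ^ m = 0 := by
      rw [sub_pow_char_pow, ← h6, one_pow, sub_self]
    exact sub_eq_zero.1 (pow_eq_zero_iff (pow_ne_zero m two_ne_zero) |>.1 h8)
  rw [h7, one_mul] at hd
  refine ⟨ent B 1 0, ext_ent ?_ ?_ ?_ ?_⟩
  · rw [lo_00, h7]
  · rw [lo_01, h3]
  · rw [lo_10]
  · rw [lo_11, hd]

end gen

/-! ### `N₁ / U₁` as a natural module for `L₁` -/

section nat

variable {G : Type u} [Group G] [Finite G] (hG : IsCharacteristicTwoType G) (S : Sylow 2 G) {P : Subgroup G}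
  (h : IsParS (S : Subgroup G) P) {F : Type} [Field F] [CharP F 2] {k : ℕ}
  (M : NatK F (S : Subgroup G) P (zl (S : Subgroup G) P) (cv (S : Subgroup G) P) k)
  (hω : ∃ ω : F, ω ≠ 0 ∧ ω ≠ 1)

/-- The coordinates on `N₁` : `(x, y) ↦ (y, x)` of those of `M`, so that the root elements of `S` become `lo b`. -/
def pc (i : Fin k) (v : G) : Fin 2 → F := ap (wm 1 one_ne_zero) (M.e v i)

omit [Finite G] in
theorem pc_zero (i : Fin k) (v : G) : pc S M i v 0 = M.e v i 1 := by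
  rw [pc, Cfsg.Agent.Omega.HOne.NSMod.ap_wm]; simp

omit [Finite G] [CharP F 2] in
theorem ap_eq_zero (A : Matrix.SpecialLinearGroup (Fin 2) F) {x : Fin 2 → F} : ap A x = 0 ↔ x = 0 := by
  have h0 : ∀ B : Matrix.SpecialLinearGroup (Fin 2) F, ap B 0 = 0 := fun B => by
    apply ext2
    · rw [ap_zero']; simp
    · rw [ap_one']; simp
  constructor
  · intro h
    have h1 := ap_inv_ap A x
    rw [h, h0] at h1
    exact h1.symm
  · rintro rfl
    exact h0 A

omit [Finite G] [CharP F 2] in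
theorem pc_eq_zero {i : Fin k} {v : G} : pc S M i v = 0 ↔ M.e v i = 0 := ap_eq_zero _

omit [Finite G] [CharP F 2] in
theorem pc_eq_iff {i : Fin k} {v w : G} : pc S M i v = pc S M i w ↔ M.e v i = M.e w i := by
  constructor
  · intro h
    have h1 := congrArg (ap (wm 1 one_ne_zero)⁻¹) h
    rwa [pc, pc, ap_inv_ap, ap_inv_ap] at h1
  · intro h
    rw [pc, pc, h]

omit [Finite G] [CharP F 2] in
theorem pc_mul {i : Fin k} {v w : G} (hv : v ∈ zl (S : Subgroup G) P) (hw : w ∈ zl (S : Subgroup G) P) :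
    pc S M i (v * w) = pc S M i v + pc S M i w := by
  rw [pc, M.mul v hv w hw, Pi.add_apply, ap_add]; rfl

omit [Finite G] [CharP F 2] in
/-- the action in the coordinates `pc` -/
theorem pc_act {i : Fin k} {x v : G} {B : Matrix.SpecialLinearGroup (Fin 2) F}
    (hB : M.e (x * v * x⁻¹) i = ap B (M.e v i)) :
    pc S M i (x * v * x⁻¹) = ap (wm 1 one_ne_zero * B * (wm 1 one_ne_zero)⁻¹) (pc S M i v) := by
  rw [pc, pc, hB, ap_mul, ap_mul, ap_inv_ap]

omit [Finite G] [CharP F 2] in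
theorem mem_Uc_iff {i : Fin k} {v : G} (hv : v ∈ Nc M i) : v ∈ Uc M i ↔ M.e v i = 0 := by
  constructor
  · intro h
    rw [e_cv M h.2]; rfl
  · intro h0
    refine mem_inf.2 ⟨hv, ?_⟩
    rw [← M.ker v (Nc_le M i hv)]
    funext j
    by_cases hj : j = i
    · subst hj; exact h0
    · exact e_Nc M hv hj

/-- `N₁ / U₁` -/
noncomputable def natOver (i : Fin k) : NatOver F (Lc M i) (Nc M i) (Uc M i) where
  e := pc S M i
  mul v hv w hw := pc_mul S M (Nc_le M i hv) (Nc_le M i hw)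
  surj x := by
    obtain ⟨v, hv, e⟩ := Nc_surj M i (ap (wm 1 one_ne_zero)⁻¹ x)
    exact ⟨v, hv, by rw [pc, e, ap_ap_inv]⟩
  ker v hv := by rw [pc_eq_zero, mem_Uc_iff S M hv]
  lift A := by
    obtain ⟨g, hg, hA⟩ := M.lift (one1 i ((wm 1 one_ne_zero)⁻¹ * A * wm 1 one_ne_zero))
    obtain ⟨y, hy, hyg⟩ := exists_Ec hG S h M hω (i := i) ⟨hg, _, hA⟩
    refine ⟨y, (le_sup_right : Ec M i ≤ _) hy, fun v hv => ?_, fun d hd => ?_⟩
    · rw [hyg v (Nc_le M i hv)]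
      have h1 := pc_act S M (hA.1 v (Nc_le M i hv) i)
      rw [one1_same] at h1
      rw [h1]
      congr 1
      group
    · obtain ⟨-, B, hB⟩ := hy.1
      exact hB.2 d hd.2
  norm g hg x hx A hA := by
    obtain ⟨x₀, hx₀, hA₀⟩ := M.lift (one1 i ((wm 1 one_ne_zero)⁻¹ * A * wm 1 one_ne_zero))
    have hgS := Lc_le_St S M i hg
    have hxS := Lc_le_St S M i hx
    have hxF : x₀ ∈ Fc M i := ⟨hx₀, _, hA₀⟩
    obtain ⟨-, B, hB⟩ := St_conj_Fc M hgS hxF
    refine ⟨wm 1 one_ne_zero * B * (wm 1 one_ne_zero)⁻¹, fun v hv => ?_⟩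
    have hw : g⁻¹ * v * g ∈ Nc M i := by
      have := St_conj_Nc M (inv_mem hgS) hv
      rwa [inv_inv] at this
    have h1 := hA _ hw
    have h2 := pc_act S M (hA₀.1 _ (Nc_le M i hw) i)
    rw [one1_same] at h2
    have e0 : wm 1 one_ne_zero * ((wm 1 one_ne_zero)⁻¹ * A * wm 1 one_ne_zero) * (wm 1 one_ne_zero)⁻¹ = A := by group
    rw [e0, ← h1] at h2
    have h3 := (pc_eq_iff S M).1 h2
    have m1 := St_conj_Nc M hxS hw
    have m2 := St_conj_Nc M (Fc_le_St M i hxF) hw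
    have h4 : (x₀ * (g⁻¹ * v * g) * x₀⁻¹) * (x * (g⁻¹ * v * g) * x⁻¹)⁻¹ ∈ D1 M i :=
      ⟨mul_mem (Nc_le M i m2) (inv_mem (Nc_le M i m1)), by
        rw [e_div M (Nc_le M i m2) (Nc_le M i m1), Pi.sub_apply, h3, sub_self]⟩
    have h5 := (St_conj_D1 M hgS h4).2
    have e1 : g * ((x₀ * (g⁻¹ * v * g) * x₀⁻¹) * (x * (g⁻¹ * v * g) * x⁻¹)⁻¹) * g⁻¹ =
        (g * x₀ * g⁻¹ * v * (g * x₀ * g⁻¹)⁻¹) * (g * x * g⁻¹ * v * (g * x * g⁻¹)⁻¹)⁻¹ := by group
    have m3 : g * x₀ * g⁻¹ * v * (g * x₀ * g⁻¹)⁻¹ ∈ Nc M i := by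
      have := St_conj_Nc M hgS m2
      have e : g * (x₀ * (g⁻¹ * v * g) * x₀⁻¹) * g⁻¹ = g * x₀ * g⁻¹ * v * (g * x₀ * g⁻¹)⁻¹ := by group
      rwa [e] at this
    have m4 : g * x * g⁻¹ * v * (g * x * g⁻¹)⁻¹ ∈ Nc M i := by
      have := St_conj_Nc M hgS m1
      have e : g * (x * (g⁻¹ * v * g) * x⁻¹) * g⁻¹ = g * x * g⁻¹ * v * (g * x * g⁻¹)⁻¹ := by group
      rwa [e] at this
    rw [e1, e_div M (Nc_le M i m3) (Nc_le M i m4), Pi.sub_apply, sub_eq_zero] at h5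
    rw [← (pc_eq_iff S M).2 h5]
    have h6 := pc_act S M (hB.1 v (Nc_le M i hv) i)
    rwa [one1_same] at h6

include hG h in
theorem V_sq {v : G} (hv : v ∈ zl (S : Subgroup G) P) : v * v = 1 := sq_zl hG S h hv

/-- **`Rig`** -/
theorem rig_of (i : Fin k) : Rig (Lc M i) (Nc M i) (Uc M i) (natOver hG S h M hω i).e where
  DV := inf_le_left
  Vn p hp _ hv := St_conj_Nc M (Lc_le_St S M i hp) hv
  Dn p hp _ hv := mem_inf.2 ⟨St_conj_Nc M (Lc_le_St S M i hp) hv.1, conj_mem_cv (Lc_le_St S M i hp).1 hv.2⟩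
  Vc _ hv _ hw := V_comm hG S h (Nc_le M i hv) (Nc_le M i hw)
  Vs _ hv := V_sq hG S h (Nc_le M i hv)
  mul := (natOver hG S h M hω i).mul
  surj := (natOver hG S h M hω i).surj
  ker := (natOver hG S h M hω i).ker
  lift A := by
    obtain ⟨g, hg, h1, h2⟩ := (natOver hG S h M hω i).lift A
    exact ⟨g, hg, h1, h2⟩
  norm := (natOver hG S h M hω i).norm
  rig x hx _ hV v hv :=
    comm_Nc hG S h M hω (Lc_le_St S M i hx) (fun v hv => (pc_eq_iff S M).1 (hV v hv)) v hv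

omit [Finite G] [CharP F 2] in
/-- `Tc M i` fixes the `i`-th line -/
theorem Tc_line {i : Fin k} {t : G} (ht : t ∈ Tc M i) {v : G} (hv : v ∈ zl (S : Subgroup G) P) :
    M.e (t * v * t⁻¹) i 1 = 0 ↔ M.e v i 1 = 0 := by
  obtain ⟨σ, hσ⟩ := M.line t ht.1.1
  have hi : σ i = i := by
    by_contra hne
    obtain ⟨w, hw, e1, e2⟩ := exists_single M i ![0, 1]
    have h1 := hσ w hw i
    rw [e1, St_zero M (Tc_le_St M i ht) hw e2 _ hne] at h1
    have := h1.1 rfl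
    simp at this
  have h1 := hσ v hv i
  rwa [hi] at h1

include hω in
/-- every element of `Fc` acting as `one1 i B` acts as `w B w⁻¹` in the coordinates `pc` -/
theorem is_of_acts {i : Fin k} {x : G} (hx : x ∈ Lc M i) {B : Matrix.SpecialLinearGroup (Fin 2) F}
    (hB : ActsSL M.e (zl (S : Subgroup G) P) (cv (S : Subgroup G) P) x (one1 i B)) :
    Is (Lc M i) (Nc M i) (Uc M i) (natOver hG S h M hω i).e x (wm 1 one_ne_zero * B * (wm 1 one_ne_zero)⁻¹) := by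
  refine ⟨hx, fun v hv => ?_, fun d hd => hB.2 d hd.2⟩
  have h1 := pc_act S M (hB.1 v (Nc_le M i hv) i)
  rwa [one1_same] at h1

omit [Finite G] in
theorem wm_up_eq (b : F) : wm (1 : F) one_ne_zero * up b * (wm 1 one_ne_zero)⁻¹ = lo b := by
  rw [wm_up, mul_inv_cancel_right]
  congr 1
  rw [one_pow, div_one]
  exact CharTwo.neg_eq b

/-- **`SideS`** for a subgroup `B ≤ T` which acts as the root group `{one1 i (up b)}`. -/
theorem sideS_of [Finite F] {i : Fin k} {B : Subgroup G} (hBT : B ≤ Tc M i)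
    (typ : ∀ a ∈ B, ∃ b, ActsSL M.e (zl (S : Subgroup G) P) (cv (S : Subgroup G) P) a (one1 i (up b)))
    (full : ∀ b, ∃ a ∈ B, ActsSL M.e (zl (S : Subgroup G) P) (cv (S : Subgroup G) P) a (one1 i (up b)))
    (cen : ∀ v ∈ Nc M i, M.e v i 1 = 0 → ∀ a ∈ B, a * v = v * a) :
    SideS (Tc M i) (Lc M i) (Nc M i) (Uc M i) B (natOver hG S h M hω i).e where
  r := rig_of hG S h M hω i
  SP := le_sup_left
  AS := hBT
  typ a ha := by
    obtain ⟨b, hb⟩ := typ a ha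
    refine ⟨b, ?_⟩
    have h1 := is_of_acts hG S h M hω ((le_sup_left : Tc M i ≤ Lc M i) (hBT ha)) hb
    rwa [wm_up_eq] at h1
  full b := by
    obtain ⟨a, ha, hb⟩ := full b
    refine ⟨a, ha, ?_⟩
    have h1 := is_of_acts hG S h M hω ((le_sup_left : Tc M i ≤ Lc M i) (hBT ha)) hb
    rwa [wm_up_eq] at h1
  cen v hv := by
    change _ ↔ pc S M i v 0 = 0
    rw [pc_zero]
    refine ⟨fun h1 => ?_, fun h1 a ha => cen v hv h1 a ha⟩
    obtain ⟨a, ha, hb⟩ := full 1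
    have h2 := hb.1 v (Nc_le M i hv) i
    rw [h1 a ha, mul_inv_cancel_right, one1_same] at h2
    have h3 := congrFun h2 0
    rw [ap_zero'] at h3
    simpa using h3
  fz y hy C hC := by
    refine fz_of (rig_of hG S h M hω i) (S.isPGroup'.to_le (Tc_le M i)) hy hC fun v hv h0 => ?_
    change pc S M i _ 0 = 0
    change pc S M i v 0 = 0 at h0
    rw [pc_zero] at h0 ⊢
    exact (Tc_line S M hy (Nc_le M i hv)).2 h0
  sec a ha h1 v hv := comm_Nc hG S h M hω (Tc_le_St M i ha) (fun v hv => (pc_eq_iff S M).1 (h1 v hv)) v hv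
  lin s hs h1 := lin_of (natOver hG S h M hω i) (rig_of hG S h M hω i) (S.isPGroup'.to_le (Tc_le M i)) le_sup_left hs h1

/-- **`Form`** with `N = N₁` -/
theorem exists_form [Finite F] {i : Fin k} {B : Subgroup G} {π : G → Fin 2 → F}
    (s : SideS (Tc M i) (Lc M i) (Nc M i) (Uc M i) B π) (hπ : π = (natOver hG S h M hω i).e) :
    ∃ e f g : F → G, Form (Lc M i) (Nc M i) (Uc M i) π e f g (Nc M i) := by
  have : Fintype F := Fintype.ofFinite F
  obtain ⟨e, f, g, N, φ⟩ := s.exists_form (fun b => by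
    obtain ⟨t, ht⟩ := (FiniteField.isSquare_of_char_two (ringChar.eq F 2) b)
    exact ⟨t, by rw [ht, pow_two]⟩) hω
  have hN : N = Nc M i := by
    apply le_antisymm (φ.NV s.r)
    unfold Nc
    rw [closure_le]
    rintro _ ⟨x, hx, v, hv, rfl⟩
    obtain ⟨y, hy, hyx⟩ := exists_Ec hG S h M hω hx
    obtain ⟨n, hn, d, hd, rfl⟩ := exists_Nc_D1 M i hv
    obtain ⟨hyP, C, hC⟩ := id hy.1
    have h1 := comm_D1 hG S h M hω hy.1 hd
    have hyL : y ∈ Lc M i := (le_sup_right : Ec M i ≤ _) hy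
    have h2 := is_of_acts hG S h M hω hyL hC
    rw [← hπ] at h2
    have h3 := φ.cN y _ h2 n hn
    have e1 : x * (n * d) * x⁻¹ * (n * d)⁻¹ = y * n * y⁻¹ * n⁻¹ := by
      rw [← hyx _ hv]
      calc y * (n * d) * y⁻¹ * (n * d)⁻¹ = y * n * (d * y⁻¹) * d⁻¹ * n⁻¹ := by group
        _ = y * n * (y⁻¹ * (y * d) * y⁻¹) * d⁻¹ * n⁻¹ := by group
        _ = y * n * (y⁻¹ * (d * y) * y⁻¹) * d⁻¹ * n⁻¹ := by rw [h1]
        _ = _ := by group
    rw [SetLike.mem_coe, e1]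
    exact h3
  subst hN
  exact ⟨e, f, g, φ⟩

/-! ### The index of `Tc` -/

omit [Finite G] [CharP F 2] in
/-- the place of the `i`-th factor is determined -/
theorem place_unique {i j j' : Fin k} {t : G} (ht : t ∈ P)
    (h1 : ∀ v ∈ zl (S : Subgroup G) P, M.e (t * v * t⁻¹) j = 0 ↔ M.e v i = 0)
    (h2 : ∀ v ∈ zl (S : Subgroup G) P, M.e (t * v * t⁻¹) j' = 0 ↔ M.e v i = 0) : j = j' := by
  by_contra hne
  obtain ⟨v, hv, e1, e2⟩ := exists_single M j ![1, 0]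
  have hw : t⁻¹ * v * t ∈ zl (S : Subgroup G) P := by
    have := conj_mem_zl (inv_mem ht) hv
    rwa [inv_inv] at this
  have e : t * (t⁻¹ * v * t) * t⁻¹ = v := by group
  have h3 := h1 _ hw
  have h4 := h2 _ hw
  rw [e, e1] at h3
  rw [e, e2 j' (Ne.symm hne), ← h3] at h4
  have := congrFun (h4.1 rfl) 0
  simp at this

omit [Finite G] [CharP F 2] in
include h in
/-- **`|S : Tc M i| = k`** -/
theorem relIndex_Tc (i : Fin k) : (Tc M i).relIndex (S : Subgroup G) = k := by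
  have hSP := h.le
  choose f hf using fun t : (S : Subgroup G) => (⟨M.perm t (hSP t.2) |>.choose i, fun v hv =>
    (M.perm t (hSP t.2)).choose_spec v hv i⟩ :
      ∃ j : Fin k, ∀ v ∈ zl (S : Subgroup G) P, M.e ((t : G) * v * (t : G)⁻¹) j = 0 ↔ M.e v i = 0)
  have key : ∀ s t : (S : Subgroup G), f s = f t ↔ s⁻¹ * t ∈ (Tc M i).subgroupOf (S : Subgroup G) := by
    intro s t
    rw [mem_subgroupOf]
    have hsP := hSP s.2
    have htP := hSP t.2
    constructor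
    · intro hst
      refine ⟨⟨mul_mem (inv_mem s.2) t.2, mul_mem (inv_mem hsP) htP⟩, fun v hv => ?_⟩
      change M.e ((s : G)⁻¹ * t * v * ((s : G)⁻¹ * t)⁻¹) i = 0 ↔ _
      have hw : (s : G)⁻¹ * t * v * ((s : G)⁻¹ * t)⁻¹ ∈ zl (S : Subgroup G) P :=
        conj_mem_zl (mul_mem (inv_mem hsP) htP) hv
      have h1 := hf s _ hw
      have e : (s : G) * ((s : G)⁻¹ * t * v * ((s : G)⁻¹ * t)⁻¹) * (s : G)⁻¹ = t * v * (t : G)⁻¹ := by group
      rw [e, hst, hf t v hv] at h1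
      exact h1.symm
    · intro hst
      refine place_unique (i := i) S M hsP (hf s) fun v hv => ?_
      have hx : s⁻¹ * t ∈ (Tc M i).subgroupOf (S : Subgroup G) := hst
      have h1 := (mem_Tc M).1 hst
      have hw : (t : G)⁻¹ * s * v * ((t : G)⁻¹ * s)⁻¹ ∈ zl (S : Subgroup G) P :=
        conj_mem_zl (mul_mem (inv_mem htP) hsP) hv
      have h2 := h1.2 _ hw
      have e : ((s⁻¹ * t : (S : Subgroup G)) : G) * ((t : G)⁻¹ * s * v * ((t : G)⁻¹ * s)⁻¹) *
          ((s⁻¹ * t : (S : Subgroup G)) : G)⁻¹ = v := by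
        rw [coe_mul, coe_inv]; group
      rw [e] at h2
      have h3 := hf t _ hw
      have e' : (t : G) * ((t : G)⁻¹ * s * v * ((t : G)⁻¹ * s)⁻¹) * (t : G)⁻¹ = s * v * (s : G)⁻¹ := by group
      rw [e', ← h2] at h3
      exact h3
  have hsurj : ∀ j, ∃ t, f t = j := by
    intro j
    obtain ⟨t, ht, h1⟩ := M.trans i j
    exact ⟨⟨t, ht⟩, place_unique (i := i) (j := f ⟨t, ht⟩) (j' := j) S M (hSP ht) (hf ⟨t, ht⟩) h1⟩
  have hq : Nat.card ((S : Subgroup G) ⧸ (Tc M i).subgroupOf (S : Subgroup G)) = Nat.card (Fin k) := by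
    refine Nat.card_congr (Equiv.ofBijective (Quotient.lift f fun a b hab => ?_) ⟨?_, ?_⟩)
    · exact (key a b).2 (QuotientGroup.leftRel_apply.1 hab)
    · intro a b
      induction a using QuotientGroup.induction_on
      induction b using QuotientGroup.induction_on
      intro hab
      exact QuotientGroup.eq.2 ((key _ _).1 hab)
    · intro j
      obtain ⟨t, ht⟩ := hsurj j
      exact ⟨(t : (S : Subgroup G) ⧸ (Tc M i).subgroupOf (S : Subgroup G)), ht⟩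
  rw [relIndex, index, hq, Nat.card_eq_fintype_card, Fintype.card_fin]

omit [CharP F 2] in
include h in
theorem card_Tc (i : Fin k) : Nat.card (S : Subgroup G) = k * Nat.card (Tc M i) := by
  have h1 := Lib.SylowNormalInf.card_mul_relIndex (Tc M i) (S : Subgroup G) (Tc_le M i)
  rw [relIndex_Tc S h M i] at h1
  rw [← h1, mul_comm]

/-! ### `Qc` is not commutative -/

omit [Finite G] in
theorem acts_up_one1 {j : Fin k} {t : G} {b : F}
    (ht : ActsSL M.e (zl (S : Subgroup G) P) (cv (S : Subgroup G) P) t fun l => up (if l = j then b else 0)) :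
    ActsSL M.e (zl (S : Subgroup G) P) (cv (S : Subgroup G) P) t (one1 j (up b)) := by
  have e : (fun l => up (if l = j then b else (0 : F))) = one1 j (up b) := by
    funext l
    by_cases hl : l = j
    · subst hl; rw [if_pos rfl, one1_same]
    · rw [if_neg hl, one1_ne hl, up_zero]
  rwa [e] at ht

include hG h hω in
/-- `Fc M j` centralises `Nc M i`, `i ≠ j` -/
theorem Fc_comm_Nc {i j : Fin k} (hij : i ≠ j) {x n : G} (hx : x ∈ Fc M j) (hn : n ∈ Nc M i) : x * n = n * x :=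
  comm_D1 hG S h M hω hx ⟨Nc_le M i hn, e_Nc M hn hij.symm⟩

omit [Finite G] [CharP F 2] in
/-- `Fc M j` stabilises the `i`-th factor -/
theorem Fc_le_St' {i j : Fin k} (hij : i ≠ j) : Fc M j ≤ St M i := by
  rintro x ⟨hx, B, hB⟩
  refine ⟨hx, fun v hv => ?_⟩
  rw [hB.1 v hv i, one1_ne hij, ap_one]

include hG h hω in
theorem Fc_inf_le_Qc {i j : Fin k} (hij : i ≠ j) {x : G} (hx : x ∈ Fc M j) (hxS : x ∈ (S : Subgroup G)) : x ∈ Qc M i :=
  mem_inf.2 ⟨(mem_Tc_iff M).2 ⟨hxS, Fc_le_St' S M hij hx⟩, mem_centralizer_iff.2 fun _ hn =>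
    (Fc_comm_Nc hG S h M hω hij hx hn).symm⟩

include hG h in
/-- `V ≤ Tc M i` -/
theorem V_le_Tc (i : Fin k) : zl (S : Subgroup G) P ≤ Tc M i := fun _ hv =>
  (mem_Tc_iff M).2 ⟨V_le_S hG S h hv, h.le (V_le_S hG S h hv), fun w hw => by
    rw [V_comm hG S h hv hw, mul_inv_cancel_right]⟩

include hG h in
/-- `V ≤ Qc M i` -/
theorem V_le_Qc (i : Fin k) : zl (S : Subgroup G) P ≤ Qc M i := fun _ hv =>
  mem_inf.2 ⟨V_le_Tc hG S h M i hv, mem_centralizer_iff.2 fun _ hn => V_comm hG S h (Nc_le M i hn) hv⟩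

include hG h hω in
/-- `Qc M i` is not commutative if `k > 1` -/
theorem exists_Qc_ne {i j : Fin k} (hij : i ≠ j) : ∃ x ∈ Qc M i, ∃ y ∈ Qc M i, x * y ≠ y * x := by
  obtain ⟨t, ht, hA⟩ := M.unip fun l => if l = j then 1 else 0
  have htP := h.le ht
  have hA' := acts_up_one1 S M hA
  obtain ⟨v, hv, e1, -⟩ := exists_single M j ![0, 1]
  refine ⟨t, Fc_inf_le_Qc hG S h M hω hij ⟨htP, _, hA'⟩ ht, v, V_le_Qc hG S h M i hv, fun hc => ?_⟩
  have h2 := hA'.1 v hv j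
  rw [hc, mul_inv_cancel_right, one1_same, e1] at h2
  have h3 := congrFun h2 0
  rw [ap_zero'] at h3
  simp at h3

end nat

end Cfsg.Agent.Omega.IId.Ns.Sd
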