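import Cfsg.Agent.Omega.IId.Ns.Rank
import Cfsg.Agent.Omega.IId.Ns.Side
import Cfsg.Agent.Omega.IId.Ns.Half
import Cfsg.Agent.Omega.IId.Ns.Core

/-!
# LEMMA H for sums of natural modules, all `k`

`M : NatK F S P (zl S P) (cv S P) k`, `F` has an element `≠ 0, 1`.

* `Lam M` = `S^L` : the elements of `S` acting as `fun i => up (b i)`; `cc M` its coordinates; `semi_i`;
  **`fr_of` : `Fr S (Lam M) (o2 P) (cc M)`** (elementary abelian sections of `S / O₂(P)` have order at most `q ^ k`);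
* `kern_of_norm` : a 2-subgroup of `P` normalised by the lifts of `SL₂(F)^k` lies in `O₂(P)`;
* **`le_o2_of_norm`** : a 2-subgroup of `G` normalised by the lifts lies in `O₂(P)`;
* **`V_le_zc` (H1b)** : `1 ≠ X ≤ cv S P` ==> `V ≤ Ω₁ Z(O₂(N_G(X)))`;
* **`six_of` (6)** : `x ∈ C_G(U)`, `[⟨V ^ C_G(U)⟩, x] ≤ U` ==> `[V, x] = 1`, for `U ≤ cv S P`.
(texts: helper219 #20172, helper51)
-/

set_option autoImplicit false
set_option linter.unusedSectionVars false

namespace Cfsg.Agent.Omega.IId.Ns.Rk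

open Subgroup Cfsg Cfsg.Agent.ZN Cfsg.Agent.ZN.ChoiceSit Cfsg.Agent.ZN.ChoiceBase Cfsg.Agent.Omega.MinPar
open Cfsg.Agent.Omega.FrameFF Cfsg.Agent.Omega.FFThm Cfsg.Agent.Lib.SL2Mat
open Cfsg.Agent.Omega.NatPair (ap ap_add ap_mul ap_one ap_inj ext2 ap_zero' ap_one' ap_inv_ap ap_ap_inv)
open Cfsg.Agent.Omega.HOne (cv_le conj_mem_zl conj_mem_cv three exists_ap_three_sub)
open Cfsg.Agent.Omega.IId.Cv Cfsg.Agent.Omega.HOne.NSClaim

universe u

variable {G : Type u} [Group G]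

/-- (as in MinSimple/Choice97) Normalizers grow in 2-groups: an element `s` of `P` outside `T` normalizing `T` with `s² ∈ T`. -/
theorem exists_normalizing [Finite G] {T P : Subgroup G} (hP : IsPGroup 2 P) (hTP : T < P) :
    ∃ s ∈ P, s ∈ normalizer (T : Set G) ∧ s ∉ T ∧ s * s ∈ T := by
  classical
  have hPn : Group.IsNilpotent P := hP.isNilpotent
  have hlt : T.subgroupOf P < ⊤ := by
    rw [lt_top_iff_ne_top]
    intro h
    rw [subgroupOf_eq_top] at h
    exact not_le_of_gt hTP h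
  have hnc : NormalizerCondition P := Group.normalizerCondition_of_isNilpotent
  have h1 := hnc _ hlt
  obtain ⟨x, hx1, hx2⟩ := SetLike.exists_of_lt h1
  -- the 2-power order modulo `T`
  have hx1' : (x : G) ∈ normalizer (T : Set G) := by
    rw [mem_normalizer_iff] at hx1 ⊢
    intro h
    constructor
    · intro hh
      have := (hx1 ⟨h, hTP.le hh⟩).1 hh
      exact this
    · intro hh
      have hmem : h ∈ P := by
        have h2 : (x : G)⁻¹ * ((x : G) * h * (x : G)⁻¹) * (x : G) ∈ P :=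
          P.mul_mem (P.mul_mem (P.inv_mem x.2) (hTP.le hh)) x.2
        have e : (x : G)⁻¹ * ((x : G) * h * (x : G)⁻¹) * (x : G) = h := by group
        rwa [e] at h2
      exact (hx1 ⟨h, hmem⟩).2 hh
  have hx2' : (x : G) ∉ T := fun h => hx2 h
  obtain ⟨n, hn⟩ := hP x
  have hn' : (x : G) ^ 2 ^ n ∈ T := by
    have := congrArg (Subtype.val : P → G) hn
    rw [Subgroup.coe_pow, Subgroup.coe_one] at this
    rw [this]
    exact T.one_mem
  -- least `k` with `x^(2^k) ∈ T`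
  have hex : ∃ k, (x : G) ^ 2 ^ k ∈ T := ⟨n, hn'⟩
  set k := Nat.find hex with hk
  have hk1 : (x : G) ^ 2 ^ k ∈ T := Nat.find_spec hex
  have hk0 : k ≠ 0 := by
    intro h0
    rw [h0] at hk1
    simp only [pow_zero, pow_one] at hk1
    exact hx2' hk1
  obtain ⟨j, hj⟩ := Nat.exists_eq_succ_of_ne_zero hk0
  refine ⟨(x : G) ^ 2 ^ j, P.pow_mem x.2 _, pow_mem hx1' _, ?_, ?_⟩
  · exact Nat.find_min hex (by omega)
  · rw [← pow_add, ← two_mul, ← pow_succ', ← Nat.succ_eq_add_one, ← hj]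
    exact hk1

/-! ### Involutory field automorphisms -/

theorem invol_unique {F : Type} [Field F] [Finite F] [CharP F 2] (σ τ : F ≃+* F) (hσ : ∀ t, σ (σ t) = t)
    (hτ : ∀ t, τ (τ t) = t) (hσ1 : ∃ t, σ t ≠ t) (hτ1 : ∃ t, τ t ≠ t) (t : F) : σ t = τ t := by
  classical
  let _ := ZMod.algebra F 2
  have hc : ∀ (ρ : F ≃+* F) (r : ZMod 2), ρ (algebraMap (ZMod 2) F r) = algebraMap (ZMod 2) F r := by
    intro ρ r
    have h1 : (ρ : F →+* F).comp (algebraMap (ZMod 2) F) = algebraMap (ZMod 2) F := Subsingleton.elim _ _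
    exact congrArg (fun f => f r) h1
  let s : F ≃ₐ[ZMod 2] F := AlgEquiv.ofRingEquiv (f := σ) (hc σ)
  let u : F ≃ₐ[ZMod 2] F := AlgEquiv.ofRingEquiv (f := τ) (hc τ)
  have hs : ∀ t, s t = σ t := fun _ => rfl
  have hu : ∀ t, u t = τ t := fun _ => rfl
  have : Finite (F ≃ₐ[ZMod 2] F) := inferInstance
  letI : Fintype (F ≃ₐ[ZMod 2] F) := Fintype.ofFinite _
  have hcard := IsCyclic.card_pow_eq_one_le (α := F ≃ₐ[ZMod 2] F) (n := 2) (by norm_num)
  have hs2 : s ^ 2 = 1 := by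
    ext x
    rw [pow_two, AlgEquiv.mul_apply, hs, hs, hσ]; rfl
  have hu2 : u ^ 2 = 1 := by
    ext x
    rw [pow_two, AlgEquiv.mul_apply, hu, hu, hτ]; rfl
  have hs1 : s ≠ 1 := by
    obtain ⟨t, ht⟩ := hσ1
    intro h
    exact ht (by rw [← hs, h]; rfl)
  have hu1 : u ≠ 1 := by
    obtain ⟨t, ht⟩ := hτ1
    intro h
    exact ht (by rw [← hu, h]; rfl)
  by_contra hne
  have hsu : s ≠ u := fun h => hne (by rw [← hs, ← hu, h])
  have h3 : ({1, s, u} : Finset (F ≃ₐ[ZMod 2] F)).card = 3 := by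
    rw [Finset.card_insert_of_notMem, Finset.card_pair hsu]
    simp only [Finset.mem_insert, Finset.mem_singleton, not_or]
    exact ⟨hs1.symm, hu1.symm⟩
  have h4 : ({1, s, u} : Finset (F ≃ₐ[ZMod 2] F)) ⊆ Finset.univ.filter fun a => a ^ 2 = 1 := by
    intro x hx
    rw [Finset.mem_filter]
    refine ⟨Finset.mem_univ _, ?_⟩
    simp only [Finset.mem_insert, Finset.mem_singleton] at hx
    rcases hx with rfl | rfl | rfl
    · exact one_pow 2
    · exact hs2
    · exact hu2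
  have h5 := Finset.card_le_card h4
  omega

/-! ### The frame -/

section lam

variable {F : Type} [Field F] {S P : Subgroup G} {k : ℕ} (M : NatK F S P (zl S P) (cv S P) k)

/-- `S^L` -/
def Lam : Subgroup G where
  carrier := {x | x ∈ S ∧ x ∈ P ∧ ∃ b : Fin k → F, ActsSL M.e (zl S P) (cv S P) x fun i => up (b i)}
  one_mem' := ⟨one_mem _, one_mem _, 0, by
    have := acts_one M
    simpa [up_zero] using this⟩
  mul_mem' := by
    rintro x y ⟨hx, hx', b, hb⟩ ⟨hy, hy', b', hb'⟩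
    refine ⟨mul_mem hx hy, mul_mem hx' hy', b + b', ?_⟩
    have := acts_mul M hx' hy' hb hb'
    simpa [up_mul] using this
  inv_mem' := by
    rintro x ⟨hx, hx', b, hb⟩
    refine ⟨inv_mem hx, inv_mem hx', -b, ?_⟩
    have := acts_inv M hx' hb
    simpa [up_inv] using this

theorem mem_Lam {x : G} : x ∈ Lam M ↔ x ∈ S ∧ x ∈ P ∧ ∃ b : Fin k → F,
    ActsSL M.e (zl S P) (cv S P) x fun i => up (b i) := Iff.rfl

theorem Lam_le : Lam M ≤ S := fun _ h => h.1

theorem Lam_le' : Lam M ≤ P := fun _ h => h.2.1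

/-- the coordinates of `S^L` -/
noncomputable def cc (x : G) (i : Fin k) : F :=
  M.e (x * (Sd.exists_single M i ![0, 1]).choose * x⁻¹) i 0

theorem cc_eq {x : G} {b : Fin k → F} (hb : ∀ v ∈ zl S P, ∀ i, M.e (x * v * x⁻¹) i = ap (up (b i)) (M.e v i)) :
    cc M x = b := by
  funext i
  have h1 := (Sd.exists_single M i ![0, 1]).choose_spec
  rw [cc, hb _ h1.1 i, h1.2.1, ap_zero']
  simp

/-- `x ∈ S^L` acts as `up (cc x i)` -/
theorem cc_act {x : G} (hx : x ∈ Lam M) {v : G} (hv : v ∈ zl S P) (i : Fin k) :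
    M.e (x * v * x⁻¹) i = ap (up (cc M x i)) (M.e v i) := by
  obtain ⟨-, -, b, hb⟩ := hx
  rw [cc_eq M hb.1, hb.1 v hv]

theorem cc_D {x : G} (hx : x ∈ Lam M) {d : G} (hd : d ∈ cv S P) : x * d = d * x := by
  obtain ⟨-, -, b, hb⟩ := hx
  exact hb.2 d hd

theorem up_of_fix {B : Matrix.SpecialLinearGroup (Fin 2) F} (h : ap B ![1, 0] = ![1, 0]) :
    B = up (ent B 0 1) := by
  have h0 := congrFun h 0
  have h1 := congrFun h 1
  rw [ap_zero'] at h0
  rw [ap_one'] at h1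
  simp only [Matrix.cons_val_zero, Matrix.cons_val_one, mul_one, mul_zero, add_zero] at h0 h1
  have hd := det_eq B
  rw [h0, h1, mul_zero, sub_zero, one_mul] at hd
  refine ext_ent ?_ ?_ ?_ ?_
  · rw [h0, up_00]
  · rw [up_01]
  · rw [h1, up_10]
  · rw [hd, up_11]

theorem comm_zero_iff {x : G} (hx : x ∈ Lam M) (i : Fin k) :
    cc M x i = 0 ↔ ∀ v ∈ zl S P, M.e (x * v * x⁻¹ * v⁻¹) i = 0 := by
  constructor
  · intro h0 v hv
    rw [e_div M (conj_mem_zl hx.2.1 hv) hv, Pi.sub_apply, cc_act M hx hv, h0, up_zero, ap_one, sub_self]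
  · intro h0
    obtain ⟨v, hv, e1, -⟩ := Sd.exists_single M i ![0, 1]
    have h1 := h0 v hv
    rw [e_div M (conj_mem_zl hx.2.1 hv) hv, Pi.sub_apply, cc_act M hx hv, e1] at h1
    have h2 := congrFun h1 0
    rw [Pi.sub_apply, ap_zero'] at h2
    simpa using h2

/-- `S` normalises `S^L` -/
theorem Lam_conj (hSP : S ≤ P) {s x : G} (hs : s ∈ S) (hx : x ∈ Lam M) : s * x * s⁻¹ ∈ Lam M := by
  obtain ⟨hxS, hxP, b, hb⟩ := hx
  obtain ⟨B, hB⟩ := Sd.acts_conj M (hSP hs) hxP hb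
  refine ⟨mul_mem (mul_mem hs hxS) (inv_mem hs), mul_mem (mul_mem (hSP hs) hxP) (inv_mem (hSP hs)),
    fun j => ent (B j) 0 1, ?_⟩
  have e1 : (fun j => up (ent (B j) 0 1)) = B := by
    funext j
    refine (up_of_fix ?_).symm
    obtain ⟨w, hw, e1, -⟩ := Sd.exists_single M j ![1, 0]
    obtain ⟨i, hi⟩ := exists_Mv' (M := M) (hSP hs) j
    have hv : s⁻¹ * w * s ∈ zl S P := by
      have := conj_mem_zl (inv_mem (hSP hs)) hw
      rwa [inv_inv] at this
    have e2 : s * (s⁻¹ * w * s) * s⁻¹ = w := by group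
    have h1 := conj_line hSP hs hi hv
    rw [e2, e1] at h1
    have h2 : M.e (s⁻¹ * w * s) i 1 = 0 := h1.1 (by simp)
    have h3 : M.e (x * (s⁻¹ * w * s) * x⁻¹ * (s⁻¹ * w * s)⁻¹) i = 0 := by
      rw [e_div M (conj_mem_zl hxP hv) hv, Pi.sub_apply, hb.1 _ hv i, sub_eq_zero]
      apply ext2
      · rw [ap_zero', h2]; simp
      · rw [ap_one', h2]; simp
    have h4 := (hi _ (mul_mem (conj_mem_zl hxP hv) (inv_mem hv))).2 h3
    have e3 : s * (x * (s⁻¹ * w * s) * x⁻¹ * (s⁻¹ * w * s)⁻¹) * s⁻¹ =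
        s * x * s⁻¹ * w * (s * x * s⁻¹)⁻¹ * w⁻¹ := by group
    have hsx : s * x * s⁻¹ ∈ P := mul_mem (mul_mem (hSP hs) hxP) (inv_mem (hSP hs))
    rw [e3, e_div M (conj_mem_zl hsx hw) hw, Pi.sub_apply, sub_eq_zero, hB.1 w hw j, e1] at h4
    exact h4
  rw [e1]
  exact hB

/-- the places of `S^L` are those of `V / D` -/
theorem mv_of (hSP : S ≤ P) {s : G} (hs : s ∈ S) {i j : Fin k} (hm : Ns.Mv M s i j) :
    Mv (Lam M) (cc M) s i j := by
  intro x hx
  rw [comm_zero_iff M (Lam_conj M hSP hs hx), comm_zero_iff M hx]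
  constructor
  · intro h1 v hv
    have h2 := h1 _ (conj_mem_zl (hSP hs) hv)
    have e : s * x * s⁻¹ * (s * v * s⁻¹) * (s * x * s⁻¹)⁻¹ * (s * v * s⁻¹)⁻¹ = s * (x * v * x⁻¹ * v⁻¹) * s⁻¹ := by
      group
    rw [e] at h2
    exact (hm _ (mul_mem (conj_mem_zl hx.2.1 hv) (inv_mem hv))).1 h2
  · intro h1 w hw
    have hv : s⁻¹ * w * s ∈ zl S P := by
      have := conj_mem_zl (inv_mem (hSP hs)) hw
      rwa [inv_inv] at this
    have h2 := (hm _ (mul_mem (conj_mem_zl hx.2.1 hv) (inv_mem hv))).2 (h1 _ hv)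
    have e : s * (x * (s⁻¹ * w * s) * x⁻¹ * (s⁻¹ * w * s)⁻¹) * s⁻¹ = s * x * s⁻¹ * w * (s * x * s⁻¹)⁻¹ * w⁻¹ := by
      group
    rwa [e] at h2

end lam

section fr

variable [Finite G] (hG : IsCharacteristicTwoType G) (S : Sylow 2 G) {P : Subgroup G}
  (h : IsParS (S : Subgroup G) P) {F : Type} [Field F] [Finite F] [CharP F 2] {k : ℕ}
  (M : NatK F (S : Subgroup G) P (zl (S : Subgroup G) P) (cv (S : Subgroup G) P) k)
  (hω : ∃ ω : F, ω ≠ 0 ∧ ω ≠ 1)

include hG h in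
/-- a 2-element which centralises `V / D` lies in `O₂(P)` -/
theorem mem_o2_of_kern (hk : 0 < k) {u : G} (hu : u ∈ kern M) (hu2 : ∃ a : ℕ, u ^ 2 ^ a = 1) : u ∈ o2 P := by
  obtain ⟨a, ha⟩ := hu2
  have hz : IsPGroup 2 (zpowers u) := by
    rintro ⟨x, n, rfl⟩
    refine ⟨a, Subtype.ext ?_⟩
    change (u ^ n) ^ 2 ^ a = 1
    rw [← zpow_natCast, ← zpow_mul, mul_comm, zpow_mul, zpow_natCast, ha, one_zpow]
  obtain ⟨p, hp, h1⟩ := FFThm.exists_conj_le S h.le hz (zpowers_le.2 (kern_le M hu))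
  have h2 : p * u * p⁻¹ ∈ (S : Subgroup G) := h1 ⟨u, mem_zpowers u, rfl⟩
  have h4 := comm_of_quot hG S h M hk h2 (kern_conj M hp hu)
  have h5 : p * u * p⁻¹ ∈ o2 P := by
    rw [← IsParS.inf_centralizer S hG h]
    exact mem_inf.2 ⟨h2, mem_centralizer_iff.2 fun v hv => (h4 v hv).symm⟩
  have h6 := (mem_normalizer_iff.1 (Cfsg.Agent.MinSimple.VModule.le_normalizer_o2 P (inv_mem hp)) _).1 h5
  have e : p⁻¹ * (p * u * p⁻¹) * p⁻¹⁻¹ = u := by group
  rwa [e] at h6

include hG h in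
theorem kern_of_o2 {u : G} (hu : u ∈ o2 P) : u ∈ kern M := by
  rw [← IsParS.inf_centralizer S hG h] at hu
  refine ⟨h.le hu.1, fun v hv => ?_⟩
  rw [← mem_centralizer_iff.1 hu.2 v hv, mul_inv_cancel_right]

include hG h in
theorem o2_le_Lam : o2 P ≤ Lam M := by
  intro q hq
  have hk := kern_of_o2 hG S h M hq
  have hq' := hq
  rw [← IsParS.inf_centralizer S hG h] at hq'
  refine ⟨hq'.1, kern_le M hk, 0, fun v hv i => ?_, fun d hd => ?_⟩
  · change _ = ap (up 0) _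
    rw [up_zero, ap_one, hk.2 v hv]
  · exact (mem_centralizer_iff.1 hq'.2 d (cv_le _ _ hd)).symm

include hG h in
theorem Lam_ker (hk : 0 < k) {x : G} (hx : x ∈ Lam M) : cc M x = 0 ↔ x ∈ o2 P := by
  constructor
  · intro h0
    refine mem_o2_of_kern hG S h M hk ⟨hx.2.1, fun v hv => ?_⟩ ?_
    · funext i
      rw [cc_act M hx hv, h0, Pi.zero_apply, up_zero, ap_one]
    · obtain ⟨a, ha⟩ := S.isPGroup' ⟨x, hx.1⟩
      exact ⟨a, by simpa using congrArg Subtype.val ha⟩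
  · intro hxo
    refine cc_eq M fun v hv i => ?_
    rw [(kern_of_o2 hG S h M hxo).2 v hv, Pi.zero_apply, up_zero, ap_one]

include hG h hω in
/-- the action of `Tc M i` on the `i`-th coordinate of `S^L` -/
theorem semi_i {i : Fin k} {s : G} (hs : s ∈ Tc M i) : ∃ (σ : F ≃+* F) (κ : F), κ ≠ 0 ∧
    (∀ x ∈ Lam M, cc M (s * x * s⁻¹) i = κ * σ (cc M x i)) ∧
    ((∀ t, κ * σ t = t) → ∃ b, ∀ v ∈ zl (S : Subgroup G) P, M.e (s * v * s⁻¹) i = ap (up b) (M.e v i)) := by
  have r := Sd.rig_of hG S h M hω i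
  set N := Cfsg.Agent.Omega.HOne.toSec (Sd.natOver hG S h M hω i) r.DV (fun _ hh _ hv => r.Vn _ hh _ hv)
    (fun _ hh _ hv => r.Dn _ hh _ hv) with hN
  have hsL : s ∈ Lc M i := (le_sup_left : Tc M i ≤ _) hs
  obtain ⟨σ, hσ⟩ := N.exists_semi hsL
  have hact : ∀ v ∈ Nc M i, N.act s (Sd.pc S M i v) = Sd.pc S M i (s * v * s⁻¹) := fun v hv => N.act_π hsL hv
  -- the image of `(0, 1)`
  obtain ⟨γ, hγ⟩ : ∃ γ, N.act s ![0, 1] = ![0, γ] := by
    refine ⟨N.act s ![0, 1] 1, ?_⟩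
    obtain ⟨v, hv, e⟩ := (Sd.natOver hG S h M hω i).surj ![0, 1]
    have e' : Sd.pc S M i v = ![0, 1] := e
    have h1 := hact v hv
    rw [e'] at h1
    have h2 : M.e v i 1 = 0 := by rw [← Sd.pc_zero S M, e']; simp
    have h3 := (Sd.Tc_line S M hs (Sd.Nc_le M i hv)).2 h2
    rw [← Sd.pc_zero S M, ← h1] at h3
    apply ext2
    · rw [h3]; simp
    · simp
  obtain ⟨δ, ε, hδ⟩ : ∃ δ ε, N.act s ![1, 0] = ![δ, ε] :=
    ⟨N.act s ![1, 0] 0, N.act s ![1, 0] 1, by apply ext2 <;> simp⟩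
  have hsm1 : ∀ c : F, N.act s ![0, c] = ![0, σ c * γ] := by
    intro c
    have e1 : (![0, c] : Fin 2 → F) = c • ![0, 1] := by apply ext2 <;> simp
    rw [e1, hσ, hγ]
    apply ext2 <;> simp
  have hform : ∀ x : Fin 2 → F, N.act s x = ![σ (x 0) * δ, σ (x 0) * ε + σ (x 1) * γ] := by
    intro x
    have e1 : x = x 0 • ![1, 0] + ![0, x 1] := by apply ext2 <;> simp
    have h2 := N.act_add hsL (x 0 • ![1, 0]) ![0, x 1]
    rw [← e1, hσ, hδ, hsm1] at h2
    rw [h2]
    apply ext2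
    · simp
    · simp
  have hδ0 : δ ≠ 0 := by
    intro h0
    obtain ⟨v, hv, e⟩ := (Sd.natOver hG S h M hω i).surj ![1, 0]
    have e' : Sd.pc S M i v = ![1, 0] := e
    have h1 := hact v hv
    rw [e', hform] at h1
    have h3 : M.e (s * v * s⁻¹) i 1 = 0 := by
      rw [← Sd.pc_zero S M, ← h1]; simp [h0]
    have h4 := (Sd.Tc_line S M hs (Sd.Nc_le M i hv)).1 h3
    rw [← Sd.pc_zero S M, e'] at h4
    simp at h4
  have hγ0 : γ ≠ 0 := by
    intro h0
    obtain ⟨v, hv, e⟩ := (Sd.natOver hG S h M hω i).surj ![0, 1]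
    have e' : Sd.pc S M i v = ![0, 1] := e
    have h1 := hact v hv
    rw [e', hγ, h0] at h1
    have h2 : Sd.pc S M i (s * v * s⁻¹) = 0 := by
      rw [← h1]; apply ext2 <;> simp
    rw [Sd.pc_eq_zero, (Sd.Tc_le_St M i hs).2 v (Sd.Nc_le M i hv), ← Sd.pc_eq_zero S M, e'] at h2
    have := congrFun h2 1
    simp at this
  -- an element of `S^L` in the coordinates `pc`
  have hlo : ∀ x ∈ Lam M, ∀ v ∈ zl (S : Subgroup G) P,
      Sd.pc S M i (x * v * x⁻¹) = ap (lo (cc M x i)) (Sd.pc S M i v) := by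
    intro x hx v hv
    rw [Sd.pc, cc_act M hx hv, Sd.pc, ← ap_mul, ← ap_mul, ← Sd.wm_up_eq, inv_mul_cancel_right]
  have ap_lo' : ∀ (a : F) (y : Fin 2 → F), ap (lo a) y = ![y 0, a * y 0 + y 1] :=
    fun a y => Cfsg.Agent.Omega.HOne.NSMod.ap_lo a y
  refine ⟨σ, γ / δ, div_ne_zero hγ0 hδ0, fun x hx => ?_, fun htr => ?_⟩
  · obtain ⟨v, hv, e⟩ := (Sd.natOver hG S h M hω i).surj ![1, 0]
    have e' : Sd.pc S M i v = ![1, 0] := e
    have hvV := Sd.Nc_le M i hv
    have hxN : x * v * x⁻¹ ∈ Nc M i := by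
      refine Sd.St_conj_Nc M ⟨hx.2.1, fun w hw => ?_⟩ hv
      rw [cc_act M hx hw, Sd.ap_eq_zero]
    have hx' := Lam_conj M h.le hs.1.1 hx
    have hsv : s * v * s⁻¹ ∈ Nc M i := Sd.St_conj_Nc M (Sd.Tc_le_St M i hs) hv
    have h1 := hact _ hxN
    rw [hlo x hx v hvV, e', ap_lo', hform] at h1
    have e2 : s * (x * v * x⁻¹) * s⁻¹ = s * x * s⁻¹ * (s * v * s⁻¹) * (s * x * s⁻¹)⁻¹ := by group
    rw [e2, hlo _ hx' _ (Sd.Nc_le M i hsv), ← hact v hv, e', hδ, ap_lo'] at h1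
    have h2 := congrFun h1 1
    simp only [Matrix.cons_val_zero, Matrix.cons_val_one, map_one, one_mul, mul_one, add_zero] at h2
    rw [div_mul_eq_mul_div, eq_div_iff hδ0]
    linear_combination -h2
  · have hκ : γ / δ = 1 := by simpa using htr 1
    have hγδ : γ = δ := by rwa [div_eq_one_iff_eq hδ0] at hκ
    have hσ1 : ∀ t, σ t = t := fun t => by
      have := htr t
      rwa [hκ, one_mul] at this
    have hpow : ∀ n : ℕ, ∀ x, N.act (s ^ n) x 0 = δ ^ n * x 0 := by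
      intro n
      induction n with
      | zero => intro x; rw [pow_zero, N.act_one, pow_zero, one_mul]
      | succ n ih =>
        intro x
        rw [pow_succ', N.act_mul hsL (pow_mem hsL n), hform]
        change σ (N.act (s ^ n) x 0) * δ = _
        rw [hσ1, ih, pow_succ']; ring
    obtain ⟨m, hm⟩ := S.isPGroup' ⟨s, Sd.Tc_le M i hs⟩
    have hm' : s ^ 2 ^ m = 1 := by simpa using congrArg Subtype.val hm
    have hd1 : δ = 1 := by
      have h2 := hpow (2 ^ m) ![1, 0]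
      rw [hm', N.act_one] at h2
      simp only [Matrix.cons_val_zero, mul_one] at h2
      have h4 : (δ - 1) ^ 2 ^ m = 0 := by
        rw [sub_pow_char_pow, ← h2, one_pow, sub_self]
      exact sub_eq_zero.1 (pow_eq_zero_iff (pow_ne_zero m two_ne_zero) |>.1 h4)
    have hN : ∀ n ∈ Nc M i, M.e (s * n * s⁻¹) i = ap (up ε) (M.e n i) := by
      intro n hn
      have h1 := hact n hn
      have h2 : N.act s (Sd.pc S M i n) = ap (lo ε) (Sd.pc S M i n) := by
        rw [hform, ap_lo', hσ1, hσ1, hγδ, hd1, mul_one, mul_one, mul_comm]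
      rw [h2] at h1
      have h3 := Sd.pc_act S M (i := i) (x := s) (v := n) (B := up ε)
      have h4 : ap (wm (1 : F) one_ne_zero) (ap (up ε) (M.e n i)) = ap (wm 1 one_ne_zero) (M.e (s * n * s⁻¹) i) := by
        have h5 : ap (lo ε) (Sd.pc S M i n) = ap (wm (1 : F) one_ne_zero) (ap (up ε) (M.e n i)) := by
          rw [Sd.pc, ← ap_mul, ← ap_mul, ← Sd.wm_up_eq, inv_mul_cancel_right]
        rw [← h5]
        exact h1
      have h6 := congrArg (ap (wm (1 : F) one_ne_zero)⁻¹) h4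
      rw [ap_inv_ap, ap_inv_ap] at h6
      exact h6.symm
    refine ⟨ε, fun v hv => ?_⟩
    obtain ⟨n, hn, d, hd, rfl⟩ := Sd.exists_Nc_D1 M i hv
    have hsP : s ∈ P := hs.1.2
    have e : s * (n * d) * s⁻¹ = s * n * s⁻¹ * (s * d * s⁻¹) := by group
    rw [e, M.mul _ (conj_mem_zl hsP (Sd.Nc_le M i hn)) _ (conj_mem_zl hsP hd.1), Pi.add_apply, hN n hn,
      (hs.2 d hd.1).2 hd.2, add_zero, M.mul _ (Sd.Nc_le M i hn) _ hd.1, Pi.add_apply, hd.2, add_zero]

include hG h hω in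
/-- **the frame of `S / O₂(P)`** -/
theorem fr_of (hk : 0 < k) : Fr (S : Subgroup G) (Lam M) (o2 P) (cc M) := by
  have hmul : ∀ x ∈ Lam M, ∀ y ∈ Lam M, cc M (x * y) = cc M x + cc M y := by
    intro x hx y hy
    refine cc_eq M fun v hv i => ?_
    have e : x * y * v * (x * y)⁻¹ = x * (y * v * y⁻¹) * x⁻¹ := by group
    rw [e, cc_act M hx (conj_mem_zl hy.2.1 hv), cc_act M hy hv, ← ap_mul, up_mul, Pi.add_apply]
  have hsurj : ∀ b, ∃ x ∈ Lam M, cc M x = b := by
    intro b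
    obtain ⟨t, ht, hA⟩ := M.unip b
    exact ⟨t, ⟨ht, h.le ht, b, hA⟩, cc_eq M hA.1⟩
  have hone : ∀ x ∈ o2 P, cc M x = 0 := fun x hx => (Lam_ker hG S h M hk (o2_le_Lam hG S h M hx)).2 hx
  have hTc : ∀ s ∈ (S : Subgroup G), ∀ i, Mv (Lam M) (cc M) s i i → s ∈ Tc M i := by
    intro s hs i hm
    obtain ⟨j, hj⟩ := exists_Mv (M := M) (h.le hs) i
    have h1 := mv_of M h.le hs hj
    have hij : j = i := by
      by_contra hne
      obtain ⟨x, hx, e⟩ := hsurj (Pi.single j 1)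
      have hy : s⁻¹ * x * s ∈ Lam M := by
        have := Lam_conj M h.le (inv_mem hs) hx
        rwa [inv_inv] at this
      have h2 := h1 _ hy
      have h3 := hm _ hy
      have e2 : s * (s⁻¹ * x * s) * s⁻¹ = x := by group
      rw [e2, e] at h2 h3
      rw [Pi.single_eq_same] at h2
      rw [Pi.single_eq_of_ne (Ne.symm hne)] at h3
      exact one_ne_zero (h2.2 (h3.1 rfl))
    rw [hij] at hj
    exact Sd.mem_Tc_iff M |>.2 ⟨hs, h.le hs, hj⟩
  have htr : ∀ x ∈ Lam M, ∀ y ∈ Lam M, cc M (x * y * x⁻¹) = cc M y := by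
    intro x hx y hy
    have h1 := hmul _ hx _ (inv_mem hx)
    rw [mul_inv_cancel, hone 1 (one_mem _)] at h1
    rw [hmul _ (mul_mem hx hy) _ (inv_mem hx), hmul _ hx _ hy]
    linear_combination -h1
  have hsur1 : ∀ (i : Fin k) (t : F), ∃ x ∈ Lam M, cc M x i = t := by
    intro i t
    obtain ⟨x, hx, e⟩ := hsurj (Pi.single i t)
    exact ⟨x, hx, by rw [e, Pi.single_eq_same]⟩
  exact {
    LS := Lam_le M
    QL := o2_le_Lam hG S h M
    S2 := S.isPGroup'
    nL := fun s hs x hx => Lam_conj M h.le hs hx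
    mul := hmul
    surj := hsurj
    ker := fun x hx => Lam_ker hG S h M hk hx
    place := fun s hs i => by
      obtain ⟨j, hj⟩ := exists_Mv (M := M) (h.le hs) i
      exact ⟨j, mv_of M h.le hs hj⟩
    cent := by
      intro s hs h1
      have h2 : ∀ i, ∃ b, ∀ v ∈ zl (S : Subgroup G) P, M.e (s * v * s⁻¹) i = ap (up b) (M.e v i) := by
        intro i
        obtain ⟨σ, κ, -, h3, h4⟩ := semi_i hG S h M hω (hTc s hs i fun x hx => by rw [h1 i x hx])
        refine h4 fun t => ?_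
        obtain ⟨x, hx, e⟩ := hsur1 i t
        rw [← e, ← h3 x hx, h1 i x hx]
      choose b hb using h2
      obtain ⟨t, ht, hA⟩ := M.unip b
      have htL : t ∈ Lam M := ⟨ht, h.le ht, b, hA⟩
      have hsP := h.le hs
      have h3 : t⁻¹ * s ∈ o2 P := by
        refine mem_o2_of_kern hG S h M hk ⟨mul_mem (inv_mem (h.le ht)) hsP, fun v hv => ?_⟩ ?_
        · funext i
          have h5 := (acts_inv M (h.le ht) hA).1 _ (conj_mem_zl hsP hv) i
          rw [hb i v hv, ap_inv_ap] at h5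
          have e : t⁻¹ * s * v * (t⁻¹ * s)⁻¹ = t⁻¹ * (s * v * s⁻¹) * t⁻¹⁻¹ := by group
          rw [e, h5]
        · obtain ⟨a, ha⟩ := S.isPGroup' ⟨t⁻¹ * s, mul_mem (inv_mem ht) hs⟩
          exact ⟨a, by simpa using congrArg Subtype.val ha⟩
      have e : s = t * (t⁻¹ * s) := by group
      rw [e]
      exact mul_mem htL (o2_le_Lam hG S h M h3)
    two := by
      intro i a ha b hb haa hbb hab hma hmb hta htb
      obtain ⟨σ, κ, hκ0, h1, -⟩ := semi_i hG S h M hω (hTc a ha i hma)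
      obtain ⟨τ, l, hl0, h2, -⟩ := semi_i hG S h M hω (hTc b hb i hmb)
      have hsq : ∀ c ∈ (S : Subgroup G), c * c ∈ o2 P → ∀ (ρ : F ≃+* F) (m : F),
          (∀ x ∈ Lam M, cc M (c * x * c⁻¹) i = m * ρ (cc M x i)) → ∀ t, m * ρ (m * ρ t) = t := by
        intro c hc hcc ρ m h3 t
        obtain ⟨x, hx, e⟩ := hsur1 i t
        have h4 := congrFun (htr _ (o2_le_Lam hG S h M hcc) x hx) i
        have e2 : c * c * x * (c * c)⁻¹ = c * (c * x * c⁻¹) * c⁻¹ := by group
        rw [e2, h3 _ (Lam_conj M h.le hc hx), h3 x hx, e] at h4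
        exact h4
      have hinv : ∀ (ρ : F ≃+* F) (m : F), (∀ t, m * ρ (m * ρ t) = t) → ∀ t, ρ (ρ t) = t := by
        intro ρ m h3 t
        have h4 := h3 1
        rw [map_one, mul_one] at h4
        have h5 := h3 t
        rw [map_mul, ← mul_assoc, h4, one_mul] at h5
        exact h5
      have hone' : ∀ m : F, m * m = 1 → m = 1 := by
        intro m hm
        have h3 : (m - 1) * (m - 1) = 0 := by
          have two : (2 : F) = 0 := CharTwo.two_eq_zero
          linear_combination hm + (1 - m) * two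
        exact sub_eq_zero.1 (mul_self_eq_zero.1 h3)
      have a1 := hsq a ha haa σ κ h1
      have b1 := hsq b hb hbb τ l h2
      have hσ1 : ∃ t, σ t ≠ t := by
        by_contra hc
        push Not at hc
        refine hta fun x hx => ?_
        have h3 := a1 1
        rw [hc, hc, mul_one] at h3
        rw [h1 x hx, hone' κ h3, one_mul, hc]
      have hτ1 : ∃ t, τ t ≠ t := by
        by_contra hc
        push Not at hc
        refine htb fun x hx => ?_
        have h3 := b1 1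
        rw [hc, hc, mul_one] at h3
        rw [h2 x hx, hone' l h3, one_mul, hc]
      have h3 := invol_unique σ τ (hinv σ κ a1) (hinv τ l b1) hσ1 hτ1
      have h4 : ∀ x ∈ Lam M, cc M (a * b * x * (a * b)⁻¹) i = κ * σ l * (RingEquiv.refl F) (cc M x i) := by
        intro x hx
        have e2 : a * b * x * (a * b)⁻¹ = a * (b * x * b⁻¹) * a⁻¹ := by group
        rw [e2, h1 _ (Lam_conj M h.le hb hx), h2 x hx, map_mul, ← h3, hinv σ κ a1, RingEquiv.refl_apply]
        ring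
      have h5 := hsq (a * b) (mul_mem ha hb) hab (RingEquiv.refl F) (κ * σ l) h4 1
      rw [RingEquiv.refl_apply, RingEquiv.refl_apply, mul_one] at h5
      intro x hx
      rw [h4 x hx, hone' _ h5, one_mul, RingEquiv.refl_apply] }

include hG h hω in
theorem sq_Lam (hk : 0 < k) {x : G} (hx : x ∈ Lam M) : x * x ∈ o2 P := by
  rw [← Lam_ker hG S h M hk (mul_mem hx hx), (fr_of hG S h M hω hk).mul x hx x hx]
  funext i
  exact CharTwo.add_self_eq_zero _

/-! ### 2-groups normalised by the lifts -/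

/-- `W` is normalised by the lifts of `SL₂(F)^k` -/
def NL (W : Subgroup G) : Prop :=
  ∀ g ∈ P, (∃ B, ActsSL M.e (zl (S : Subgroup G) P) (cv (S : Subgroup G) P) g B) → ∀ w ∈ W, g * w * g⁻¹ ∈ W

theorem card_ge {F : Type} [Field F] [Finite F] [CharP F 2] (hω : ∃ ω : F, ω ≠ 0 ∧ ω ≠ 1) : 3 ≤ Nat.card F := by
  classical
  letI := Fintype.ofFinite F
  obtain ⟨ω, h0, h1⟩ := hω
  rw [Nat.card_eq_fintype_card]
  have h3 : ({0, 1, ω} : Finset F).card = 3 := by
    rw [Finset.card_insert_of_notMem, Finset.card_pair (Ne.symm h1)]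
    simp only [Finset.mem_insert, Finset.mem_singleton, not_or]
    exact ⟨zero_ne_one, Ne.symm h0⟩
  rw [← h3]
  exact Finset.card_le_univ _

include hG h in
/-- **(a)** a 2-subgroup of `P` normalised by the lifts lies in `O₂(P)` -/
theorem kern_of_norm (hk : 0 < k) {K : Subgroup G} (hK : IsPGroup 2 K) (hP : K ≤ P) (hn : NL S M K) : K ≤ o2 P := by
  have hpow : ∀ w ∈ K, ∃ a : ℕ, w ^ 2 ^ a = 1 := by
    intro w hw
    obtain ⟨a, ha⟩ := hK ⟨w, hw⟩
    exact ⟨a, by simpa using congrArg Subtype.val ha⟩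
  have hm : ∀ i, ∀ w ∈ K, Ns.Mv M w i i := by
    intro i w hw
    obtain ⟨j, hj⟩ := exists_Mv (M := M) (hP hw) i
    by_cases hij : j = i
    · rwa [hij] at hj
    exfalso
    obtain ⟨x, hx⟩ := exists_Al M i (three F)
    obtain ⟨B', hB'⟩ := conj_Al (hP hw) hj hx.inv
    have hu : x * w * x⁻¹ * w⁻¹ ∈ K := mul_mem (hn x hx.1 ⟨_, hx.2⟩ w hw) (inv_mem hw)
    have hact := acts_mul M hx.1 hB'.1 hx.2 hB'.2
    have e : x * (w * x⁻¹ * w⁻¹) = x * w * x⁻¹ * w⁻¹ := by group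
    rw [e] at hact
    set u := x * w * x⁻¹ * w⁻¹ with hu'
    have hci : ∀ v ∈ zl (S : Subgroup G) P, M.e (u * v * u⁻¹) i = ap (three F) (M.e v i) := by
      intro v hv
      rw [hact.1 v hv i]
      change ap (one1 i (three F) i * one1 j B' i) (M.e v i) = _
      rw [one1_same, one1_ne (Ne.symm hij), mul_one]
    have hp : ∀ n : ℕ, ∀ v ∈ zl (S : Subgroup G) P, M.e (u ^ n * v * (u ^ n)⁻¹) i = ap (three F ^ n) (M.e v i) := by
      intro n
      induction n with
      | zero => intro v _; rw [pow_zero, pow_zero, ap_one, one_mul, inv_one, mul_one]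
      | succ n ih =>
        intro v hv
        have e : u ^ (n + 1) * v * (u ^ (n + 1))⁻¹ = u ^ n * (u * v * u⁻¹) * (u ^ n)⁻¹ := by
          rw [pow_succ]; group
        rw [e, ih _ (conj_mem_zl (hP hu) hv), hci v hv, ← ap_mul, pow_succ]
    obtain ⟨a, ha⟩ := hpow u hu
    obtain ⟨y, hy⟩ := exists_ap_three_sub (F := F) a ![1, 0]
    obtain ⟨v, hv, e1, -⟩ := Sd.exists_single M i y
    have h1 := hp (2 ^ a) v hv
    rw [ha, one_mul, inv_one, mul_one, e1] at h1
    rw [← h1, sub_self] at hy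
    have := congrFun hy 0
    simp at this
  intro w hw
  refine mem_o2_of_kern hG S h M hk ⟨hP hw, fun v hv => ?_⟩ (hpow w hw)
  funext i
  refine triv_of_norm S hK hP (hm i) (fun B => ?_) w hw v hv
  obtain ⟨x, hx⟩ := exists_Al M i B
  refine ⟨x, hx, fun w hw => ?_⟩
  have := hn x⁻¹ hx.inv.1 ⟨_, hx.inv.2⟩ w hw
  rwa [inv_inv] at this

include hG h hω in
/-- **(H1)** a 2-subgroup of `G` normalised by the lifts lies in `O₂(P)` -/
theorem le_o2_of_norm (hk : 0 < k) {W : Subgroup G} (hW : IsPGroup 2 W) (hn : NL S M W) : W ≤ o2 P := by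
  have : Fact (Nat.Prime 2) := ⟨Nat.prime_two⟩
  have hPN := Cfsg.Agent.MinSimple.VModule.le_normalizer_o2 P
  have hWP : W ⊓ P ≤ o2 P := by
    refine kern_of_norm hG S h M hk (hW.to_le inf_le_left) inf_le_right fun g hg hB w hw => ?_
    exact mem_inf.2 ⟨hn g hg hB w hw.1, mul_mem (mul_mem hg hw.2) (inv_mem hg)⟩
  have h1 : W ⊓ normalizer (o2 P : Set G) ≤ o2 P := by
    refine (fr_of hG S h M hω hk).le_of_norm (h.le.trans hPN) le_normalizer le_rfl le_rfl inf_le_right inf_le_right ?_ ?_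
      ?_ fun x hx => sq_Lam hG S h M hω hk hx
    · intro x hx
      obtain ⟨a, ha⟩ := hW ⟨x, hx.1⟩
      refine ⟨a, ?_⟩
      have h2 : x ^ 2 ^ a = 1 := by simpa using congrArg Subtype.val ha
      rw [h2]
      exact one_mem _
    · intro l hl x hx
      have hlN := hPN hl.2.1
      exact mem_inf.2 ⟨hn l hl.2.1 (by obtain ⟨-, -, b, hb⟩ := hl; exact ⟨_, hb⟩) x hx.1,
        mul_mem (mul_mem hlN hx.2) (inv_mem hlN)⟩
    · intro x hx l hl hlx
      have h2 := mul_mem hl (o2_le_Lam hG S h M hlx)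
      rw [mul_inv_cancel_left] at h2
      exact hWP (mem_inf.2 ⟨hx.1, h2.2.1⟩)
  have hQW : ∀ q ∈ o2 P, ∀ w ∈ W, q * w * q⁻¹ ∈ W := by
    intro q hq w hw
    obtain ⟨-, h3, b, hb⟩ := o2_le_Lam hG S h M hq
    exact hn q h3 ⟨_, hb⟩ w hw
  have hQn : o2 P ≤ normalizer (W : Set G) := Sd.le_normalizer_of_conj hQW
  by_contra hne
  have hWQ : IsPGroup 2 ↥(W ⊔ o2 P) := hW.to_sup_of_normal_left' (Cfsg.Agent.MinSimple.VModule.o2_isPGroup P) hQn
  have hlt : o2 P < W ⊔ o2 P := by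
    refine lt_of_le_of_ne le_sup_right fun h2 => hne ?_
    rw [h2]
    exact le_sup_left
  obtain ⟨s, hs, hsn, hs1, -⟩ := exists_normalizing hWQ hlt
  have h2 : s ∈ ((W ⊔ o2 P : Subgroup G) : Set G) := hs
  rw [coe_mul_of_right_le_normalizer_left _ _ hQn] at h2
  obtain ⟨w, hw, q, hq, rfl⟩ := h2
  have hqn : q ∈ normalizer (o2 P : Set G) := le_normalizer hq
  have h3 : w ∈ normalizer (o2 P : Set G) := by
    have := mul_mem hsn (inv_mem hqn)
    rwa [mul_inv_cancel_right] at this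
  exact hs1 (mul_mem (h1 (mem_inf.2 ⟨hw, h3⟩)) hq)

include hG h hω M in
theorem o2_le_of_cv (hk : 0 < k) {X : Subgroup G} (hXD : X ≤ cv (S : Subgroup G) P) :
    o2 (normalizer (X : Set G)) ≤ o2 P ∧ o2 (centralizer (X : Set G)) ≤ o2 P := by
  have hc : ∀ g ∈ P, (∃ B, ActsSL M.e (zl (S : Subgroup G) P) (cv (S : Subgroup G) P) g B) →
      g ∈ centralizer (X : Set G) := fun g _ ⟨B, hB⟩ => mem_centralizer_iff.2 fun d hd => (hB.2 d (hXD hd)).symm
  have hcn : centralizer (X : Set G) ≤ normalizer (X : Set G) := centralizer_le_normalizer _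
  constructor
  · refine le_o2_of_norm hG S h M hω hk (Cfsg.Agent.MinSimple.VModule.o2_isPGroup _) fun g hg hB w hw => ?_
    exact (mem_normalizer_iff.1 (Cfsg.Agent.MinSimple.VModule.le_normalizer_o2 _ (hcn (hc g hg hB))) w).1 hw
  · refine le_o2_of_norm hG S h M hω hk (Cfsg.Agent.MinSimple.VModule.o2_isPGroup _) fun g hg hB w hw => ?_
    exact (mem_normalizer_iff.1 (Cfsg.Agent.MinSimple.VModule.le_normalizer_o2 _ (hc g hg hB)) w).1 hw

include hG h in
theorem o2_comm_V {q v : G} (hq : q ∈ o2 P) (hv : v ∈ zl (S : Subgroup G) P) : q * v = v * q := by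
  rw [← IsParS.inf_centralizer S hG h] at hq
  exact (mem_centralizer_iff.1 hq.2 v hv).symm

include hG h hω M in
/-- **(H1b)** -/
theorem V_le_zc (hk : 0 < k) {X : Subgroup G} (hX : X ≠ ⊥) (hXD : X ≤ cv (S : Subgroup G) P) :
    zl (S : Subgroup G) P ≤ zc (o2 (normalizer (X : Set G))) := by
  have h1 := (o2_le_of_cv hG S h M hω hk hXD).1
  have hX2 : IsPGroup 2 X := fun x => ⟨1, Subtype.ext (by
    rw [pow_one, Subgroup.coe_pow, Subgroup.coe_one, pow_two]
    exact Sd.V_sq hG S h (cv_le _ _ (hXD x.2)))⟩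
  intro v hv
  have hvN : v ∈ normalizer (X : Set G) := by
    refine centralizer_le_normalizer _ (mem_centralizer_iff.2 fun d hd => ?_)
    exact V_comm hG S h (cv_le _ _ (hXD hd)) hv
  have hvO : v ∈ o2 (normalizer (X : Set G)) := by
    refine Cfsg.Agent.MinSimple.Basic.char2_normalizer hG hX2 hX (mem_inf.2 ⟨hvN, mem_centralizer_iff.2 fun w hw => ?_⟩)
    exact o2_comm_V hG S h (h1 hw) hv
  rw [mem_zc]
  exact ⟨hvO, by rw [pow_two]; exact Sd.V_sq hG S h hv, fun w hw => o2_comm_V hG S h (h1 hw) hv⟩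

include hG h hω M in
/-- **(H1b)**, with the centraliser -/
theorem V_le_zc' (hk : 0 < k) {X : Subgroup G} (hX : X ≠ ⊥) (hXD : X ≤ cv (S : Subgroup G) P) :
    zl (S : Subgroup G) P ≤ zc (o2 (centralizer (X : Set G))) := by
  have h1 := o2_le_of_cv hG S h M hω hk hXD
  have hcn : centralizer (X : Set G) ≤ normalizer (X : Set G) := centralizer_le_normalizer _
  have h2 : o2 (normalizer (X : Set G)) ⊓ centralizer (X : Set G) ≤ o2 (centralizer (X : Set G)) := by
    refine Cfsg.Agent.MinSimple.VModule.le_o2 inf_le_right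
      ((Cfsg.Agent.MinSimple.VModule.o2_isPGroup _).to_le inf_le_left) ?_
    refine Sd.le_normalizer_of_conj fun t ht x hx => mem_inf.2 ⟨?_, ?_⟩
    · exact (mem_normalizer_iff.1 (Cfsg.Agent.MinSimple.VModule.le_normalizer_o2 _ (hcn ht)) x).1 hx.1
    · exact mul_mem (mul_mem ht hx.2) (inv_mem ht)
  intro v hv
  have h3 := mem_zc.1 (V_le_zc hG S h M hω hk hX hXD hv)
  have hvC : v ∈ centralizer (X : Set G) := mem_centralizer_iff.2 fun d hd => V_comm hG S h (cv_le _ _ (hXD hd)) hv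
  rw [mem_zc]
  exact ⟨h2 (mem_inf.2 ⟨h3.1, hvC⟩), h3.2.1, fun w hw => o2_comm_V hG S h (h1.2 hw) hv⟩

include hG h hω M in
/-- **(6)** -/
theorem six_of (hk : 0 < k) {U : Subgroup G} (hU : U ≤ cv (S : Subgroup G) P) : ∀ x ∈ centralizer (U : Set G),
    (∀ u ∈ UG (zl (S : Subgroup G) P) U, br x u ∈ U) → ∀ v ∈ zl (S : Subgroup G) P, br x v = 1 := by
  set V := zl (S : Subgroup G) P with hV
  have hUV : U ≤ V := hU.trans (cv_le _ _)
  have hVU : V ≤ UG V U := fun v hv => subset_closure ⟨1, one_mem _, v, hv, by group⟩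
  let X : Subgroup G :=
    { carrier := {x | x ∈ centralizer (U : Set G) ∧ ∀ u ∈ UG V U, x * u * x⁻¹ * u⁻¹ ∈ U}
      one_mem' := ⟨one_mem _, fun u _ => by
        rw [one_mul, inv_one, mul_one, mul_inv_cancel]; exact one_mem _⟩
      mul_mem' := by
        rintro x y ⟨hx, hx'⟩ ⟨hy, hy'⟩
        refine ⟨mul_mem hx hy, fun u hu => ?_⟩
        have h1 := mem_centralizer_iff.1 hx _ (hy' u hu)
        have e : x * y * u * (x * y)⁻¹ * u⁻¹ = x * (y * u * y⁻¹ * u⁻¹) * x⁻¹ * (x * u * x⁻¹ * u⁻¹) := by group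
        rw [e, ← h1, mul_inv_cancel_right]
        exact mul_mem (hy' u hu) (hx' u hu)
      inv_mem' := by
        rintro x ⟨hx, hx'⟩
        refine ⟨inv_mem hx, fun u hu => ?_⟩
        have h1 := mem_centralizer_iff.1 (inv_mem hx) _ (inv_mem (hx' u hu))
        have e : x⁻¹ * u * x⁻¹⁻¹ * u⁻¹ = x⁻¹ * (x * u * x⁻¹ * u⁻¹)⁻¹ * x := by group
        rw [e, ← h1, inv_mul_cancel_right]
        exact inv_mem (hx' u hu) }
  have hUGn : ∀ m ∈ centralizer (U : Set G), ∀ u ∈ UG V U, m * u * m⁻¹ ∈ UG V U := by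
    intro m hm u hu
    unfold UG at hu
    induction hu using closure_induction with
    | mem u hu =>
      obtain ⟨n, hn, a, ha, rfl⟩ := hu
      exact subset_closure ⟨m * n, mul_mem hm hn, a, ha, by group⟩
    | one => rw [mul_one, mul_inv_cancel]; exact one_mem _
    | mul v w _ _ h1 h2 =>
      have e : m * (v * w) * m⁻¹ = m * v * m⁻¹ * (m * w * m⁻¹) := by group
      rw [e]
      exact mul_mem h1 h2
    | inv v _ h1 =>
      have e : m * v⁻¹ * m⁻¹ = (m * v * m⁻¹)⁻¹ := by group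
      rw [e]
      exact inv_mem h1
  have hXn : ∀ m ∈ centralizer (U : Set G), ∀ x ∈ X, m * x * m⁻¹ ∈ X := by
    rintro m hm x ⟨hx, hx'⟩
    refine ⟨mul_mem (mul_mem hm hx) (inv_mem hm), fun u hu => ?_⟩
    have h1 := hUGn _ (inv_mem hm) u hu
    rw [inv_inv] at h1
    have h2 := hx' _ h1
    have h3 := mem_centralizer_iff.1 hm _ h2
    have e : m * x * m⁻¹ * u * (m * x * m⁻¹)⁻¹ * u⁻¹ = m * (x * (m⁻¹ * u * m) * x⁻¹ * (m⁻¹ * u * m)⁻¹) * m⁻¹ := by
      group
    rw [e, ← h3, mul_inv_cancel_right]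
    exact h2
  have hKn : normalizer (V : Set G) ≤ normalizer ((centralizer (V : Set G) : Subgroup G) : Set G) := by
    refine Sd.le_normalizer_of_conj fun t ht x hx => mem_centralizer_iff.2 fun v hv => ?_
    have h1 : t⁻¹ * v * t ∈ V := by
      have := (mem_normalizer_iff.1 (inv_mem ht) v).1 hv
      rwa [inv_inv] at this
    have h2 := mem_centralizer_iff.1 hx _ h1
    calc v * (t * x * t⁻¹) = t * (t⁻¹ * v * t * x) * t⁻¹ := by group
      _ = t * (x * (t⁻¹ * v * t)) * t⁻¹ := by rw [h2]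
      _ = _ := by group
  have hSK : (S : Subgroup G) ⊓ centralizer (V : Set G) ≤ o2 P := by
    rw [hV, IsParS.inf_centralizer S hG h]
  have hQK : o2 P ≤ centralizer (V : Set G) := fun q hq => mem_centralizer_iff.2 fun v hv =>
    (o2_comm_V hG S h hq hv).symm
  have key : X ≤ centralizer (V : Set G) := by
    refine (fr_of hG S h M hω hk).le_of_norm (N := normalizer (V : Set G)) ?_ (centralizer_le_normalizer _) hKn hQK hSK
      ?_ ?_ ?_ ?_ fun x hx => sq_Lam hG S h M hω hk hx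
    · exact Sd.le_normalizer_of_conj fun t ht x hx => conj_mem_zl (h.le ht) hx
    · refine Sd.le_normalizer_of_conj fun x hx v hv => ?_
      have h1 := mul_mem (hUV (hx.2 v (hVU hv))) hv
      rwa [inv_mul_cancel_right] at h1
    · rintro x ⟨hx, hx'⟩
      refine ⟨1, mem_centralizer_iff.2 fun v hv => ?_⟩
      have h1 := hx' v (hVU hv)
      have h2 := mem_centralizer_iff.1 hx _ h1
      have h3 := Sd.V_sq hG S h (hUV h1)
      rw [pow_one, pow_two]
      have e : x * x * v * (x * x)⁻¹ = x * (x * v * x⁻¹ * v⁻¹) * x⁻¹ * (x * v * x⁻¹ * v⁻¹) * v := by group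
      rw [← h2, mul_inv_cancel_right, h3, one_mul] at e
      exact (mul_inv_eq_iff_eq_mul.1 e).symm
    · intro l hl x hx
      refine hXn l (mem_centralizer_iff.2 fun d hd => ?_) x hx
      exact (cc_D M hl (hU hd)).symm
    · rintro x ⟨hx, hx'⟩ l hl hlx
      have hl0 : cc M l = 0 := by
        funext i
        rw [Pi.zero_apply, comm_zero_iff M hl i]
        intro v hv
        have h1 : l * v * l⁻¹ = x * v * x⁻¹ := by
          have h2 := mem_centralizer_iff.1 hlx v hv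
          calc l * v * l⁻¹ = l * (v * (l⁻¹ * x)) * x⁻¹ := by group
            _ = l * (l⁻¹ * x * v) * x⁻¹ := by rw [h2]
            _ = _ := by group
        rw [h1, e_cv M (hU (hx' v (hVU hv)))]
        rfl
      have h1 := mul_mem (hQK ((Lam_ker hG S h M hk hl).1 hl0)) hlx
      rwa [mul_inv_cancel_left] at h1
  intro x hx hx' v hv
  have h1 := mem_centralizer_iff.1 (key (show x ∈ X from ⟨hx, hx'⟩)) v hv
  change x * v * x⁻¹ * v⁻¹ = 1
  rw [← h1, mul_inv_cancel_right, mul_inv_cancel]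

omit [Finite F] [CharP F 2] in
theorem exists_omega (hF : 4 ≤ Nat.card F) : ∃ ω : F, ω ≠ 0 ∧ ω ≠ 1 := by
  classical
  by_contra hc
  push Not at hc
  have : Finite F := Nat.finite_of_card_ne_zero (by omega)
  let _ := Fintype.ofFinite F
  have h1 : (Finset.univ : Finset F) ⊆ {0, 1} := fun x _ => by
    simp only [Finset.mem_insert, Finset.mem_singleton]
    by_cases hx : x = 0
    · exact Or.inl hx
    · exact Or.inr (hc x hx)
  have h2 := Finset.card_le_card h1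
  rw [Finset.card_univ, ← Nat.card_eq_fintype_card] at h2
  have h3 : ({0, 1} : Finset F).card ≤ 2 := Finset.card_le_two
  omega

include hG h in
/-- **(H1b)** for the natural submodule `Nc M i` -/
theorem vz (hF : 4 ≤ Nat.card F) (i : Fin k) (hU : Uc M i ≠ ⊥) :
    Nc M i ≤ zc (o2 (normalizer (Uc M i : Set G))) :=
  (Sd.Nc_le M i).trans (V_le_zc hG S h M (exists_omega hF) i.pos hU inf_le_right)

include hG h in
/-- **(H1b)** for the natural submodule `Nc M i`, with the centraliser -/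
theorem vz' (hF : 4 ≤ Nat.card F) (i : Fin k) (hU : Uc M i ≠ ⊥) :
    Nc M i ≤ zc (o2 (centralizer (Uc M i : Set G))) :=
  (Sd.Nc_le M i).trans (V_le_zc' hG S h M (exists_omega hF) i.pos hU inf_le_right)

end fr

end Cfsg.Agent.Omega.IId.Ns.Rk
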