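import Cfsg.Agent.Omega.IId.Ns.Core
import Cfsg.Agent.Omega.HOne.NSClaim
import Cfsg.Agent.Omega.HOne.NSDat
import Cfsg.Agent.Omega.Half.Basic

/-!
# II.d, `k = 2`, nonsplit: (4), (6), (7)

`Base.exists_core` : the structure `Core` exists for every `Base`.
-/

set_option autoImplicit false
set_option linter.unusedSectionVars false

namespace Cfsg.Agent.Omega.IId.Ns.CoreOf

open Subgroup Cfsg Cfsg.Agent.Lib.SL2Mat
open Cfsg.Agent.ZN (zc o2)
open Cfsg.Agent.MinSimple.VModule (mem_zc zc_le zc_sq o2_le o2_isPGroup le_normalizer_o2 le_o2)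
open Cfsg.Agent.Omega.HOne.NSMod Cfsg.Agent.Omega.HOne.NSSide Cfsg.Agent.Omega.HOne.NSPair
open Cfsg.Agent.Omega.HOne.NSClaim (br br_mul_self br_mem br_mul claim)
open Cfsg.Agent.Omega.NatPair (ap ap_zero')

universe u

variable {G : Type u} [Group G] {F : Type} [Field F]

section gen

/-- conjugates by elements of `C_G(U)` -/
theorem UG_le {A U : Subgroup G} {K : Subgroup G}
    (h : ∀ m ∈ centralizer (U : Set G), ∀ a ∈ A, m * a * m⁻¹ ∈ K) : UG A U ≤ K := by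
  rw [UG, closure_le]
  rintro _ ⟨m, hm, a, ha, rfl⟩
  exact h m hm a ha

theorem UG_self {A U : Subgroup G} : A ≤ UG A U := fun a ha =>
  subset_closure ⟨1, one_mem _, a, ha, by group⟩

theorem UG_conj {A U : Subgroup G} {t : G} (hA : ∀ a ∈ A, t * a * t⁻¹ ∈ A)
    (hM : ∀ m ∈ centralizer (U : Set G), t * m * t⁻¹ ∈ centralizer (U : Set G)) {u : G} (hu : u ∈ UG A U) :
    t * u * t⁻¹ ∈ UG A U := by
  have h1 : UG A U ≤ (UG A U).comap (MulAut.conj t).toMonoidHom := UG_le fun m hm a ha => by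
    change t * (m * a * m⁻¹) * t⁻¹ ∈ UG A U
    have e : t * (m * a * m⁻¹) * t⁻¹ = (t * m * t⁻¹) * (t * a * t⁻¹) * (t * m * t⁻¹)⁻¹ := by group
    rw [e]
    exact subset_closure ⟨_, hM m hm, _, hA a ha, rfl⟩
  exact h1 hu

theorem UG_conjM {A U : Subgroup G} {m : G} (hm : m ∈ centralizer (U : Set G)) {u : G} (hu : u ∈ UG A U) :
    m * u * m⁻¹ ∈ UG A U := by
  have h1 : UG A U ≤ (UG A U).comap (MulAut.conj m).toMonoidHom := UG_le fun m' hm' a ha => by
    change m * (m' * a * m'⁻¹) * m⁻¹ ∈ UG A U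
    have e : m * (m' * a * m'⁻¹) * m⁻¹ = (m * m') * a * (m * m')⁻¹ := by group
    rw [e]
    exact subset_closure ⟨_, mul_mem hm hm', _, ha, rfl⟩
  exact h1 hu

theorem conj_cent {U : Subgroup G} {t : G} (ht : ∀ u ∈ U, t⁻¹ * u * t ∈ U) {m : G}
    (hm : m ∈ centralizer (U : Set G)) : t * m * t⁻¹ ∈ centralizer (U : Set G) := by
  rw [mem_centralizer_iff] at hm ⊢
  intro u hu
  have h1 := hm _ (ht u hu)
  calc u * (t * m * t⁻¹) = t * (t⁻¹ * u * t * m) * t⁻¹ := by group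
    _ = t * (m * (t⁻¹ * u * t)) * t⁻¹ := by rw [h1]
    _ = _ := by group

theorem centralizer_le_norm (U : Subgroup G) : centralizer (U : Set G) ≤ normalizer (U : Set G) := by
  intro m hm
  rw [mem_normalizer_iff]
  intro u
  constructor
  · intro hu
    have := mem_centralizer_iff.1 hm u hu
    rw [← this, mul_inv_cancel_right]; exact hu
  · intro hu
    have := mem_centralizer_iff.1 hm _ hu
    have e : m * u * m⁻¹ = u := by
      calc m * u * m⁻¹ = m⁻¹ * (m * (m * u * m⁻¹)) := by group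
        _ = m⁻¹ * (m * u * m⁻¹ * m) := by rw [← this]
        _ = u := by group
    rw [e] at hu; exact hu

/-- `N_G(U)` normalises `zc (o2 (N_G(U)))` -/
theorem zc_conj {X : Subgroup G} {m a : G} (hm : m ∈ X) (ha : a ∈ zc (o2 X)) :
    m * a * m⁻¹ ∈ zc (o2 X) := by
  have h1 := mem_zc.1 ha
  have hn := le_normalizer_o2 X
  refine mem_zc.2 ⟨(mem_normalizer_iff.1 (hn hm) a).1 h1.1, fun y hy => ?_, ?_⟩
  · have h2 : m⁻¹ * y * m ∈ o2 X := by
      have := (mem_normalizer_iff.1 (hn (inv_mem hm)) y).1 hy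
      rwa [inv_inv] at this
    have h3 := h1.2.1 _ h2
    calc y * (m * a * m⁻¹) = m * (m⁻¹ * y * m * a) * m⁻¹ := by group
      _ = m * (a * (m⁻¹ * y * m)) * m⁻¹ := by rw [h3]
      _ = _ := by group
  · have h3 := h1.2.2
    rw [pow_two] at h3 ⊢
    calc m * a * m⁻¹ * (m * a * m⁻¹) = m * (a * a) * m⁻¹ := by group
      _ = 1 := by rw [h3]; group

end gen

section base

variable {T T' L L' A A' U U' : Subgroup G} {π π' : G → Fin 2 → F} {e f g e' f' g' : F → G}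

theorem mem_U (b : Base T T' L L' A A' U U' π π' e f g e' f' g') {x : G} : x ∈ U ↔ ∃ y, x = g y := by
  constructor
  · intro hx
    exact b.p.φ.ND x (b.p.s.r.DV hx) hx
  · rintro ⟨y, rfl⟩
    exact b.p.φ.gD y

theorem mem_U' [Finite F] (b : Base T T' L L' A A' U U' π π' e f g e' f' g') {x : G} : x ∈ U' ↔ ∃ z, x = e z := by
  constructor
  · intro hx
    obtain ⟨y, rfl⟩ := (mem_U b.symm).1 hx
    choose h hh using b.c1
    have hi : Function.Injective h := by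
      intro z z' hz
      have h1 := hh z
      rw [hz, ← hh z'] at h1
      exact b.p.φ.e_inj b.p.s.r h1
    obtain ⟨z, rfl⟩ := Finite.surjective_of_injective hi y
    exact ⟨z, (hh z).symm⟩
  · rintro ⟨z, rfl⟩
    obtain ⟨y, hy⟩ := b.c1 z
    rw [hy]
    exact b.p.φ'.gD y

theorem U'_le [Finite F] (b : Base T T' L L' A A' U U' π π' e f g e' f' g') : U' ≤ A := by
  intro x hx
  obtain ⟨z, rfl⟩ := (mem_U' b).1 hx
  exact b.p.φ.eV z

/-- `UU` is contained in `Ω₁ Z(O₂(N_G(U)))` -/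
theorem UG_le_zc (b : Base T T' L L' A A' U U' π π' e f g e' f' g') :
    UG A U ≤ zc (o2 (normalizer (U : Set G))) :=
  UG_le fun _ hm _ ha => zc_conj (centralizer_le_norm U hm) (b.AZ ha)

theorem ab (b : Base T T' L L' A A' U U' π π' e f g e' f' g') : ∀ x ∈ UG A U, ∀ y ∈ UG A U, x * y = y * x :=
  fun _ hx _ hy => (mem_zc.1 (UG_le_zc b hy)).2.1 _ (zc_le _ (UG_le_zc b hx))

theorem sq (b : Base T T' L L' A A' U U' π π' e f g e' f' g') : ∀ x ∈ UG A U, x * x = 1 := fun x hx => by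
  rw [← pow_two]
  exact zc_sq _ _ (UG_le_zc b hx)

theorem U_le (b : Base T T' L L' A A' U U' π π' e f g e' f' g') : U ≤ UG A U := b.p.s.r.DV.trans UG_self

theorem UG_cent (b : Base T T' L L' A A' U U' π π' e f g e' f' g') : UG A U ≤ centralizer (U : Set G) := fun _ hx =>
  mem_centralizer_iff.2 fun _ hy => ab b _ (U_le b hy) _ hx

theorem isPGroup_UG (b : Base T T' L L' A A' U U' π π' e f g e' f' g') : IsPGroup 2 (UG A U) := fun x => by
  refine ⟨1, ?_⟩
  apply Subtype.ext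
  rw [pow_one, pow_two]
  exact sq b _ x.2

theorem UG_le_o2 [Finite F] (b : Base T T' L L' A A' U U' π π' e f g e' f' g') : UG A U ≤ o2 (CC U U') := by
  refine le_o2 (le_inf (UG_cent b) fun x hx => mem_centralizer_iff.2 fun y hy =>
    ab b _ (UG_self (U'_le b hy)) _ hx) (isPGroup_UG b) ?_
  intro c hc
  rw [mem_normalizer_iff]
  intro u
  refine ⟨fun hu => UG_conjM hc.1 hu, fun hu => ?_⟩
  have := UG_conjM (inv_mem hc.1) hu
  have e1 : c⁻¹ * (c * u * c⁻¹) * c⁻¹⁻¹ = u := by group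
  rwa [e1] at this

theorem UG_le_T' [Finite F] (b : Base T T' L L' A A' U U' π π' e f g e' f' g') : UG A U ≤ T' :=
  (UG_le_o2 b).trans b.OT'

theorem UG_T (b : Base T T' L L' A A' U U' π π' e f g e' f' g') : ∀ t ∈ T, ∀ u ∈ UG A U, t * u * t⁻¹ ∈ UG A U :=
  fun t ht _ hu => UG_conj (fun a ha => b.p.s.r.Vn t (b.p.s.SP ht) a ha)
    (fun _ hm => conj_cent (fun u hu => by
      have := b.p.s.r.Dn t⁻¹ (inv_mem (b.p.s.SP ht)) u hu
      rwa [inv_inv] at this) hm) hu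

/-- every element of `UU` acts on `A'` as some element of `A` -/
theorem exists_s [Finite F] (b : Base T T' L L' A A' U U' π π' e f g e' f' g') {u : G} (hu : u ∈ UG A U) :
    ∃ a ∈ A, ∀ v ∈ A', u * v * u⁻¹ = a * v * a⁻¹ := by
  obtain ⟨t, ht⟩ := Cfsg.Agent.Omega.HOne.NSDat.act_of b.p.symm (UG_le_T' b hu) (fun z => by
    obtain ⟨y, hy⟩ := b.c2 z
    rw [hy]
    exact ab b _ hu _ (U_le b (b.p.φ.gD y)))
  obtain ⟨a, ha, hal⟩ := b.p.s'.full (t ^ 2)
  exact ⟨a, ha, fun v hv => by rw [ht v hv, b.p.φ'.act t a hal v hv]⟩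

end base

section abs

/-- elementwise criterion for normalising -/
theorem le_norm_of {T K : Subgroup G} (h : ∀ t ∈ T, ∀ k ∈ K, t * k * t⁻¹ ∈ K) : T ≤ normalizer (K : Set G) := by
  intro t ht
  rw [mem_normalizer_iff]
  intro k
  refine ⟨h t ht k, fun hk => ?_⟩
  have := h t⁻¹ (inv_mem ht) _ hk
  have e1 : t⁻¹ * (t * k * t⁻¹) * t⁻¹⁻¹ = k := by group
  rwa [e1] at this

/-- `x = k t`, `k ∈ C`, `t` in the Sylow group `T₁` of `H` -/
theorem exists_fac [Finite G] {H T₁ D C : Subgroup G} (hT : IsPGroup 2 T₁)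
    (hs : ¬ 2 ∣ T₁.relIndex H) (hDH : D ≤ H) (hD : H ≤ normalizer (D : Set G))
    (hC : H ≤ normalizer (C : Set G)) (h : ∀ x ∈ D, x * x ∈ C) {x : G} (hx : x ∈ D) :
    ∃ k ∈ C, ∃ t ∈ T₁, t ∈ D ∧ x = k * t := by
  have hf : Fact (Nat.Prime 2) := ⟨Nat.prime_two⟩
  have h1 : IsPGroup 2 (T₁.subgroupOf H) := hT.comap_of_injective _ H.subtype_injective
  have hn : (D.subgroupOf H).Normal := normal_subgroupOf_of_le_normalizer hD
  have hn2 : (C.subgroupOf H).Normal := normal_subgroupOf_of_le_normalizer hC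
  have h2 := Lib.SylowNormalInf.le_sup_inf (h1.toSylow hs : Sylow 2 H) (D.subgroupOf H) (C.subgroupOf H)
    (fun y hy => ⟨1, by
      rw [pow_one, pow_two]
      exact h y hy⟩)
  have h3 : (⟨x, hDH hx⟩ : H) ∈ C.subgroupOf H ⊔ ((h1.toSylow hs : Sylow 2 H) : Subgroup H) ⊓ D.subgroupOf H :=
    h2 hx
  rw [mem_sup_of_normal_left] at h3
  obtain ⟨k, hk, t, ht, hkt⟩ := h3
  exact ⟨k, hk, t, ht.1, ht.2, (congrArg Subtype.val hkt).symm⟩

/-- index at most 2 -/
theorem inv_mul_mem [Finite G] {T X : Subgroup G} (hTX : T ≤ X) (hc : Nat.card X ≤ 2 * Nat.card T)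
    {a b : G} (ha : a ∈ X) (hb : b ∈ X) (ha' : a ∉ T) (hb' : b ∉ T) : a⁻¹ * b ∈ T := by
  have h1 := Half.card_mul_relIndex hTX
  have h0 : 0 < Nat.card T := Nat.card_pos
  have h2 : T.relIndex X ≤ 2 := by
    rw [← h1, mul_comm] at hc
    exact Nat.le_of_mul_le_mul_right hc h0
  have h3 : T.relIndex X ≠ 0 := fun h => by
    rw [h, mul_zero] at h1
    exact Nat.card_pos.ne h1
  have h4 : T.relIndex X ≠ 1 := fun h => ha' (relIndex_eq_one.1 h ha)
  have h5 : (T.subgroupOf X).index = 2 := by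
    change T.relIndex X = 2
    omega
  have h6 := Subgroup.mul_mem_iff_of_index_two h5 (a := (⟨a, ha⟩ : X)⁻¹) (b := ⟨b, hb⟩)
  have h7 : ((⟨a, ha⟩ : X)⁻¹ ∈ T.subgroupOf X ↔ (⟨b, hb⟩ : X) ∈ T.subgroupOf X) := by
    rw [inv_mem_iff]
    exact ⟨fun h => absurd h ha', fun h => absurd h hb'⟩
  exact h6.2 h7

end abs

/-- `{x ∈ C_G(U) : [UU, x] ≤ U}` -/
def XX (A U : Subgroup G) : Subgroup G where
  carrier := {x | x ∈ centralizer (U : Set G) ∧ ∀ u ∈ UG A U, br x u ∈ U}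
  one_mem' := ⟨one_mem _, fun u _ => by
    have : br (1 : G) u = 1 := by unfold br; group
    rw [this]; exact one_mem _⟩
  mul_mem' := by
    rintro x y ⟨hx, hxU⟩ ⟨hy, hyU⟩
    refine ⟨mul_mem hx hy, fun u hu => ?_⟩
    have h1 : br (x * y) u = (x * br y u * x⁻¹) * br x u := by unfold br; group
    have h2 := mem_centralizer_iff.1 hx _ (hyU u hu)
    rw [h1, ← h2, mul_inv_cancel_right]
    exact mul_mem (hyU u hu) (hxU u hu)
  inv_mem' := by
    rintro x ⟨hx, hxU⟩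
    refine ⟨inv_mem hx, fun u hu => ?_⟩
    have h0 := UG_conjM (inv_mem hx) hu
    rw [inv_inv] at h0
    have h1 : br x⁻¹ u = (br x (x⁻¹ * u * x))⁻¹ := by unfold br; group
    rw [h1]
    exact inv_mem (hxU _ h0)

theorem mem_XX {A U : Subgroup G} {x : G} :
    x ∈ XX A U ↔ x ∈ centralizer (U : Set G) ∧ ∀ u ∈ UG A U, br x u ∈ U := Iff.rfl

theorem XX_conjM {A U : Subgroup G} {m x : G} (hm : m ∈ centralizer (U : Set G)) (hx : x ∈ XX A U) :
    m * x * m⁻¹ ∈ XX A U := by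
  refine ⟨mul_mem (mul_mem hm hx.1) (inv_mem hm), fun u hu => ?_⟩
  have h0 := UG_conjM (inv_mem hm) hu
  rw [inv_inv] at h0
  have h1 : br (m * x * m⁻¹) u = m * br x (m⁻¹ * u * m) * m⁻¹ := by unfold br; group
  have h2 := mem_centralizer_iff.1 hm _ (hx.2 _ h0)
  rw [h1, ← h2, mul_inv_cancel_right]
  exact hx.2 _ h0

section base2

variable {T T' L L' A A' U U' : Subgroup G} {π π' : G → Fin 2 → F} {e f g e' f' g' : F → G}

theorem XX_conjT (b : Base T T' L L' A A' U U' π π' e f g e' f' g') {t x : G} (ht : t ∈ T) (hx : x ∈ XX A U) :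
    t * x * t⁻¹ ∈ XX A U := by
  have hL := b.p.s.SP ht
  refine ⟨conj_cent (fun u hu => ?_) hx.1, fun u hu => ?_⟩
  · have := b.p.s.r.Dn t⁻¹ (inv_mem hL) u hu
    rwa [inv_inv] at this
  · have h0 := UG_T b t⁻¹ (inv_mem ht) u hu
    rw [inv_inv] at h0
    have h1 : br (t * x * t⁻¹) u = t * br x (t⁻¹ * u * t) * t⁻¹ := by unfold br; group
    rw [h1]
    exact b.p.s.r.Dn t hL _ (hx.2 _ h0)

theorem XX_A (b : Base T T' L L' A A' U U' π π' e f g e' f' g') {x : G} (hx : x ∈ XX A U) :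
    ∀ u ∈ A, x * u * x⁻¹ ∈ A := fun u hu => by
  rw [br_mul_self]
  exact mul_mem (b.p.s.r.DV (hx.2 u (UG_self hu))) hu

theorem eq_fg (b : Base T T' L L' A A' U U' π π' e f g e' f' g') {v : G} (hv : v ∈ A) {z : F} (h : π v = ![z, 0]) :
    ∃ c, v = f z * g c := by
  have r := b.p.s.r
  have h1 : (f z)⁻¹ * v ∈ U := (r.ker _ (mul_mem (inv_mem (b.p.φ.fV _)) hv)).1 (by
    rw [r.mul _ (inv_mem (b.p.φ.fV _)) _ hv, r.map_inv (b.p.φ.fV _), b.p.φ.fπ, h, neg_add_cancel])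
  obtain ⟨c, hc⟩ := (mem_U b).1 h1
  exact ⟨c, by rw [← hc]; group⟩

/-- **(6) on `A`** -/
theorem cent_A [Finite G] (b : Base T T' L L' A A' U U' π π' e f g e' f' g') {x : G} (hx : x ∈ XX A U) :
    ∀ v ∈ A, br x v = 1 := by
  have r := b.p.s.r
  have φ := b.p.φ
  by_contra hne
  push Not at hne
  obtain ⟨v0, hv0, hv01⟩ := hne
  -- the group `XX T`
  obtain ⟨T₁, hTT, hTH, hT2, hTs⟩ := Half.exists_sylow_le (So := T) (H := XX A U ⊔ T) b.T2 le_sup_right
  have hcard := b.two T₁ hT2 hTT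
  have hn1 : XX A U ⊔ T ≤ normalizer (XX A U : Set G) :=
    sup_le le_normalizer (le_norm_of fun t ht k hk => XX_conjT b ht hk)
  have hn2 : XX A U ⊔ T ≤ normalizer (centralizer (A : Set G) : Set G) := by
    refine sup_le (le_norm_of fun t ht k hk => conj_cent (fun u hu => ?_) hk)
      (le_norm_of fun t ht k hk => conj_cent (fun u hu => ?_) hk)
    · have := XX_A b (inv_mem ht) u hu
      rwa [inv_inv] at this
    · have := r.Vn t⁻¹ (inv_mem (b.p.s.SP ht)) u hu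
      rwa [inv_inv] at this
  have hsq : ∀ y ∈ XX A U, y * y ∈ centralizer (A : Set G) := by
    intro y hy
    rw [mem_centralizer_iff]
    intro u hu
    have hyU := hy.2 u (UG_self hu)
    have h1 : y * (y * u * y⁻¹) * y⁻¹ = u := by
      rw [br_mul_self y u]
      have h2 := mem_centralizer_iff.1 hy.1 _ hyU
      calc y * (br y u * u) * y⁻¹ = (y * br y u) * (u * y⁻¹) := by group
        _ = (br y u * y) * (u * y⁻¹) := by rw [h2]
        _ = br y u * (y * u * y⁻¹) := by group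
        _ = (br y u * br y u) * u := by rw [br_mul_self y u]; group
        _ = u := by rw [r.Vs _ (r.DV hyU), one_mul]
    calc u * (y * y) = (y * (y * u * y⁻¹) * y⁻¹) * (y * y) := by rw [h1]
      _ = y * y * u := by group
  -- elements of `T` in `XX` centralise `A`
  have hTc : ∀ t ∈ T, t ∈ XX A U → t ∈ centralizer (A : Set G) := by
    intro t ht htX
    rw [mem_centralizer_iff]
    intro v hv
    refine (b.p.s.sec t ht (fun w hw => ?_) v hv).symm
    have h1 := htX.2 w (UG_self hw)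
    rw [br_mul_self, r.mul _ (r.DV h1) _ hw, (r.ker _ (r.DV h1)).2 h1, zero_add]
  -- two elements of `XX` acting nontrivially on `A` act in the same way
  have key : ∀ y ∈ XX A U, (∃ v ∈ A, br y v ≠ 1) → ∀ v ∈ A, br y v = br x v := by
    intro y hy hyn v hv
    obtain ⟨k, hk, t, ht, htX, hxe⟩ := exists_fac hT2 hTs le_sup_left hn1 hn2 hsq hx
    obtain ⟨k', hk', t', ht', htX', hye⟩ := exists_fac hT2 hTs le_sup_left hn1 hn2 hsq hy
    have hk1 := mem_centralizer_iff.1 hk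
    have hk1' := mem_centralizer_iff.1 hk'
    have hact : ∀ v ∈ A, x * v * x⁻¹ = t * v * t⁻¹ := by
      intro v hv
      have h1 := hk1 _ (XX_A b htX v hv)
      calc x * v * x⁻¹ = k * (t * v * t⁻¹) * k⁻¹ := by rw [hxe]; group
        _ = t * v * t⁻¹ := by rw [← h1, mul_inv_cancel_right]
    have hact' : ∀ v ∈ A, y * v * y⁻¹ = t' * v * t'⁻¹ := by
      intro v hv
      have h1 := hk1' _ (XX_A b htX' v hv)
      calc y * v * y⁻¹ = k' * (t' * v * t'⁻¹) * k'⁻¹ := by rw [hye]; group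
        _ = t' * v * t'⁻¹ := by rw [← h1, mul_inv_cancel_right]
    have htT : t ∉ T := by
      intro h
      apply hv01
      have h1 := mem_centralizer_iff.1 (hTc t h htX) v0 hv0
      unfold br
      rw [hact v0 hv0, ← h1, mul_inv_cancel_right, mul_inv_cancel]
    have htT' : t' ∉ T := by
      intro h
      obtain ⟨w, hw, hw1⟩ := hyn
      apply hw1
      have h1 := mem_centralizer_iff.1 (hTc t' h htX') w hw
      unfold br
      rw [hact' w hw, ← h1, mul_inv_cancel_right, mul_inv_cancel]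
    have h1 := inv_mul_mem hTT hcard ht ht' htT htT'
    have h2 := mem_centralizer_iff.1 (hTc _ h1 (mul_mem (inv_mem htX) htX')) v hv
    have h3 : t' * v * t'⁻¹ = t * v * t⁻¹ := by
      calc t' * v * t'⁻¹ = t * (t⁻¹ * t' * v) * t'⁻¹ := by group
        _ = t * (v * (t⁻¹ * t')) * t'⁻¹ := by rw [h2]
        _ = _ := by group
    unfold br
    rw [hact v hv, hact' v hv, h3]
  -- equivariance
  have heq : ∀ y B, Is L A U π y B → ∀ v ∈ A, br x (y * v * y⁻¹) = br x v := by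
    intro y B hy v hv
    have hyM : y ∈ centralizer (U : Set G) := mem_centralizer_iff.2 fun d hd => (hy.cen d hd).symm
    have hconj : ∀ w ∈ A, br (y⁻¹ * x * y) w = br x (y * w * y⁻¹) := by
      intro w hw
      have h1 : br (y⁻¹ * x * y) w = y⁻¹ * br x (y * w * y⁻¹) * y := by unfold br; group
      have h2 := hx.2 _ (UG_self (r.Vn y hy.mem w hw))
      have h3 := hy.cen _ h2
      calc br (y⁻¹ * x * y) w = y⁻¹ * (br x (y * w * y⁻¹) * y) := by rw [h1]; group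
        _ = y⁻¹ * (y * br x (y * w * y⁻¹)) := by rw [h3]
        _ = _ := by group
    have hxX : y⁻¹ * x * y ∈ XX A U := by
      have := XX_conjM (inv_mem hyM) hx
      rwa [inv_inv] at this
    rw [← hconj v hv]
    refine key _ hxX ⟨y⁻¹ * v0 * y, ?_, ?_⟩ v hv
    · have := r.Vn y⁻¹ (inv_mem hy.mem) v0 hv0
      rwa [inv_inv] at this
    · have h1 : y⁻¹ * v0 * y ∈ A := by
        have := r.Vn y⁻¹ (inv_mem hy.mem) v0 hv0
        rwa [inv_inv] at this
      rw [hconj _ h1]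
      have e1 : y * (y⁻¹ * v0 * y) * y⁻¹ = v0 := by group
      rw [e1]
      exact hv01
  have hmul : ∀ u ∈ A, ∀ v ∈ A, br x (u * v) = br x u * br x v := fun u hu v hv =>
    br_mul r.Vc (XX_A b hx) hu hv
  have hg : ∀ z, br x (g z) = 1 := by
    intro z
    have := mem_centralizer_iff.1 hx.1 _ (φ.gD z)
    unfold br
    rw [← this, mul_inv_cancel_right, mul_inv_cancel]
  have gA : ∀ z, g z ∈ A := fun z => φ.gV r z
  have he : ∀ z, br x (e z) = 1 := by
    intro z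
    obtain ⟨y, hy⟩ := r.is_lift (lo ((1 : F) ^ 2))
    have h1 := φ.act 1 y hy (f z) (φ.fV z)
    have h2 := heq y _ hy (f z) (φ.fV z)
    rw [φ.fπ] at h1
    simp only [Matrix.cons_val_zero, one_pow, one_mul] at h1
    rw [h1, hmul _ (mul_mem (φ.eV z) (gA z)) _ (φ.fV z), hmul _ (φ.eV z) _ (gA z), hg, mul_one] at h2
    exact mul_eq_right.1 h2
  have hf : ∀ z, br x (f z) = 1 := by
    intro z
    obtain ⟨n, hn⟩ := r.is_lift (wm (1 : F) one_ne_zero)
    have h1 := hn.act (e z) (φ.eV z)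
    rw [φ.eπ, ap_wm] at h1
    obtain ⟨c, hc⟩ := eq_fg b (r.Vn n hn.mem _ (φ.eV z)) (z := z) (by rw [h1]; simp)
    have h2 := heq n _ hn (e z) (φ.eV z)
    rw [hc, hmul _ (φ.fV z) _ (gA c), hg, mul_one, he] at h2
    exact h2
  obtain ⟨a, c, y, hv⟩ := (φ.mN v0).1 hv0
  apply hv01
  rw [hv, hmul _ (mul_mem (φ.eV a) (φ.fV c)) _ (gA y), hmul _ (φ.eV a) _ (φ.fV c), he, hf, hg]
  simp

/-- **(6)** -/
theorem hO2 [Finite G] (b : Base T T' L L' A A' U U' π π' e f g e' f' g') :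
    ∀ x ∈ centralizer (U : Set G), (∀ u ∈ UG A U, br x u ∈ U) → ∀ u ∈ UG A U, br x u = 1 := by
  intro x hx h u hu
  have h1 : UG A U ≤ centralizer ({x} : Set G) := UG_le fun m hm a ha => by
    rw [mem_centralizer_iff]
    intro y hy
    rw [Set.mem_singleton_iff.1 hy]
    have h2 : m⁻¹ * x * m ∈ XX A U := by
      have := XX_conjM (inv_mem hm) (show x ∈ XX A U from ⟨hx, h⟩)
      rwa [inv_inv] at this
    have h3 := cent_A b h2 a ha
    unfold br at h3
    have h4 : m⁻¹ * x * m * a = a * (m⁻¹ * x * m) := by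
      rw [mul_inv_eq_one] at h3
      exact mul_inv_eq_iff_eq_mul.1 h3
    calc x * (m * a * m⁻¹) = m * (m⁻¹ * x * m * a) * m⁻¹ := by group
      _ = m * (a * (m⁻¹ * x * m)) * m⁻¹ := by rw [h4]
      _ = _ := by group
  have h2 := mem_centralizer_iff.1 (h1 hu) x rfl
  unfold br
  rw [h2, mul_inv_cancel_right, mul_inv_cancel]

end base2

section seven

variable {T T' L L' A A' U U' : Subgroup G} {π π' : G → Fin 2 → F} {e f g e' f' g' : F → G}

/-- elements of `CC` commute with `C_A(A') = e(F) U` -/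
theorem cc_comm [Finite F] (b : Base T T' L L' A A' U U' π π' e f g e' f' g') {c : G} (hc : c ∈ CC U U')
    {u : G} (hu : u ∈ A) (h0 : π u 0 = 0) : c * u = u * c := by
  have r := b.p.s.r
  have φ := b.p.φ
  have h1 : (e (π u 1))⁻¹ * u ∈ U := (r.ker _ (mul_mem (inv_mem (φ.eV _)) hu)).1 (by
    rw [r.mul _ (inv_mem (φ.eV _)) _ hu, r.map_inv (φ.eV _), φ.eπ]
    apply Cfsg.Agent.Omega.NatPair.ext2
    · simp [h0]
    · simp)
  have h2 := mem_centralizer_iff.1 hc.1 _ h1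
  have h3 := mem_centralizer_iff.1 hc.2 _ ((mem_U' b).2 ⟨π u 1, rfl⟩)
  calc c * u = (c * e (π u 1)) * ((e (π u 1))⁻¹ * u) := by group
    _ = e (π u 1) * (c * ((e (π u 1))⁻¹ * u)) := by rw [← h3]; group
    _ = e (π u 1) * ((e (π u 1))⁻¹ * u * c) := by rw [← h2]
    _ = _ := by group

/-- THEOREM NS (5) -/
theorem exists_ne [Finite G] [Finite F] (b : Base T T' L L' A A' U U' π π' e f g e' f' g') {s : G → F}
    (hs : ∀ u ∈ UG A U, ∀ v ∈ UG A U, s (u * v) = s u + s v) (hsA : ∀ a ∈ A, s a = π a 0)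
    (hact : ∀ t, ∀ n ∈ A', Is L A U π n (lo (t ^ 2)) → ∀ u ∈ UG A U, n * u * n⁻¹ = e (t ^ 2 * s u) * g (t * s u) * u)
    {c : G} (hc : c ∈ CC U U') : ∃ u ∈ A, s (c * u * c⁻¹) ≠ 0 := by
  have r := b.p.s.r
  have φ := b.p.φ
  have : CharP F 2 := CharTwo.of_one_ne_zero_of_two_eq_zero one_ne_zero r.two
  by_contra hcon
  push Not at hcon
  obtain ⟨n, hn⟩ := r.is_lift (wm (1 : F) one_ne_zero)
  choose nn hnn hnI using fun t : F => b.p.s.full (t ^ 2)
  have hnM : n ∈ centralizer (U : Set G) := mem_centralizer_iff.2 fun d hd => (hn.cen d hd).symm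
  refine claim (A := UG A U) (U := U) (R := A ⊓ centralizer (A' : Set G)) (N := A) (M := centralizer (U : Set G))
    (ab b) (fun x hx u hu => UG_conjM hx hu) (fun x hx u hu => (mem_centralizer_iff.1 hx u hu).symm) ?_ inf_le_left
    UG_self (hO2 b) hs ?_ (e := e) (f := fun x => n * e x * n⁻¹) (g := g) ?_ φ.gD ?_ φ.e_add φ.g_add b.g1 ?_ (nn := nn)
    ?_ ?_ (c := c) (n := n) hc.1 ?_ (fun x => rfl) ?_ ?_ b.p.ω hcon
  · intro u hu
    refine ⟨r.DV hu, mem_centralizer_iff.2 ((b.p.s.cen u (r.DV hu)).2 ?_)⟩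
    rw [(r.ker u (r.DV hu)).2 hu]; rfl
  · rintro u ⟨hu, huc⟩
    rw [hsA u hu]
    exact (b.p.s.cen u hu).1 (mem_centralizer_iff.1 huc)
  · intro x
    refine ⟨φ.eV x, mem_centralizer_iff.2 ((b.p.s.cen _ (φ.eV x)).2 ?_)⟩
    rw [φ.eπ]; rfl
  · intro x
    exact r.Vn n hn.mem _ (φ.eV x)
  · intro x
    rw [hsA _ (r.Vn n hn.mem _ (φ.eV x)), hn.act _ (φ.eV x), φ.eπ, ap_wm]
    simp
  · intro t
    exact mem_centralizer_iff.2 fun d hd => ((hnI t).cen d hd).symm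
  · intro t u hu
    unfold br
    rw [hact t _ (hnn t) (hnI t) u hu, mul_inv_cancel_right, mul_comm (s u), mul_comm (s u)]
  · rintro u ⟨hu, huc⟩
    exact cc_comm b hc hu ((b.p.s.cen u hu).1 (mem_centralizer_iff.1 huc))
  · exact mul_mem (mul_mem hc.1 hnM) (inv_mem hc.1)
  · intro u hu
    have := r.Vn n⁻¹ (inv_mem hn.mem) u hu
    rwa [inv_inv] at this

end seven

end Cfsg.Agent.Omega.IId.Ns.CoreOf

namespace Cfsg.Agent.Omega.IId.Ns

open Subgroup Cfsg Cfsg.Agent.Lib.SL2Mat Cfsg.Agent.Omega.HOne.NSMod Cfsg.Agent.Omega.HOne.NSSide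
open Cfsg.Agent.Omega.HOne.NSPair
open Cfsg.Agent.ZN (zc o2)
open Cfsg.Agent.MinSimple.VModule (le_normalizer_o2)

universe u

variable {G : Type u} [Group G] {F : Type} [Field F]
variable {T T' L L' A A' U U' : Subgroup G} {π π' : G → Fin 2 → F} {e f g e' f' g' : F → G}

/-- **(4)-(7)** -/
theorem Base.exists_core [Finite G] [Finite F] (b : Base T T' L L' A A' U U' π π' e f g e' f' g') :
    ∃ s : G → F, Core T L A A' U U' π e g s := by
  classical
  have r := b.p.s.r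
  have r' := b.p.s'.r
  have φ := b.p.φ
  let s : G → F := fun u => if h : u ∈ UG A U then π (CoreOf.exists_s b h).choose 0 else 0
  have hss : ∀ u ∈ UG A U, ∀ a ∈ A, (∀ v ∈ A', u * v * u⁻¹ = a * v * a⁻¹) → s u = π a 0 := by
    intro u hu a ha h
    have h0 : s u = π (CoreOf.exists_s b hu).choose 0 := dif_pos hu
    obtain ⟨h1, h2⟩ := (CoreOf.exists_s b hu).choose_spec
    rw [h0]
    obtain ⟨a0, ha0⟩ : ∃ a0, a0 = (CoreOf.exists_s b hu).choose := ⟨_, rfl⟩
    rw [← ha0] at h1 h2 ⊢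
    have h3 : π (a0⁻¹ * a) 0 = 0 := (b.p.s.cen _ (mul_mem (inv_mem h1) ha)).1 fun v hv => by
      have h4 : a * v * a⁻¹ = a0 * v * a0⁻¹ := by rw [← h v hv, h2 v hv]
      calc v * (a0⁻¹ * a) = a0⁻¹ * (a0 * v * a0⁻¹) * a := by group
        _ = a0⁻¹ * (a * v * a⁻¹) * a := by rw [h4]
        _ = _ := by group
    rw [r.mul _ (inv_mem h1) _ ha, r.map_inv h1] at h3
    have h5 : - π a0 0 + π a 0 = 0 := h3
    exact (neg_add_eq_zero.1 h5)
  have hex : ∀ u ∈ UG A U, ∃ a ∈ A, (∀ v ∈ A', u * v * u⁻¹ = a * v * a⁻¹) ∧ s u = π a 0 := by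
    intro u hu
    obtain ⟨a, ha, h⟩ := CoreOf.exists_s b hu
    exact ⟨a, ha, h, hss u hu a ha h⟩
  have s_add : ∀ u ∈ UG A U, ∀ v ∈ UG A U, s (u * v) = s u + s v := by
    intro u hu v hv
    obtain ⟨a, ha, h1, h2⟩ := hex u hu
    obtain ⟨c, hc, h3, h4⟩ := hex v hv
    rw [h2, h4, hss (u * v) (mul_mem hu hv) (a * c) (mul_mem ha hc) fun w hw => ?_, r.mul a ha c hc]
    · rfl
    · have h5 : c * w * c⁻¹ ∈ A' := r'.Vn c (b.p.s'.SP (b.p.s'.AS hc)) w hw
      calc u * v * w * (u * v)⁻¹ = u * (v * w * v⁻¹) * u⁻¹ := by group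
        _ = a * (c * w * c⁻¹) * a⁻¹ := by rw [h3 w hw, h1 _ h5]
        _ = _ := by group
  have s_A : ∀ a ∈ A, s a = π a 0 := fun a ha => hss a (CoreOf.UG_self ha) a ha fun _ _ => rfl
  have s_act : ∀ t, ∀ n ∈ A', Is L A U π n (lo (t ^ 2)) → ∀ u ∈ UG A U,
      n * u * n⁻¹ = e (t ^ 2 * s u) * g (t * s u) * u := by
    intro t n hn hnI u hu
    obtain ⟨a, ha, h1, h2⟩ := hex u hu
    have h3 := φ.act t n hnI a ha
    rw [h2]
    have h4 : u * n⁻¹ * u⁻¹ = a * n⁻¹ * a⁻¹ := h1 _ (inv_mem hn)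
    calc n * u * n⁻¹ = n * (u * n⁻¹ * u⁻¹) * u := by group
      _ = n * a * n⁻¹ * a⁻¹ * u := by rw [h4]; group
      _ = _ := by rw [h3, mul_inv_cancel_right]
  refine ⟨s, CoreOf.ab b, CoreOf.sq b, CoreOf.UG_self, CoreOf.UG_le_o2 b, fun m hm u hu => CoreOf.UG_conjM hm hu,
    CoreOf.UG_T b, s_add, s_A, s_act, ?_⟩
  intro c hc a ha
  obtain ⟨u, hu, hu0⟩ := CoreOf.exists_ne b s_add s_A s_act hc
  obtain ⟨n, hn, hnI⟩ := b.p.s.full ((1 : F) ^ 2)
  -- `c⁻¹ n c` acts on `A` with a parameter `τ`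
  have hcU : ∀ z, c * g z = g z * c := fun z => (mem_centralizer_iff.1 hc.1 _ (φ.gD z)).symm
  have hcE : ∀ z, c * e z = e z * c := fun z => (mem_centralizer_iff.1 hc.2 _ ((CoreOf.mem_U' b).2 ⟨z, rfl⟩)).symm
  have hnT : c⁻¹ * n * c ∈ T := by
    refine b.OT ?_
    have h1 := CoreOf.UG_le_o2 b.symm (CoreOf.UG_self hn)
    have h2 : n ∈ o2 (CC U U') := by rw [CC, inf_comm]; exact h1
    have h3 := (mem_normalizer_iff.1 (le_normalizer_o2 (CC U U') (inv_mem hc)) n).1 h2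
    rwa [inv_inv] at h3
  have hnE : ∀ z, c⁻¹ * n * c * e z = e z * (c⁻¹ * n * c) := by
    intro z
    have h1 : n * e z = e z * n := ((b.p.s.cen _ (φ.eV z)).2 (by rw [φ.eπ]; rfl)) n hn
    calc c⁻¹ * n * c * e z = c⁻¹ * n * (c * e z) := by group
      _ = c⁻¹ * (n * e z) * c := by rw [hcE]; group
      _ = c⁻¹ * (e z * n) * c := by rw [h1]
      _ = c⁻¹ * (e z * c) * (c⁻¹ * n * c) := by group
      _ = c⁻¹ * (c * e z) * (c⁻¹ * n * c) := by rw [hcE]
      _ = _ := by group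
  obtain ⟨τ, hτ⟩ := Cfsg.Agent.Omega.HOne.NSDat.act_of b.p hnT hnE
  have hkey : ∀ v ∈ A, s (c * v * c⁻¹) = τ ^ 2 * π v 0 ∧ s (c * v * c⁻¹) = τ * π v 0 := by
    intro v hv
    have h1 := s_act 1 n hn hnI (c * v * c⁻¹) (CoreOf.UG_conjM hc.1 (CoreOf.UG_self hv))
    have h2 := hτ v hv
    simp only [one_pow, one_mul] at h1
    have h3 : e (s (c * v * c⁻¹)) * g (s (c * v * c⁻¹)) = e (τ ^ 2 * π v 0) * g (τ * π v 0) := by
      have h4 : c⁻¹ * n * c * v * (c⁻¹ * n * c)⁻¹ * v⁻¹ = c⁻¹ * (n * (c * v * c⁻¹) * n⁻¹ * (c * v * c⁻¹)⁻¹) * c := by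
        group
      rw [h2, h1, mul_inv_cancel_right, mul_inv_cancel_right] at h4
      rw [h4]
      calc _ = c⁻¹ * (c * e (s (c * v * c⁻¹)) * g (s (c * v * c⁻¹))) := by group
        _ = c⁻¹ * (e (s (c * v * c⁻¹)) * (c * g (s (c * v * c⁻¹)))) := by rw [hcE]; group
        _ = _ := by rw [hcU]; group
    obtain ⟨h5, h6⟩ := φ.eg_inj r h3
    refine ⟨h5, ?_⟩
    have h7 : g (s (c * v * c⁻¹) - τ * π v 0) = 1 := by
      have h8 := φ.g_add (s (c * v * c⁻¹) - τ * π v 0) (τ * π v 0)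
      rw [sub_add_cancel, h6] at h8
      exact right_eq_mul.1 h8
    exact sub_eq_zero.1 (b.g1 _ h7)
  obtain ⟨h1, h2⟩ := hkey u hu
  have hτ1 : τ = 1 := by
    have h3 : τ * π u 0 ≠ 0 := h2 ▸ hu0
    have h4 : τ * (τ * π u 0) = 1 * (τ * π u 0) := by
      rw [one_mul, ← mul_assoc, ← pow_two, ← h1, h2]
    exact mul_right_cancel₀ h3 h4
  have h5 := (hkey a ha).2
  rw [hτ1, one_mul] at h5
  exact h5

end Cfsg.Agent.Omega.IId.Ns
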