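import Cfsg.Agent.Omega.IId.Ns.NineA
import Cfsg.Agent.Omega.IId.Cv.XNorm
import Cfsg.Agent.Schreier.Tools
import Cfsg.Agent.SignalizersComponents.PerfectGoingUp

/-!
# II.d, `k = 2`, nonsplit: (10), the end

`end_lemma` : `Sh` a Sylow 2-subgroup of `C = C_G(U U')` acting on `A` as `A'`, `T' ∩ C ≤ Sh` (up to a conjugation in `C`)
of index at most 2, `Half L' A'`, `C_T'(A')` nonabelian: contradiction.
-/

set_option autoImplicit false
set_option linter.unusedSectionVars false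
set_option linter.unusedVariables false

namespace Cfsg.Agent.Omega.IId.Ns

open Subgroup Cfsg Cfsg.Agent.ZN Cfsg.Agent.Lib.SL2Mat
open Cfsg.Agent.Omega.HOne.NSMod Cfsg.Agent.Omega.HOne.NSSide Cfsg.Agent.Omega.HOne.NSPair Cfsg.Agent.Omega.HOne.NSDat
open Cfsg.Agent.Omega.NatPair (ap ap_add ap_mul ap_one ap_inj ext2 ap_zero' ap_one' ap_inv_ap ap_ap_inv)
open Cfsg.Agent.MinSimple.VModule (le_normalizer_o2 zc_comm zc_sq zc_le o2_isPGroup o2_le_of_sylow le_o2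
  normalizer_le_normalizer_zc)
open Cfsg.Agent.Omega.BTwo (conj_mem_cj mem_cj card_cj mem_normalizer_of_conj)
open scoped commutatorElement

universe u

variable {G : Type u} [Group G] {F : Type} [Field F]

namespace EndL

/-! ### Tools -/

/-- Sylow's theorem in `N`, for a subgroup `T` with `|N : T|` odd. -/
theorem conj_into [Finite G] {N T X : Subgroup G} (hT : IsPGroup 2 T) (hd : ¬ 2 ∣ T.relIndex N)
    (hX : IsPGroup 2 X) (hXN : X ≤ N) : ∃ c ∈ N, ∀ x ∈ X, c * x * c⁻¹ ∈ T := by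
  have : Fact (Nat.Prime 2) := ⟨Nat.prime_two⟩
  have hX' : IsPGroup 2 (X.subgroupOf N) := hX.comap_subtype
  obtain ⟨S2, hS2⟩ := hX'.exists_le_sylow
  obtain ⟨c, hc⟩ := MulAction.exists_smul_eq N S2
    ((hT.comap_of_injective _ N.subtype_injective).toSylow hd)
  refine ⟨c, c.2, fun x hx => ?_⟩
  have h1 : (⟨x, hXN hx⟩ : N) ∈ (S2 : Subgroup N) := hS2 (Subgroup.mem_subgroupOf.mpr hx)
  have h2 : c * ⟨x, hXN hx⟩ * c⁻¹ ∈ ((c • S2 : Sylow 2 N) : Subgroup N) := by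
    rw [Sylow.coe_subgroup_smul]
    exact Subgroup.smul_mem_pointwise_smul _ (MulAut.conj c) _ h1
  rw [hc] at h2
  exact mem_subgroupOf.1 h2

/-- a relation between group elements and matrices compatible with the operations -/
structure Mult (R : G → Matrix.SpecialLinearGroup (Fin 2) F → Prop) : Prop where
  one : R 1 1
  mul : ∀ x y A B, R x A → R y B → R (x * y) (A * B)
  inv : ∀ x A, R x A → R x⁻¹ A⁻¹

/-- the matrices induced by a subgroup -/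
def Mult.grp {R : G → Matrix.SpecialLinearGroup (Fin 2) F → Prop} (h : Mult R) (W : Subgroup G) :
    Subgroup (Matrix.SpecialLinearGroup (Fin 2) F) where
  carrier := {A | ∃ w ∈ W, R w A}
  one_mem' := ⟨1, one_mem _, h.one⟩
  mul_mem' := by
    rintro A B ⟨x, hx, hA⟩ ⟨y, hy, hB⟩
    exact ⟨_, mul_mem hx hy, h.mul _ _ _ _ hA hB⟩
  inv_mem' := by
    rintro A ⟨x, hx, hA⟩
    exact ⟨_, inv_mem hx, h.inv _ _ hA⟩

theorem eq_top_of_up_lo {K : Subgroup (Matrix.SpecialLinearGroup (Fin 2) F)} (h1 : ∀ b, lo b ∈ K)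
    (h2 : ∀ b, up b ∈ K) (A : Matrix.SpecialLinearGroup (Fin 2) F) : A ∈ K := by
  obtain ⟨a, b, c, d, rfl⟩ := exists_up_lo A
  exact mul_mem (mul_mem (mul_mem (h2 _) (h1 _)) (h2 _)) (h1 _)

/-- a subgroup inducing `SL₂(F)` contains a perfect one -/
theorem exists_perfect [Finite G] {R : G → Matrix.SpecialLinearGroup (Fin 2) F → Prop} (h : Mult R)
    (hω : ∃ ω : F, ω ≠ 0 ∧ ω ^ 2 ≠ 1) : ∀ (n : ℕ) (W : Subgroup G), Nat.card W = n → (∀ A, ∃ w ∈ W, R w A) →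
    ∃ Y : Subgroup G, Y ≤ W ∧ ⁅Y, Y⁆ = Y ∧ ∀ A, ∃ y ∈ Y, R y A := by
  intro n
  induction n using Nat.strong_induction_on with
  | _ n ih =>
    intro W hn hW
    by_cases hp : ⁅W, W⁆ = W
    · exact ⟨W, le_rfl, hp, hW⟩
    have hle : ⁅W, W⁆ ≤ W := commutator_le_self W
    have hlt : Nat.card ↥⁅W, W⁆ < n := by
      rw [← hn]
      by_contra hc
      exact hp (eq_of_le_of_card_ge hle (not_lt.1 hc))
    obtain ⟨ω, h0, h1⟩ := hω
    have hcm : ∀ A B, A * B * A⁻¹ * B⁻¹ ∈ h.grp ⁅W, W⁆ := by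
      intro A B
      obtain ⟨x, hx, hA⟩ := hW A
      obtain ⟨y, hy, hB⟩ := hW B
      exact ⟨x * y * x⁻¹ * y⁻¹, commutator_mem_commutator hx hy,
        h.mul _ _ _ _ (h.mul _ _ _ _ (h.mul _ _ _ _ hA hB) (h.inv _ _ hA)) (h.inv _ _ hB)⟩
    have hω2 : ω ^ 2 - 1 ≠ 0 := sub_ne_zero.2 h1
    have hω3 : ω⁻¹ ^ 2 - 1 ≠ 0 := by
      intro hc
      apply h1
      have h2 := sub_eq_zero.1 hc
      rw [inv_pow, inv_eq_one] at h2
      exact h2
    obtain ⟨Y, hY, h2, h3⟩ := ih _ hlt ⁅W, W⁆ rfl (fun A => by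
      refine eq_top_of_up_lo (K := h.grp ⁅W, W⁆) (fun b => ?_) (fun b => ?_) A
      · have h2 := hcm (dg ω h0) (lo (b / (ω⁻¹ ^ 2 - 1)))
        have e1 : dg ω h0 * lo (b / (ω⁻¹ ^ 2 - 1)) * (dg ω h0)⁻¹ * (lo (b / (ω⁻¹ ^ 2 - 1)))⁻¹ = lo b := by
          have e2 : dg ω h0 * lo (b / (ω⁻¹ ^ 2 - 1)) * (dg ω h0)⁻¹ = lo (ω⁻¹ ^ 2 * (b / (ω⁻¹ ^ 2 - 1))) := by
            rw [mul_inv_eq_iff_eq_mul]
            apply ext_ent <;> simp [ent_mul]
            field_simp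
          rw [e2, lo_inv, lo_mul]
          congr 1
          field_simp
          ring
        rwa [e1] at h2
      · have h2 := hcm (dg ω h0) (up (b / (ω ^ 2 - 1)))
        have e1 : dg ω h0 * up (b / (ω ^ 2 - 1)) * (dg ω h0)⁻¹ * (up (b / (ω ^ 2 - 1)))⁻¹ = up b := by
          rw [dg_up, mul_inv_cancel_right, up_inv, up_mul]
          congr 1
          field_simp
          ring
        rwa [e1] at h2)
    exact ⟨Y, hY.trans hle, h2, h3⟩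

/-- a perfect group acts trivially on `Q / J`, `|Q : J| ≤ 4` -/
theorem comm_le_of_four [Finite G] {Q J Y : Subgroup G} (hY : ⁅Y, Y⁆ = Y)
    (hYQ : ∀ y ∈ Y, ∀ q ∈ Q, y * q * y⁻¹ ∈ Q) (hYJ : ∀ y ∈ Y, ∀ q ∈ J, y * q * y⁻¹ ∈ J)
    (h4 : J.relIndex Q ≤ 4) : ∀ y ∈ Y, ∀ q ∈ Q, q⁻¹ * (y * q * y⁻¹) ∈ J := by
  let act : MulAction Y (Q ⧸ J.subgroupOf Q) :=
    { smul := fun y => Quotient.map' (fun q : Q => (⟨y * q * (y : G)⁻¹, hYQ y y.2 q q.2⟩ : Q)) (by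
        intro a b hab
        rw [QuotientGroup.leftRel_apply, mem_subgroupOf] at hab ⊢
        have h1 := hYJ y y.2 _ hab
        have e1 : ((⟨y * a * (y : G)⁻¹, hYQ y y.2 a a.2⟩ : Q)⁻¹ * ⟨y * b * (y : G)⁻¹, hYQ y y.2 b b.2⟩ : Q) =
            (y : G) * ((a⁻¹ * b : Q) : G) * (y : G)⁻¹ := by
          push_cast
          group
        rw [e1]; exact h1)
      one_smul := by
        intro x
        induction x using Quotient.inductionOn' with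
        | _ q =>
          change Quotient.mk'' _ = Quotient.mk'' _
          congr 1
          apply Subtype.ext
          change ((1 : Y) : G) * q * ((1 : Y) : G)⁻¹ = q
          rw [Subgroup.coe_one, one_mul, inv_one, mul_one]
      mul_smul := by
        intro y z x
        induction x using Quotient.inductionOn' with
        | _ q =>
          change Quotient.mk'' _ = Quotient.mk'' _
          congr 1
          apply Subtype.ext
          change ((y * z : Y) : G) * q * ((y * z : Y) : G)⁻¹ = y * (z * q * (z : G)⁻¹) * (y : G)⁻¹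
          rw [Subgroup.coe_mul]
          group }
  intro y hy q hq
  have h1 := Schreier.Tools.perm_eq_one hY (α := Q ⧸ J.subgroupOf Q) h4 (MulAction.toPermHom Y _) ⟨y, hy⟩
    (QuotientGroup.mk ⟨q, hq⟩)
  have h2 : (QuotientGroup.mk (⟨y * q * y⁻¹, hYQ y hy q hq⟩ : Q) : Q ⧸ J.subgroupOf Q) = QuotientGroup.mk ⟨q, hq⟩ := h1
  have h3 := QuotientGroup.eq.1 h2.symm
  rw [mem_subgroupOf] at h3
  exact h3

/-- a perfect group acts trivially on `Q / A` if it does on `J / A`, `|Q : J| ≤ 4` -/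
theorem comm_le_mod [Finite G] {Q J Y A : Subgroup G} (hY : ⁅Y, Y⁆ = Y) (hQA : Q ≤ normalizer (A : Set G))
    (hYA : Y ≤ normalizer (A : Set G)) (hAJ : A ≤ J) (hYQ : ∀ y ∈ Y, ∀ q ∈ Q, y * q * y⁻¹ ∈ Q)
    (hJ : ∀ y ∈ Y, ∀ q ∈ J, y * q * y⁻¹ * q⁻¹ ∈ A) (hQJ : ∀ q ∈ Q, ∀ j ∈ J, q * j * q⁻¹ ∈ J)
    (h4 : J.relIndex Q ≤ 4) : ∀ y ∈ Y, ∀ q ∈ Q, y * q * y⁻¹ * q⁻¹ ∈ A := by
  have hYJ : ∀ y ∈ Y, ∀ q ∈ J, y * q * y⁻¹ ∈ J := by
    intro y hy q hq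
    have h1 := mul_mem (hAJ (hJ y hy q hq)) hq
    rwa [inv_mul_cancel_right] at h1
  have h1 := comm_le_of_four hY hYQ hYJ h4
  have h2 : ⁅Y, Q⁆ ≤ J := by
    rw [commutator_le]
    intro y hy q hq
    have h3 := hQJ q hq _ (h1 y hy q hq)
    have e1 : q * (q⁻¹ * (y * q * y⁻¹)) * q⁻¹ = ⁅y, q⁆ := by rw [commutatorElement_def]; group
    rwa [e1] at h3
  have h3 : ⁅J, Y⁆ ≤ A := by
    rw [commutator_comm, commutator_le]
    intro y hy j hj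
    exact hJ y hy j hj
  have h4 : ⁅⁅Y, Q⁆, Y⁆ ≤ A := (commutator_mono h2 le_rfl).trans h3
  have h5 : ⁅⁅Y, Y⁆, Q⁆ ≤ A := by
    refine SignalizersComponents.PerfectGoingUp.three_subgroups_mod hYA hYA hQA h4 ?_
    rwa [commutator_comm Q Y]
  rw [hY] at h5
  intro y hy q hq
  exact h5 (commutator_mem_commutator hy hq)

/-! ### The action of `⟨cj c₀ A', ...⟩` on `A` -/

section like

variable {T T' L L' A A' U U' : Subgroup G} {π π' : G → Fin 2 → F} {e f g e' f' g' : F → G} {s : G → F}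

/-- `w` acts on `A` as an element of `L` inducing `M` -/
def Like (L A U : Subgroup G) (π : G → Fin 2 → F) (w : G) (M : Matrix.SpecialLinearGroup (Fin 2) F) : Prop :=
  ∃ x, Is L A U π x M ∧ ∀ v ∈ A, w * v * w⁻¹ = x * v * x⁻¹

theorem like_mult (r : Rig L A U π) : Mult (Like L A U π) where
  one := ⟨1, r.is_one, fun _ _ => rfl⟩
  mul := by
    rintro w w' M M' ⟨x, hx, h⟩ ⟨x', hx', h'⟩
    refine ⟨x * x', r.is_mul hx hx', fun v hv => ?_⟩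
    have e1 : w * w' * v * (w * w')⁻¹ = w * (w' * v * w'⁻¹) * w⁻¹ := by group
    rw [e1, h' v hv, h _ (r.Vn x' hx'.mem v hv)]
    group
  inv := by
    rintro w M ⟨x, hx, h⟩
    refine ⟨x⁻¹, r.is_inv hx, fun v hv => ?_⟩
    have h1 := h _ (r.Vn x⁻¹ (inv_mem hx.mem) v hv)
    have e1 : x * (x⁻¹ * v * x⁻¹⁻¹) * x⁻¹ = v := by group
    rw [e1] at h1
    calc w⁻¹ * v * w⁻¹⁻¹ = w⁻¹ * (w * (x⁻¹ * v * x⁻¹⁻¹) * w⁻¹) * w := by rw [h1]; group
      _ = _ := by group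

/-- elements with the same matrix act in the same way -/
theorem Like.eq (r : Rig L A U π) {w w' : G} {M : Matrix.SpecialLinearGroup (Fin 2) F} (h : Like L A U π w M)
    (h' : Like L A U π w' M) {v : G} (hv : v ∈ A) : w * v * w⁻¹ = w' * v * w'⁻¹ := by
  obtain ⟨x, hx, h⟩ := h
  obtain ⟨x', hx', h'⟩ := h'
  rw [h v hv, h' v hv, r.is_eq hx hx' v hv]

theorem Like.conj (r : Rig L A U π) {w : G} {M : Matrix.SpecialLinearGroup (Fin 2) F} (h : Like L A U π w M)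
    {v : G} (hv : v ∈ A) : w * v * w⁻¹ ∈ A := by
  obtain ⟨x, hx, h⟩ := h
  rw [h v hv]
  exact r.Vn x hx.mem v hv

variable (b : Base T T' L L' A A' U U' π π' e f g e' f' g')

theorem cc_symm (U U' : Subgroup G) : CC U' U = CC U U' := inf_comm _ _

include b

/-- `A' ≤ O₂(C_G(U U'))` -/
theorem A'O [Finite G] : A' ≤ o2 (CC U U') := by
  have h1 : CC U U' ≤ normalizer (U' : Set G) := inf_le_right.trans (centralizer_le_normalizer _)
  have h2 : CC U U' ≤ normalizer ((o2 (normalizer (U' : Set G)) ⊓ CC U U' : Subgroup G) : Set G) := by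
    intro x hx
    apply mem_normalizer_of_conj
    intro y hy
    rw [mem_inf] at hy ⊢
    exact ⟨(mem_normalizer_iff.1 (le_normalizer_o2 _ (h1 hx)) y).1 hy.1,
      mul_mem (mul_mem hx hy.2) (inv_mem hx)⟩
  exact (le_inf (b.AZ'.trans (zc_le _)) b.A'C).trans
    (le_o2 inf_le_right ((o2_isPGroup _).to_le inf_le_left) h2)

theorem A'T' [Finite G] : A' ≤ T' := (A'O b).trans b.OT'

/-- a conjugate by `c ∈ C` of `n ∈ A'` acts on `A` as `n` -/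
theorem act_cj (c : Core T L A A' U U' π e g s) {c₀ : G} (hc₀ : c₀ ∈ CC U U') {n : G} (hn : n ∈ A') {t : F}
    (hI : Is L A U π n (lo (t ^ 2))) {v : G} (hv : v ∈ A) :
    (c₀ * n * c₀⁻¹) * v * (c₀ * n * c₀⁻¹)⁻¹ = e (t ^ 2 * π v 0) * g (t * π v 0) * v := by
  have hcU : c₀ ∈ centralizer (U : Set G) := hc₀.1
  have h1 : c₀⁻¹ * v * c₀⁻¹⁻¹ ∈ UG A U := c.MU c₀⁻¹ (inv_mem hcU) v (c.AU hv)
  have h2 := c.s_act t n hn hI _ h1
  have h3 : s (c₀⁻¹ * v * c₀⁻¹⁻¹) = π v 0 := c.s_conj c₀⁻¹ (inv_mem hc₀) v hv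
  rw [h3] at h2
  have h4 : c₀ * e (t ^ 2 * π v 0) * c₀⁻¹ = e (t ^ 2 * π v 0) := fix_of_comm (cc_r hc₀ (b.eU' _))
  have h5 : c₀ * g (t * π v 0) * c₀⁻¹ = g (t * π v 0) := fix_of_comm (cc_l hc₀ (b.gU _))
  calc (c₀ * n * c₀⁻¹) * v * (c₀ * n * c₀⁻¹)⁻¹ = c₀ * (n * (c₀⁻¹ * v * c₀⁻¹⁻¹) * n⁻¹) * c₀⁻¹ := by group
    _ = (c₀ * e (t ^ 2 * π v 0) * c₀⁻¹) * (c₀ * g (t * π v 0) * c₀⁻¹) * v := by rw [h2]; group
    _ = _ := by rw [h4, h5]

theorem like_cj (c : Core T L A A' U U' π e g s) {c₀ : G} (hc₀ : c₀ ∈ CC U U') {n : G} (hn : n ∈ A') {t : F}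
    (hI : Is L A U π n (lo (t ^ 2))) : Like L A U π (c₀ * n * c₀⁻¹) (lo (t ^ 2)) :=
  ⟨n, hI, fun v hv => by rw [act_cj b c hc₀ hn hI hv, b.act_n hI hv]⟩

/-- `[A', T' ∩ C] ≤ U U'` -/
theorem comm_TC [Finite F] {n x : G} (hn : n ∈ A') (hx : x ∈ T') (hC : x ∈ CC U U') :
    ∃ u ∈ U, ∃ u' ∈ U', n * x * n⁻¹ * x⁻¹ = u * u' := by
  obtain ⟨t, ht⟩ := b.symm.tau hx (by rw [cc_symm]; exact hC)
  have h1 := ht n hn
  refine ⟨(e' (t ^ 2 * π' n 0))⁻¹, inv_mem (b.symm.eU' _), (g' (t * π' n 0))⁻¹, inv_mem (b.symm.gU _), ?_⟩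
  have h2 : n * x * n⁻¹ * x⁻¹ = n * (x * n * x⁻¹)⁻¹ := by group
  rw [h2, h1]
  have h3 := b.A'c (b.p.s'.r.DV (b.symm.gU (t * π' n 0))) (b.symm.eA (t ^ 2 * π' n 0))
  calc n * (e' (t ^ 2 * π' n 0) * g' (t * π' n 0) * n)⁻¹ = (e' (t ^ 2 * π' n 0) * g' (t * π' n 0))⁻¹ := by group
    _ = (g' (t * π' n 0) * e' (t ^ 2 * π' n 0))⁻¹ := by rw [h3]
    _ = _ := by group

end like

end EndL

/-- **(10)** -/
theorem end_lemma [Finite G] [Finite F] {T T' L L' A A' U U' : Subgroup G} {π π' : G → Fin 2 → F}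
    {e f g e' f' g' : F → G} {s : G → F} (hG : IsCharacteristicTwoType G) (h4 : 4 ≤ Nat.card F)
    (b : Base T T' L L' A A' U U' π π' e f g e' f' g') (c : Core T L A A' U U' π e g s) {Sh : Subgroup G}
    (hp : IsPGroup 2 Sh) (hC : Sh ≤ CC U U') (hsy : ¬ 2 ∣ Sh.relIndex (CC U U'))
    (hact : ∀ x ∈ Sh, ∃ t : F, ∀ v ∈ A, x * v * x⁻¹ = e (t ^ 2 * π v 0) * g (t * π v 0) * v)
    {c₀ : G} (hc₀ : c₀ ∈ CC U U') (hle : Omega.BTwo.cj c₀ (T' ⊓ CC U U') ≤ Sh)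
    (h2 : Nat.card Sh ≤ 2 * Nat.card ↥(T' ⊓ CC U U')) (hhalf : Half L' A')
    (hna : ∃ x ∈ T' ⊓ centralizer (A' : Set G), ∃ y ∈ T' ⊓ centralizer (A' : Set G), x * y ≠ y * x) : False := by
  have r := b.p.s.r
  have hAA : ∀ v ∈ A, ∀ w ∈ A, v * w = w * v := r.Vc
  -- `A` and `Sh`
  have hAO : A ≤ o2 (CC U U') := c.AU.trans c.UO
  have hOS : o2 (CC U U') ≤ Sh := o2_le_of_sylow hp hsy
  have hcO : ∀ z ∈ CC U U', ∀ x ∈ o2 (CC U U'), z * x * z⁻¹ ∈ o2 (CC U U') := fun z hz x hx =>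
    (mem_normalizer_iff.1 (le_normalizer_o2 _ hz) x).1 hx
  have hShA : ∀ x ∈ Sh, ∀ v ∈ A, x * v * x⁻¹ ∈ A := by
    intro x hx v hv
    obtain ⟨t, ht⟩ := hact x hx
    rw [ht v hv]
    exact mul_mem (mul_mem (b.eA _) (b.gA _)) hv
  have hShN : Sh ≤ normalizer (A : Set G) := fun x hx => mem_normalizer_of_conj (hShA x hx)
  have hNC : normalizer (A : Set G) ≤ normalizer (centralizer (A : Set G) : Set G) := by
    intro x hx
    apply mem_normalizer_of_conj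
    intro y hy
    rw [mem_centralizer_iff] at hy ⊢
    intro v hv
    have h1 : x⁻¹ * v * x ∈ A := by
      have := (mem_normalizer_iff.1 (inv_mem hx) v).1 hv
      rwa [inv_inv] at this
    have h3 := hy _ h1
    calc v * (x * y * x⁻¹) = x * (x⁻¹ * v * x * y) * x⁻¹ := by group
      _ = x * (y * (x⁻¹ * v * x)) * x⁻¹ := by rw [h3]
      _ = _ := by group
  have hCC : centralizer (A : Set G) ≤ CC U U' := fun x hx =>
    ⟨mem_centralizer_iff.2 fun u hu => mem_centralizer_iff.1 hx u (b.UA hu),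
      mem_centralizer_iff.2 fun u hu => mem_centralizer_iff.1 hx u (b.U'A hu)⟩
  -- `Q` is a Sylow 2-subgroup of `C_G(A)`
  set Q : Subgroup G := Sh ⊓ centralizer (A : Set G) with hQ
  have hQ2 : IsPGroup 2 Q := hp.to_le inf_le_left
  have hQA : ∀ q ∈ Q, ∀ a ∈ A, q * a = a * q := fun q hq a ha => (mem_centralizer_iff.1 hq.2 a ha).symm
  have hQodd : ¬ 2 ∣ Q.relIndex (centralizer (A : Set G)) := by
    intro hd
    apply hsy
    rw [hQ, inf_relIndex_right, ← Cv.XNorm.relIndex_sup_eq (hShN.trans hNC)] at hd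
    have h1 := relIndex_mul_relIndex Sh (centralizer (A : Set G) ⊔ Sh) (CC U U') le_sup_right (sup_le hCC hC)
    rw [← h1]
    exact hd.mul_right _
  have hShQ : ∀ x ∈ Sh, ∀ q ∈ Q, x * q * x⁻¹ ∈ Q := fun x hx q hq =>
    mem_inf.2 ⟨mul_mem (mul_mem hx (mem_inf.1 hq).1) (inv_mem hx),
      (mem_normalizer_iff.1 (hNC (hShN hx)) q).1 (mem_inf.1 hq).2⟩
  have hAQ : A ≤ Q := fun a ha => mem_inf.2 ⟨hOS (hAO ha), mem_centralizer_iff.2 fun v hv => hAA v hv a ha⟩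
  -- the Weyl element `l`, normalising `Q`
  obtain ⟨n, hn⟩ := b.exists_wm
  have hnA : n ∈ normalizer (A : Set G) := mem_normalizer_of_conj fun v hv => r.Vn n hn.mem v hv
  obtain ⟨z, hz, hzQ⟩ := EndL.conj_into hQ2 hQodd (X := Omega.BTwo.cj n Q) (hQ2.map _) (by
      intro x hx
      have h1 := (mem_normalizer_iff.1 (hNC hnA) _).1 (mem_inf.1 (mem_cj.1 hx)).2
      have e1 : n * (n⁻¹ * x * n) * n⁻¹ = x := by group
      rwa [e1] at h1)
  obtain ⟨l, hl⟩ : ∃ l, l = z * n := ⟨_, rfl⟩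
  have hlQ : l ∈ normalizer (Q : Set G) := mem_normalizer_of_conj fun q hq => by
    have h1 := hzQ _ (conj_mem_cj (g := n) hq)
    have e1 : z * (n * q * n⁻¹) * z⁻¹ = l * q * l⁻¹ := by rw [hl]; group
    rwa [e1] at h1
  have hlL : EndL.Like L A U π l (wm 1 one_ne_zero) := by
    refine ⟨n, hn, fun v hv => ?_⟩
    have h1 : z * (n * v * n⁻¹) * z⁻¹ = n * v * n⁻¹ :=
      fix_of_comm (mem_centralizer_iff.1 hz _ (r.Vn n hn.mem v hv)).symm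
    calc l * v * l⁻¹ = z * (n * v * n⁻¹) * z⁻¹ := by rw [hl]; group
      _ = _ := h1
  have hlA : l ∈ normalizer (A : Set G) := mem_normalizer_of_conj fun v hv => hlL.conj r hv
  have inv_norm : ∀ {X : Subgroup G} {x : G}, x ∈ normalizer (X : Set G) → ∀ {y : G}, y ∈ X → x⁻¹ * y * x ∈ X := by
    intro X x hx y hy
    have := (mem_normalizer_iff.1 (inv_mem hx) y).1 hy
    rwa [inv_inv] at this
  have norm_c : ∀ {X : Subgroup G} {x : G}, x ∈ normalizer (X : Set G) → ∀ {y : G}, y ∈ X → x * y * x⁻¹ ∈ X := by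
    intro X x hx y hy
    exact (mem_normalizer_iff.1 hx y).1 hy
  -- `J`
  set J₁ : Subgroup G := Q ⊓ Omega.BTwo.cj c₀ (T' ⊓ CC U U') with hJ₁
  set J₂ : Subgroup G := Omega.BTwo.cj l J₁ with hJ₂
  have hOC : o2 (CC U U') ≤ CC U U' := Cfsg.Agent.MinSimple.VModule.o2_le _
  have hAJ₁ : A ≤ J₁ := by
    intro a ha
    refine mem_inf.2 ⟨hAQ ha, mem_cj.2 ?_⟩
    have h1 := hcO _ (inv_mem hc₀) a (hAO ha)
    rw [inv_inv] at h1
    exact mem_inf.2 ⟨b.OT' h1, hOC h1⟩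
  have hAJ₂ : A ≤ J₂ := fun a ha => mem_cj.2 (hAJ₁ (inv_norm hlA ha))
  have hJ₁Q : J₁ ≤ Q := inf_le_left
  have hJ₂Q : J₂ ≤ Q := by
    intro x hx
    have h1 := norm_c hlQ (hJ₁Q (mem_cj.1 hx))
    have e1 : l * (l⁻¹ * x * l) * l⁻¹ = x := by group
    rwa [e1] at h1
  -- index at most 2
  have hi0 : (Omega.BTwo.cj c₀ (T' ⊓ CC U U')).relIndex Sh ≤ 2 := by
    have h1 : Nat.card ↥(Omega.BTwo.cj c₀ (T' ⊓ CC U U')) * (Omega.BTwo.cj c₀ (T' ⊓ CC U U')).relIndex Sh =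
        Nat.card Sh := by
      rw [Subgroup.relIndex, ← Nat.card_congr (Subgroup.subgroupOfEquivOfLe hle).toEquiv]
      exact Subgroup.card_mul_index _
    rw [card_cj] at h1
    have h3 : 0 < Nat.card ↥(T' ⊓ CC U U') := Nat.card_pos
    rw [← h1, mul_comm 2] at h2
    exact Nat.le_of_mul_le_mul_left h2 h3
  have hi1 : J₁.relIndex Q ≤ 2 := by
    rw [hJ₁, inf_relIndex_left]
    refine (relIndex_le_of_le_right inf_le_left ?_).trans hi0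
    unfold relIndex
    exact index_ne_zero_of_finite
  have hi2 : J₂.relIndex Q ≤ 2 := by
    have h1 : Omega.BTwo.cj l Q = Q := Omega.BTwo.cj_eq_self_iff.2 hlQ
    have h3 : (Omega.BTwo.cj l J₁).relIndex (Omega.BTwo.cj l Q) = J₁.relIndex Q := by
      unfold Omega.BTwo.cj
      exact relIndex_map_map_of_injective _ _ (MulAut.conj l).injective
    rw [h1] at h3
    rw [hJ₂, h3]
    exact hi1
  have hn1 : ∀ q ∈ Q, ∀ j ∈ J₁, q * j * q⁻¹ ∈ J₁ := by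
    have h1 : (J₁.subgroupOf Q).Normal := by
      have h3 : (J₁.subgroupOf Q).index ≤ 2 := hi1
      have h5 : (J₁.subgroupOf Q).index ≠ 0 := index_ne_zero_of_finite
      have h6 : (J₁.subgroupOf Q).index = 1 ∨ (J₁.subgroupOf Q).index = 2 := by omega
      rcases h6 with h6 | h6
      · rw [index_eq_one] at h6
        rw [h6]; infer_instance
      · exact normal_of_index_eq_two h6
    intro q hq j hj
    have h3 := h1.conj_mem ⟨j, hJ₁Q hj⟩ (mem_subgroupOf.2 hj) ⟨q, hq⟩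
    exact mem_subgroupOf.1 h3
  have hn2 : ∀ q ∈ Q, ∀ j ∈ J₂, q * j * q⁻¹ ∈ J₂ := by
    intro q hq j hj
    rw [hJ₂, mem_cj] at hj ⊢
    have h1 := hn1 _ (inv_norm hlQ hq) _ hj
    have e1 : l⁻¹ * q * l * (l⁻¹ * j * l) * (l⁻¹ * q * l)⁻¹ = l⁻¹ * (q * j * q⁻¹) * l := by group
    rwa [e1] at h1
  set J : Subgroup G := J₁ ⊓ J₂ with hJ
  have hAJ : A ≤ J := le_inf hAJ₁ hAJ₂
  have hiJ : J.relIndex Q ≤ 4 :=
    relIndex_inf_le.trans ((Nat.mul_le_mul hi1 hi2).trans (by norm_num))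
  have hnJ : ∀ q ∈ Q, ∀ j ∈ J, q * j * q⁻¹ ∈ J := fun q hq j hj =>
    mem_inf.2 ⟨hn1 q hq j (mem_inf.1 hj).1, hn2 q hq j (mem_inf.1 hj).2⟩
  -- the group `W`
  have hUA : U ≤ A := b.UA
  have hU'A : U' ≤ A := b.U'A
  have hA'C : A' ≤ T' ⊓ CC U U' := le_inf (EndL.A'T' b) b.A'C
  have hcSh : ∀ x ∈ A', c₀ * x * c₀⁻¹ ∈ Sh := fun x hx => hle (conj_mem_cj (hA'C hx))
  have hcJ : ∀ x ∈ A', ∀ j ∈ J₁, (c₀ * x * c₀⁻¹) * j * (c₀ * x * c₀⁻¹)⁻¹ * j⁻¹ ∈ A := by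
    intro x hx j hj
    have h1 := mem_inf.1 (mem_cj.1 (mem_inf.1 hj).2)
    obtain ⟨u, hu, u', hu', h3⟩ := EndL.comm_TC b hx h1.1 h1.2
    have e1 : (c₀ * x * c₀⁻¹) * j * (c₀ * x * c₀⁻¹)⁻¹ * j⁻¹ =
        c₀ * (x * (c₀⁻¹ * j * c₀) * x⁻¹ * (c₀⁻¹ * j * c₀)⁻¹) * c₀⁻¹ := by group
    have h5 : c₀ * u * c₀⁻¹ = u := fix_of_comm (cc_l hc₀ hu)
    have h6 : c₀ * u' * c₀⁻¹ = u' := fix_of_comm (cc_r hc₀ hu')
    have e2 : c₀ * (u * u') * c₀⁻¹ = (c₀ * u * c₀⁻¹) * (c₀ * u' * c₀⁻¹) := by group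
    rw [e1, h3, e2, h5, h6]
    exact mul_mem (hUA hu) (hU'A hu')
  -- the subgroup of all good elements
  let Z₁ : Subgroup G :=
    { carrier := {w | w ∈ normalizer (Q : Set G) ∧ w ∈ normalizer (A : Set G) ∧ ∀ j ∈ J, w * j * w⁻¹ * j⁻¹ ∈ A}
      one_mem' := ⟨one_mem _, one_mem _, fun j _ => by
        have e1 : (1 : G) * j * 1⁻¹ * j⁻¹ = 1 := by group
        rw [e1]; exact one_mem _⟩
      mul_mem' := by
        rintro x y ⟨hx1, hx2, hx3⟩ ⟨hy1, hy2, hy3⟩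
        refine ⟨mul_mem hx1 hy1, mul_mem hx2 hy2, fun j hj => ?_⟩
        have e1 : x * y * j * (x * y)⁻¹ * j⁻¹ = (x * (y * j * y⁻¹ * j⁻¹) * x⁻¹) * (x * j * x⁻¹ * j⁻¹) := by group
        rw [e1]
        exact mul_mem (norm_c hx2 (hy3 j hj)) (hx3 j hj)
      inv_mem' := by
        rintro x ⟨hx1, hx2, hx3⟩
        refine ⟨inv_mem hx1, inv_mem hx2, fun j hj => ?_⟩
        have e1 : x⁻¹ * j * x⁻¹⁻¹ * j⁻¹ = x⁻¹ * (x * j * x⁻¹ * j⁻¹)⁻¹ * x := by group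
        rw [e1]
        exact inv_norm hx2 (inv_mem (hx3 j hj)) }
  obtain ⟨W, hW⟩ : ∃ W : Subgroup G, W = Omega.BTwo.cj c₀ A' ⊔ Omega.BTwo.cj l (Omega.BTwo.cj c₀ A') := ⟨_, rfl⟩
  have hWZ : W ≤ Z₁ := by
    rw [hW]
    have h1 : ∀ x ∈ A', c₀ * x * c₀⁻¹ ∈ normalizer (Q : Set G) ∧ c₀ * x * c₀⁻¹ ∈ normalizer (A : Set G) ∧
        ∀ j ∈ J₁, (c₀ * x * c₀⁻¹) * j * (c₀ * x * c₀⁻¹)⁻¹ * j⁻¹ ∈ A := fun x hx =>
      ⟨mem_normalizer_of_conj (hShQ _ (hcSh x hx)), hShN (hcSh x hx), hcJ x hx⟩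
    refine sup_le ?_ ?_
    · rintro _ ⟨x, hx, rfl⟩
      obtain ⟨h3, h5, h6⟩ := h1 x hx
      exact ⟨h3, h5, fun j hj => h6 j (mem_inf.1 hj).1⟩
    · rintro _ ⟨_, ⟨x, hx, rfl⟩, rfl⟩
      obtain ⟨h3, h5, h6⟩ := h1 x hx
      change l * (c₀ * x * c₀⁻¹) * l⁻¹ ∈ Z₁
      refine ⟨mul_mem (mul_mem hlQ h3) (inv_mem hlQ), mul_mem (mul_mem hlA h5) (inv_mem hlA), fun j hj => ?_⟩
      have h7 := norm_c hlA (h6 _ (mem_cj.1 (mem_inf.1 hj).2))
      have e1 : l * ((c₀ * x * c₀⁻¹) * (l⁻¹ * j * l) * (c₀ * x * c₀⁻¹)⁻¹ * (l⁻¹ * j * l)⁻¹) * l⁻¹ =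
        l * (c₀ * x * c₀⁻¹) * l⁻¹ * j * (l * (c₀ * x * c₀⁻¹) * l⁻¹)⁻¹ * j⁻¹ := by group
      rwa [e1] at h7
  -- `W` induces `SL₂(F)`
  have two := r.two
  have hm := EndL.like_mult r
  have hlo : ∀ β, ∃ w ∈ Omega.BTwo.cj c₀ A', EndL.Like L A U π w (lo β) := by
    intro β
    obtain ⟨t, rfl⟩ := b.p.sq β
    obtain ⟨x, hx, hxI⟩ := b.exists_n t
    exact ⟨_, conj_mem_cj hx, EndL.like_cj b c hc₀ hx hxI⟩
  have hWall : ∀ M, ∃ w ∈ W, EndL.Like L A U π w M := by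
    intro M
    refine EndL.eq_top_of_up_lo (K := hm.grp W) (fun β => ?_) (fun β => ?_) M
    · obtain ⟨w, hw, h1⟩ := hlo β
      exact ⟨w, by rw [hW]; exact mem_sup_left hw, h1⟩
    · obtain ⟨w, hw, h1⟩ := hlo (-β)
      refine ⟨l * w * l⁻¹, by rw [hW]; exact mem_sup_right (conj_mem_cj hw), ?_⟩
      have h3 := hm.mul _ _ _ _ (hm.mul _ _ _ _ hlL h1) (hm.inv _ _ hlL)
      have h5 : wm (1 : F) one_ne_zero * lo (-β) * (wm 1 one_ne_zero)⁻¹ = up β := by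
        rw [wm_lo, one_pow, mul_one, neg_neg, mul_inv_cancel_right]
      rwa [h5] at h3
  have hω : ∃ ω : F, ω ≠ 0 ∧ ω ^ 2 ≠ 1 := by
    obtain ⟨ω, h0, h1⟩ := b.p.ω
    refine ⟨ω, h0, fun h3 => h1 ?_⟩
    have h5 : (ω - 1) ^ 2 = 0 := by linear_combination h3 + (1 - ω) * two
    exact sub_eq_zero.1 (pow_eq_zero_iff two_ne_zero |>.1 h5)
  obtain ⟨Y, hYW, hYp, hYall⟩ := EndL.exists_perfect hm hω _ W rfl hWall
  -- `Y` is trivial on `Q / A`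
  have hYQA : ∀ y ∈ Y, ∀ q ∈ Q, y * q * y⁻¹ * q⁻¹ ∈ A := by
    have hQN : Q ≤ normalizer (A : Set G) := inf_le_left.trans hShN
    refine EndL.comm_le_mod hYp hQN (fun y hy => (hWZ (hYW hy)).2.1) hAJ
      (fun y hy q hq => norm_c (hWZ (hYW hy)).1 hq) (fun y hy => (hWZ (hYW hy)).2.2) hnJ hiJ
  -- `K`
  obtain ⟨K, hK⟩ : ∃ K : Subgroup G, K = closure {x | ∃ d ∈ T' ⊓ centralizer (A' : Set G), x = d * d} := ⟨_, rfl⟩
  have hKT : K ≤ T' := by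
    rw [hK, closure_le]
    rintro _ ⟨d, hd, rfl⟩
    exact mul_mem (mem_inf.1 hd).1 (mem_inf.1 hd).1
  have hK2 : IsPGroup 2 K := b.T2'.to_le hKT
  have hK1 : K ≠ ⊥ := by
    intro h0
    obtain ⟨x, hx, y, hy, hxy⟩ := hna
    apply hxy
    have hsq : ∀ d ∈ T' ⊓ centralizer (A' : Set G), d * d = 1 := by
      intro d hd
      rw [← mem_bot, ← h0, hK]
      exact subset_closure ⟨d, hd, rfl⟩
    have h1 := hsq x hx
    have h3 := hsq y hy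
    have h5 := hsq _ (mul_mem hx hy)
    calc x * y = x * (x * y * (x * y)) * y := by rw [h5]; group
      _ = (x * x) * y * x * (y * y) := by group
      _ = y * x := by rw [h1, h3]; group
  have hLK : L' ≤ normalizer (K : Set G) := by
    intro x hx
    apply mem_normalizer_of_conj
    intro y hy
    rw [hK] at hy
    induction hy using closure_induction with
    | mem y hy =>
      obtain ⟨d, hd, rfl⟩ := hy
      have h1 := norm_c (b.QL' hx) hd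
      have e1 : x * (d * d) * x⁻¹ = (x * d * x⁻¹) * (x * d * x⁻¹) := by group
      rw [e1, hK]
      exact subset_closure ⟨_, h1, rfl⟩
    | one => rw [mul_one, mul_inv_cancel]; exact one_mem _
    | mul y z _ _ h1 h3 =>
      have e1 : x * (y * z) * x⁻¹ = (x * y * x⁻¹) * (x * z * x⁻¹) := by group
      rw [e1]; exact mul_mem h1 h3
    | inv y _ h1 =>
      have e1 : x * y⁻¹ * x⁻¹ = (x * y * x⁻¹)⁻¹ := by group
      rw [e1]; exact inv_mem h1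
  have hAz := hhalf _ hLK (Cfsg.Agent.MinSimple.Basic.char2_normalizer hG hK2 hK1)
  -- `Y` centralises `K ^ c₀`
  have hYK : ∀ y ∈ Y, ∀ k ∈ K, y * (c₀ * k * c₀⁻¹) = (c₀ * k * c₀⁻¹) * y := by
    intro y hy k hk
    rw [hK] at hk
    induction hk using closure_induction with
    | mem k hk =>
      obtain ⟨d, hd, rfl⟩ := hk
      have hdC : d ∈ CC U U' := by
        rw [← EndL.cc_symm]; exact b.symm.QC hd
      have hdSh : c₀ * d * c₀⁻¹ ∈ Sh := hle (conj_mem_cj (mem_inf.2 ⟨(mem_inf.1 hd).1, hdC⟩))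
      obtain ⟨t, ht⟩ := hact _ hdSh
      obtain ⟨x, hx, hxI⟩ := b.exists_n t
      have hxc := hcSh x hx
      set q := (c₀ * x * c₀⁻¹)⁻¹ * (c₀ * d * c₀⁻¹) with hq
      have hqQ : q ∈ Q := by
        refine mem_inf.2 ⟨mul_mem (inv_mem hxc) hdSh, mem_centralizer_iff.2 fun v hv => ?_⟩
        have h1 := ht v hv
        have h3 := EndL.act_cj b c hc₀ hx hxI hv
        have h5 : q * v * q⁻¹ = v := by
          calc q * v * q⁻¹ = (c₀ * x * c₀⁻¹)⁻¹ * ((c₀ * d * c₀⁻¹) * v * (c₀ * d * c₀⁻¹)⁻¹) * (c₀ * x * c₀⁻¹) := by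
                rw [hq]; group
            _ = (c₀ * x * c₀⁻¹)⁻¹ * ((c₀ * x * c₀⁻¹) * v * (c₀ * x * c₀⁻¹)⁻¹) * (c₀ * x * c₀⁻¹) := by rw [h1, h3]
            _ = v := by group
        exact (comm_of_fix h5).symm
      have hxd : x * d = d * x := mem_centralizer_iff.1 (mem_inf.1 hd).2 x hx
      have hxx : x * x = 1 := b.p.s'.r.Vs x hx
      have hqq : c₀ * (d * d) * c₀⁻¹ = q * q := by
        have e1 : q * q = c₀ * (x⁻¹ * d * (x⁻¹ * d)) * c₀⁻¹ := by rw [hq]; group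
        rw [e1]
        have h1 : x⁻¹ = x := b.p.s'.r.inv hx
        rw [h1]
        calc c₀ * (d * d) * c₀⁻¹ = c₀ * ((x * x) * d * d) * c₀⁻¹ := by rw [hxx, one_mul]
          _ = c₀ * (x * (x * d) * d) * c₀⁻¹ := by group
          _ = c₀ * (x * (d * x) * d) * c₀⁻¹ := by rw [hxd]
          _ = _ := by group
      rw [hqq]
      have h1 := hYQA y hy q hqQ
      set a := y * q * y⁻¹ * q⁻¹ with ha
      have h3 : y * q * y⁻¹ = a * q := by rw [ha]; group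
      have h5 := hQA q hqQ a h1
      have h6 : a * a = 1 := r.Vs a h1
      have h7 : y * (q * q) * y⁻¹ = q * q := by
        calc y * (q * q) * y⁻¹ = (y * q * y⁻¹) * (y * q * y⁻¹) := by group
          _ = a * (q * a) * q := by rw [h3]; group
          _ = (a * a) * q * q := by rw [h5]; group
          _ = q * q := by rw [h6, one_mul]
      exact comm_of_fix h7
    | one =>
      have e1 : c₀ * 1 * c₀⁻¹ = 1 := by group
      rw [e1, mul_one, one_mul]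
    | mul k k' _ _ h1 h3 =>
      have e1 : c₀ * (k * k') * c₀⁻¹ = (c₀ * k * c₀⁻¹) * (c₀ * k' * c₀⁻¹) := by group
      rw [e1]
      exact (Commute.mul_right h1 h3).eq
    | inv k _ h1 =>
      have e1 : c₀ * k⁻¹ * c₀⁻¹ = (c₀ * k * c₀⁻¹)⁻¹ := by group
      rw [e1]
      exact (Commute.inv_right h1).eq
  -- `cj c₀ (zc (o2 N(K)))` is normalised by `Y`
  obtain ⟨W₀, hW₀⟩ : ∃ W₀ : Subgroup G, W₀ = Omega.BTwo.cj c₀ (zc (o2 (normalizer (K : Set G)))) := ⟨_, rfl⟩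
  have hYn : ∀ y ∈ Y, ∀ u ∈ W₀, y * u * y⁻¹ ∈ W₀ := by
    intro y hy u hu
    rw [hW₀, mem_cj] at hu ⊢
    have h1 : c₀⁻¹ * y * c₀ ∈ normalizer (K : Set G) := by
      apply mem_normalizer_of_conj
      intro k hk
      have h3 := hYK y hy k hk
      have e1 : c₀⁻¹ * y * c₀ * k * (c₀⁻¹ * y * c₀)⁻¹ = c₀⁻¹ * (y * (c₀ * k * c₀⁻¹)) * y⁻¹ * c₀ := by group
      rw [e1, h3]
      have e2 : c₀⁻¹ * (c₀ * k * c₀⁻¹ * y) * y⁻¹ * c₀ = k := by group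
      rw [e2]; exact hk
    have h3 := normalizer_le_normalizer_zc _ (le_normalizer_o2 _ h1)
    have h5 := norm_c h3 hu
    have e1 : c₀⁻¹ * y * c₀ * (c₀⁻¹ * u * c₀) * (c₀⁻¹ * y * c₀)⁻¹ = c₀⁻¹ * (y * u * y⁻¹) * c₀ := by group
    rwa [e1] at h5
  have hfixC : ∀ u ∈ A', (c₀⁻¹ * u * c₀ = u) → u ∈ W₀ := by
    intro u hu h1
    rw [hW₀, mem_cj, h1]
    exact hAz hu
  have hUA' : U ≤ A' := b.symm.U'A
  have hU'A' : U' ≤ A' := b.symm.UA
  have hUW : U ≤ W₀ := fun u hu => hfixC u (hUA' hu) (fix_of_comm' (cc_l hc₀ hu))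
  have hU'W : U' ≤ W₀ := fun u hu => hfixC u (hU'A' hu) (fix_of_comm' (cc_r hc₀ hu))
  have hAW : A ≤ W₀ := by
    refine b.A_le hn (fun z => hU'W (b.eU' z)) (fun z => ?_) hUW
    obtain ⟨y, hy, hyL⟩ := hYall (wm 1 one_ne_zero)
    have h1 := hyL.eq r ⟨n, hn, fun _ _ => rfl⟩ (b.eA z)
    rw [← h1]
    exact hYn y hy _ (hU'W (b.eU' z))
  -- the end
  obtain ⟨x, hx, hxI⟩ := b.exists_n 1
  have hxW : c₀ * x * c₀⁻¹ ∈ W₀ := by
    rw [hW₀]; exact conj_mem_cj (hAz hx)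
  have hab : ∀ u ∈ W₀, ∀ v ∈ W₀, u * v = v * u := by
    intro u hu v hv
    rw [hW₀, mem_cj] at hu hv
    have h1 := zc_comm _ _ hu _ hv
    calc u * v = c₀ * ((c₀⁻¹ * u * c₀) * (c₀⁻¹ * v * c₀)) * c₀⁻¹ := by group
      _ = c₀ * ((c₀⁻¹ * v * c₀) * (c₀⁻¹ * u * c₀)) * c₀⁻¹ := by rw [h1]
      _ = v * u := by group
  have h1 := EndL.act_cj b c hc₀ hx hxI (b.fA 1)
  rw [fix_of_comm (hab _ hxW _ (hAW (b.fA 1))), b.p.φ.fπ] at h1
  simp only [Matrix.cons_val_zero, mul_one, one_pow] at h1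
  have h3 : e 0 * g 0 = e 1 * g 1 := by
    rw [b.p.φ.e0, b.p.φ.g0, mul_one]
    exact (right_eq_mul.1 h1).symm
  exact zero_ne_one (b.p.φ.eg_inj r h3).1

end Cfsg.Agent.Omega.IId.Ns
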