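import Cfsg.Agent.Omega.IId.Ns.NineD
import Cfsg.Agent.Omega.IId.Ns.End
import Cfsg.Agent.Omega.IId.Ns.CoreOf

/-!
# II.d, `k = 2`, nonsplit: (8) and the contradiction

* `Base.false_two` : `k' = 2`;
* `Base.false_one` : `k' = 1` (`T'` is a Sylow 2-subgroup).
-/

set_option autoImplicit false
set_option linter.unusedSectionVars false

namespace Cfsg.Agent.Omega.IId.Ns

open Subgroup Cfsg Cfsg.Agent.ZN Cfsg.Agent.Lib.SL2Mat
open Cfsg.Agent.Omega.HOne.NSMod Cfsg.Agent.Omega.HOne.NSSide Cfsg.Agent.Omega.HOne.NSPair Cfsg.Agent.Omega.HOne.NSDat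
open Cfsg.Agent.Omega.NatPair (ap ap_add ap_mul ap_one ap_inj ext2 ap_zero' ap_one' ap_inv_ap ap_ap_inv)
open Cfsg.Agent.Omega.BTwo (cj mem_cj conj_mem_cj card_cj cj_mul mem_normalizer_of_conj cj_eq_self_iff)

universe u

variable {G : Type u} [Group G] {F : Type} [Field F]
  {T T' L L' A A' U U' : Subgroup G} {π π' : G → Fin 2 → F} {e f g e' f' g' : F → G}

theorem Base.Un (b : Base T T' L L' A A' U U' π π' e f g e' f' g') {t : G} (ht : t ∈ T) {u : G} (hu : u ∈ U) :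
    t * u * t⁻¹ ∈ U := b.p.s.r.Dn t (b.TL ht) u hu

theorem Base.U'n [Finite F] (b : Base T T' L L' A A' U U' π π' e f g e' f' g') {t : G} (ht : t ∈ T) {u : G}
    (hu : u ∈ U') : t * u * t⁻¹ ∈ U' := by
  obtain ⟨z, rfl⟩ := b.U'_e hu
  obtain ⟨z', hz'⟩ := b.p.norm_e b.g1 ht z
  rw [hz']; exact b.eU' z'

/-- **(8)** -/
theorem Base.syl [Finite G] [Finite F] (b : Base T T' L L' A A' U U' π π' e f g e' f' g') :
    ∃ Th : Subgroup G, IsPGroup 2 Th ∧ T ≤ Th ∧ Nat.card Th ≤ 2 * Nat.card T ∧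
      ¬ 2 ∣ (Th ⊓ CC U U').relIndex (CC U U') ∧ Nat.card ↥(Th ⊓ CC U U') ≤ 2 * Nat.card ↥(T ⊓ CC U U') := by
  have : Fact (Nat.Prime 2) := ⟨Nat.prime_two⟩
  set BB : Subgroup G := normalizer (U : Set G) ⊓ normalizer (U' : Set G) with hBB
  have hTB : T ≤ BB := fun t ht => mem_inf.2 ⟨mem_normalizer_of_conj fun u hu => b.Un ht hu,
    mem_normalizer_of_conj fun u hu => b.U'n ht hu⟩
  have hCB : CC U U' ≤ BB := inf_le_inf (centralizer_le_normalizer _) (centralizer_le_normalizer _)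
  have hT' : IsPGroup 2 (T.subgroupOf BB) := b.T2.comap_of_injective BB.subtype Subtype.val_injective
  obtain ⟨Q, hQ⟩ := hT'.exists_le_sylow
  have hTh : IsPGroup 2 ((Q : Subgroup BB).map BB.subtype) := Q.isPGroup'.map _
  have hTT : T ≤ (Q : Subgroup BB).map BB.subtype := fun t ht => ⟨⟨t, hTB ht⟩, hQ (mem_subgroupOf.2 ht), rfl⟩
  have hcd := b.two _ hTh hTT
  refine ⟨(Q : Subgroup BB).map BB.subtype, hTh, hTT, hcd, ?_, ?_⟩
  · -- `CC` is normal in `BB`
    have hn : ((CC U U').subgroupOf BB).Normal := by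
      rw [normal_subgroupOf_iff_le_normalizer hCB]
      intro x hx
      refine mem_normalizer_of_conj fun c hc => ?_
      have h1 : ∀ u ∈ U, x⁻¹ * u * x ∈ U := fun u hu => by
        have := (mem_normalizer_iff.1 (inv_mem hx.1) u).1 hu
        rwa [inv_inv] at this
      have h2 : ∀ u ∈ U', x⁻¹ * u * x ∈ U' := fun u hu => by
        have := (mem_normalizer_iff.1 (inv_mem hx.2) u).1 hu
        rwa [inv_inv] at this
      refine ⟨mem_centralizer_iff.2 fun u hu => ?_, mem_centralizer_iff.2 fun u hu => ?_⟩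
      · have h3 := cc_l hc (h1 u hu)
        calc u * (x * c * x⁻¹) = x * ((x⁻¹ * u * x) * c) * x⁻¹ := by group
          _ = x * (c * (x⁻¹ * u * x)) * x⁻¹ := by rw [h3]
          _ = _ := by group
      · have h3 := cc_r hc (h2 u hu)
        calc u * (x * c * x⁻¹) = x * ((x⁻¹ * u * x) * c) * x⁻¹ := by group
          _ = x * (c * (x⁻¹ * u * x)) * x⁻¹ := by rw [h3]
          _ = _ := by group
    have h1 : (Q : Subgroup BB).relIndex ((CC U U').subgroupOf BB) ∣ (Q : Subgroup BB).index :=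
      Cfsg.Agent.Lib.GoldschmidtFusion.relIndex_dvd_index_of_normal_right _ _
    have h2 : (((Q : Subgroup BB).map BB.subtype) ⊓ CC U U').relIndex (CC U U') =
        (Q : Subgroup BB).relIndex ((CC U U').subgroupOf BB) := by
      rw [inf_relIndex_right, ← relIndex_subgroupOf hCB]
      congr 1
      ext x
      rw [mem_subgroupOf]
      constructor
      · rintro ⟨y, hy, hyx⟩
        have : y = x := Subtype.ext hyx
        rwa [← this]
      · intro hx
        exact ⟨x, hx, rfl⟩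
    rw [h2]
    exact fun h3 => Q.not_dvd_index (h3.trans h1)
  · set Th : Subgroup G := (Q : Subgroup BB).map BB.subtype with hThd
    have h1 : Nat.card T * T.relIndex Th = Nat.card Th := Cfsg.Agent.Lib.SylowNormalInf.card_mul_relIndex T Th hTT
    have h2 : T.relIndex Th ≤ 2 := by
      by_contra h3
      have h4 : 0 < Nat.card T := Nat.card_pos
      nlinarith
    have h3 : T.relIndex (Th ⊓ CC U U') ≤ T.relIndex Th := relIndex_le_of_le_right inf_le_left index_ne_zero_of_finite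
    have h4 := Cfsg.Agent.Lib.SylowNormalInf.card_inf_mul_relIndex T (Th ⊓ CC U U')
    have h5 : T ⊓ (Th ⊓ CC U U') = T ⊓ CC U U' := by
      rw [← inf_assoc, inf_eq_left.2 hTT]
    rw [h5] at h4
    rw [← h4, mul_comm]
    exact Nat.mul_le_mul_right _ (h3.trans h2)

/-- `Th` acts on `A` as `A'` -/
theorem Base.act [Finite G] [Finite F] {s : G → F} (b : Base T T' L L' A A' U U' π π' e f g e' f' g')
    (c : Core T L A A' U U' π e g s) {Th : Subgroup G} (hTh : IsPGroup 2 Th) (hT : T ≤ Th)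
    (hcd : Nat.card Th ≤ 2 * Nat.card T) {x : G} (hx : x ∈ Th) (hxC : x ∈ CC U U') :
    ∃ t : F, ∀ v ∈ A, x * v * x⁻¹ = e (t ^ 2 * π v 0) * g (t * π v 0) * v := by
  by_cases hxT : x ∈ T
  · exact b.tau hxT hxC
  obtain ⟨n, hn⟩ := b.exists_wm
  have h1 : Nat.card T * T.relIndex Th = Nat.card Th := Cfsg.Agent.Lib.SylowNormalInf.card_mul_relIndex T Th hT
  have h2 : T.relIndex Th ≤ 2 := by
    by_contra h3
    have h4 : 0 < Nat.card T := Nat.card_pos
    nlinarith
  have h3 : T.relIndex Th ≠ 1 := fun h4 => hxT (relIndex_eq_one.1 h4 hx)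
  have h4 : T.relIndex Th ≠ 0 := index_ne_zero_of_finite
  have h5 : (T.subgroupOf Th).index = 2 := by
    change T.relIndex Th = 2
    omega
  have h6 := normal_of_index_eq_two h5
  have hw : NW T T' L L' A A' U U' π π' e f g e' f' g' s x n :=
    { b := b
      c := c
      O' := EndL.A'O b
      wC := hxC
      wT := mem_normalizer_of_conj fun t ht => mem_subgroupOf.1 (h6.conj_mem ⟨t, hT ht⟩ (mem_subgroupOf.2 ht) ⟨x, hx⟩)
      w2 := mem_subgroupOf.1 (mul_self_mem_of_index_two h5 ⟨x, hx⟩)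
      tw := hTh.to_le (sup_le hT (by rw [zpowers_le]; exact hx))
      nT := hxT
      hn := hn }
  obtain ⟨n0, hn0, h7⟩ := hw.main
  obtain ⟨l, hl⟩ := b.p.s.typ n0 hn0
  obtain ⟨t, rfl⟩ := b.p.sq l
  exact ⟨t, fun v hv => by rw [h7 v hv]; exact b.act_n hl hv⟩

/-- two Sylow 2-subgroups of `C` have the same order -/
theorem card_syl_le [Finite G] {C X Y : Subgroup G} (hX : X ≤ C) (hXp : IsPGroup 2 X) (hYp : IsPGroup 2 Y)
    (hY : ¬ 2 ∣ Y.relIndex C) : Nat.card X ≤ Nat.card Y := by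
  obtain ⟨c, -, hc⟩ := exists_conj_le_syl hX hYp hXp hY
  have h1 := Subgroup.card_le_of_le hc
  rwa [card_cj] at h1

/-- **`k' = 2`** -/
theorem Base.false_two [Finite G] [Finite F] (hG : IsCharacteristicTwoType G) (h4 : 4 ≤ Nat.card F)
    (b : Base T T' L L' A A' U U' π π' e f g e' f' g') (hhalf : Half L' A')
    (hna : ∃ x ∈ T' ⊓ centralizer (A' : Set G), ∃ y ∈ T' ⊓ centralizer (A' : Set G), x * y ≠ y * x) : False := by
  obtain ⟨s, c⟩ := b.exists_core
  obtain ⟨Th, hp, hT, hcd, hsy, hcd2⟩ := b.syl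
  obtain ⟨Th', hp', hT', hcd', hsy', hcd2'⟩ := b.symm.syl
  have e1 : CC U' U = CC U U' := inf_comm _ _
  rw [e1] at hsy' hcd2'
  obtain ⟨c₀, hc₀, hle⟩ := exists_conj_le_syl (C := CC U U') (T := Th ⊓ CC U U') (X := T' ⊓ CC U U') inf_le_right
    (hp.to_le inf_le_left) (b.T2'.to_le inf_le_left) hsy
  have h2 : Nat.card ↥(Th ⊓ CC U U') ≤ Nat.card ↥(Th' ⊓ CC U U') :=
    card_syl_le inf_le_right (hp.to_le inf_le_left) (hp'.to_le inf_le_left) hsy'
  exact end_lemma hG h4 b c (Sh := Th ⊓ CC U U') (hp.to_le inf_le_left) inf_le_right hsy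
    (fun x hx => b.act c hp hT hcd hx.1 hx.2) hc₀ hle (h2.trans hcd2') hhalf hna

/-- **`k' = 1`** -/
theorem Base.false_one [Finite G] [Finite F] (hG : IsCharacteristicTwoType G) (h4 : 4 ≤ Nat.card F)
    (b : Base T T' L L' A A' U U' π π' e f g e' f' g')
    (hS' : ∀ X : Subgroup G, IsPGroup 2 X → T' ≤ X → X ≤ T') (hhalf : Half L A)
    (hna : ∃ x ∈ T ⊓ centralizer (A : Set G), ∃ y ∈ T ⊓ centralizer (A : Set G), x * y ≠ y * x) : False := by
  obtain ⟨s, c⟩ := b.symm.exists_core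
  obtain ⟨Th, hp, hT, hcd, hsy, hcd2⟩ := b.syl
  obtain ⟨Th', hp', hT', hcd', hsy', hcd2'⟩ := b.symm.syl
  have hTT : Th' = T' := le_antisymm (hS' _ hp' hT') hT'
  subst hTT
  have e1 : CC U' U = CC U U' := inf_comm _ _
  rw [← e1] at hsy hcd2
  obtain ⟨c₀, hc₀, hle⟩ := exists_conj_le_syl (C := CC U' U) (T := Th' ⊓ CC U' U) (X := T ⊓ CC U' U) inf_le_right
    (hp'.to_le inf_le_left) (b.T2.to_le inf_le_left) hsy'
  have h2 : Nat.card ↥(Th' ⊓ CC U' U) ≤ Nat.card ↥(Th ⊓ CC U' U) :=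
    card_syl_le inf_le_right (hp'.to_le inf_le_left) (hp.to_le inf_le_left) hsy
  exact end_lemma hG h4 b.symm c (Sh := Th' ⊓ CC U' U) (hp'.to_le inf_le_left) inf_le_right hsy'
    (fun x hx => b.symm.tau hx.1 hx.2) hc₀ hle (h2.trans hcd2) hhalf hna

end Cfsg.Agent.Omega.IId.Ns
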