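import Cfsg.Agent.Omega.IId.Ns.PairOf
import Cfsg.Agent.Omega.IId.Ns.Contra
import Cfsg.Agent.Omega.IId.Ns.Half
import Cfsg.Agent.Omega.IId.Cv.SplitTwo
import Cfsg.Agent.Omega.FrameMulti

/-!
# II.d, nonsplit, `k = 2`, `k' ≤ 2`: impossible

* `base_of` : the configuration `Base` of the pair `(N_i, N'_j)`;
* `nonsplit_two` : there is no pair `(P, P')` of natural members with `k = 2`, `k' ≤ 2`, which are not both split.
-/

set_option autoImplicit false
set_option linter.unusedSectionVars false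

namespace Cfsg.Agent.Omega.IId.Ns

open Subgroup Cfsg Cfsg.Agent.ZN Cfsg.Agent.ZN.ChoiceSit Cfsg.Agent.ZN.ChoiceBase Cfsg.Agent.Omega.MinPar
open Cfsg.Agent.Omega.FrameFF Cfsg.Agent.Omega.FFThm Cfsg.Agent.Lib.SL2Mat
open Cfsg.Agent.Omega.NatPair (ap ap_add ap_mul ap_one ap_inj ext2 ap_zero' ap_one' ap_inv_ap ap_ap_inv)
open Cfsg.Agent.Omega.HOne (cv_le conj_mem_zl conj_mem_cv)
open Cfsg.Agent.Omega.HOne.Main (vx SplitPar)
open Cfsg.Agent.Omega.IId.Cv
open Cfsg.Agent.Omega.HOne.NSMod Cfsg.Agent.Omega.HOne.NSSide Cfsg.Agent.Omega.HOne.NSPair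
open Cfsg.Agent.MinSimple.VModule (oddGen oddGen_le zc_comm zc_sq zc_le mem_zc o2_isPGroup)
open Cfsg.Agent.Omega.FrameMulti (IsNat)

universe u

section po

variable {G : Type u} [Group G] [Finite G] {F : Type} [Field F] [Finite F] [CharP F 2]
  {S S' : Sylow 2 G} {P P' : Subgroup G} {k k' : ℕ}
  {M : NatK F (S : Subgroup G) P (zl (S : Subgroup G) P) (cv (S : Subgroup G) P) k}
  {M' : NatK F (S' : Subgroup G) P' (zl (S' : Subgroup G) P') (cv (S' : Subgroup G) P') k'}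
  {i : Fin k} {j : Fin k'} {π π' : G → Fin 2 → F} {e f g e' f' g' : F → G}

theorem PO.symm (o : PO M M' i j π π' e f g e' f' g') : PO M' M j i π' π e' f' g' e f g where
  m := o.m'
  m' := o.m
  p := o.p.symm
  c1 := o.c2
  c2 := o.c1
  g1 := o.g1'
  g1' := o.g1
  π0 := o.π0'
  π0' := o.π0

variable (o : PO M M' i j π π' e f g e' f' g')

include o

theorem PO.U_ne : Uc M i ≠ ⊥ := fun h0 => by
  have h1 := o.p.φ.gD (1 : F)
  rw [h0, mem_bot] at h1
  exact one_ne_zero (o.g1 1 h1)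

/-- `U' = e(F)` -/
theorem PO.U'_iff (x : G) : x ∈ Uc M' j ↔ ∃ z, x = e z := by
  constructor
  · intro hx
    obtain ⟨y, rfl⟩ := o.p.φ'.ND x hx.1 hx
    choose θ hθ using o.c1
    have hθi : Function.Injective θ := fun x y hxy => o.p.φ.e_inj o.p.s.r (by rw [hθ, hθ, hxy])
    obtain ⟨z, rfl⟩ := Finite.surjective_of_injective hθi y
    exact ⟨z, (hθ z).symm⟩
  · rintro ⟨z, rfl⟩
    obtain ⟨y, hy⟩ := o.c1 z
    rw [hy]; exact o.p.φ'.gD y

theorem PO.U'_le : Uc M' j ≤ Nc M i := fun x hx => by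
  obtain ⟨z, rfl⟩ := (o.U'_iff x).1 hx
  exact o.p.φ.eV z

/-- `T` normalises `U` -/
theorem PO.T_U : Tc M i ≤ normalizer (Uc M i : Set G) := (Sd.Tc_le_St M i).trans (Sd.St_norm_Uc M i)

/-- `T` normalises `U'` -/
theorem PO.T_U' : Tc M i ≤ normalizer (Uc M' j : Set G) := by
  refine Sd.le_normalizer_of_conj fun t ht u hu => ?_
  obtain ⟨z, rfl⟩ := (o.U'_iff u).1 hu
  obtain ⟨z', hz'⟩ := o.p.norm_e o.g1 ht z
  exact (o.U'_iff _).2 ⟨z', hz'⟩

theorem PO.T2 : IsPGroup 2 (Tc M i) := S.isPGroup'.to_le (Sd.Tc_le M i)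

theorem PO.card_le {X : Subgroup G} (hX : IsPGroup 2 X) : Nat.card X ≤ Nat.card (S : Subgroup G) := by
  obtain ⟨Q, hQ⟩ := hX.exists_le_sylow
  refine (Subgroup.card_le_of_le hQ).trans ?_
  have : Nat.card (Q : Subgroup G) = Nat.card (S : Subgroup G) := by
    rw [Q.card_eq_multiplicity, S.card_eq_multiplicity]
  exact this.le

variable (hG : IsCharacteristicTwoType G) (hp : Pair S S' P P')

include hG hp

theorem PO.AZ (hh : Half (Lc M i) (Nc M i)) : Nc M i ≤ zc (o2 (normalizer (Uc M i : Set G))) :=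
  hh _ ((Sd.Lc_le_St S M i).trans (Sd.St_norm_Uc M i))
    (MinSimple.Basic.char2_normalizer hG ((S.isPGroup'.to_le (Sd.V_le_S hG S hp.star)).to_le
      (inf_le_left.trans (Nc_le M i))) o.U_ne)

end po

section two

variable {G : Type u} [Group G] [Finite G] {F : Type} [Field F] [Finite F] [CharP F 2]
  {S S' : Sylow 2 G} {P P' : Subgroup G} {k' : ℕ}
  {M : NatK F (S : Subgroup G) P (zl (S : Subgroup G) P) (cv (S : Subgroup G) P) 2}
  {M' : NatK F (S' : Subgroup G) P' (zl (S' : Subgroup G) P') (cv (S' : Subgroup G) P') k'}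
  {i : Fin 2} {j : Fin k'} {π π' : G → Fin 2 → F} {e f g e' f' g' : F → G}
  (o : PO M M' i j π π' e f g e' f' g') (hG : IsCharacteristicTwoType G) (hp : Pair S S' P P')

include o hG hp

theorem PO.two : ∀ X : Subgroup G, IsPGroup 2 X → Tc M i ≤ X → Nat.card X ≤ 2 * Nat.card (Tc M i) :=
  fun _ hX _ => (o.card_le hX).trans (Sd.card_Tc S hp.star M i).le

/-- LEMMA X -/
theorem PO.OT (hF : 4 ≤ Nat.card F) : o2 (CC (Uc M i) (Uc M' j)) ≤ Tc M i := by
  obtain ⟨l, hil⟩ := exists_ne i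
  obtain ⟨s, hs, hsm⟩ := M.trans i l
  have hSP := hp.star.le
  have hsP := hSP hs
  have hsm' : Mv M s i l := fun v hv => hsm v hv
  have hω := exists_omega hF
  -- `Tc M l = Tc M i`
  have hTT : Tc M l ≤ Tc M i := fun t ht => ⟨ht.1, Mv_of_two S ht.1.2 hil ht.2⟩
  have hTT' : Tc M i ≤ Tc M l := fun t ht => ⟨ht.1, Mv_of_two S ht.1.2 hil.symm ht.2⟩
  have hsl : Mv M s l i := by
    obtain ⟨m, hm⟩ := exists_Mv (M := M) hsP l
    have h1 : m ≠ l := by
      rintro rfl
      exact hil (Mv.unique' hsm' hm hsP)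
    have h2 : m = i := by omega
    rwa [h2] at hm
  have hUU : Uc M i ⊔ Uc M' j ≤ Nc M i := sup_le inf_le_left o.U'_le
  refine LemX.o2_CC_le_pair o.p o.g1 o.U'_iff S.isPGroup' (Sd.Tc_le M i) hs ?_ ?_ (o.two hG hp) ?_ ?_
  · intro t ht
    have ht' := hTT' ht
    exact ⟨⟨mul_mem (mul_mem (inv_mem hs) ht.1.1) hs, mul_mem (mul_mem (inv_mem hsP) ht.1.2) hsP⟩,
      ((hsm'.inv hsP).mul (show Mv M t l l from ht'.2) ht.1.2).mul hsm' hsP⟩
  · exact ⟨⟨mul_mem hs hs, mul_mem hsP hsP⟩, hsl.mul hsm' hsP⟩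
  · intro z
    have hL : Lc M l ≤ normalizer ((Uc M i ⊔ Uc M' j : Subgroup G) : Set G) := by
      refine sup_le ?_ ?_
      · refine Sd.le_normalizer_of_conj fun t ht v hv => ?_
        have hti := hTT ht
        have h1 : Uc M i ⊔ Uc M' j ≤ (Uc M i ⊔ Uc M' j : Subgroup G).comap (MulAut.conj t).toMonoidHom := by
          refine sup_le (fun u hu => ?_) fun u hu => ?_
          · exact (le_sup_left : Uc M i ≤ Uc M i ⊔ Uc M' j) ((mem_normalizer_iff.1 (o.T_U hti) u).1 hu)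
          · exact (le_sup_right : Uc M' j ≤ Uc M i ⊔ Uc M' j) ((mem_normalizer_iff.1 (o.T_U' hti) u).1 hu)
        exact h1 hv
      · refine Sd.le_normalizer_of_conj fun x hx v hv => ?_
        have h1 := Sd.Fc_comm_Nc hG S hp.star M hω hil (Sd.Ec_le S M l hx) (hUU hv)
        rw [h1, mul_inv_cancel_right]
        exact hv
    have hne : Uc M i ⊔ Uc M' j ≠ ⊥ := fun h0 => o.U_ne (eq_bot_iff.2 (le_sup_left.trans h0.le))
    have h2 : IsPGroup 2 (Uc M i ⊔ Uc M' j : Subgroup G) :=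
      (S.isPGroup'.to_le (Sd.V_le_S hG S hp.star)).to_le (hUU.trans (Nc_le M i))
    exact half_Lc hG S hp.star hF l _ hL (MinSimple.Basic.char2_normalizer hG h2 hne)
      (Nc_mv hsP hsm' (o.p.φ.eV z))
  · intro z hz he
    have h1 : e z ∈ Nc M l := by
      rw [← he]; exact Nc_mv hsP hsm' (o.p.φ.eV z)
    have h2 : M.e (e z) i = 0 := Nc_e M h1 i hil
    have h3 : e z ∈ Uc M i := (Sd.mem_Uc_iff S M (o.p.φ.eV z)).2 h2
    have h4 := (o.p.s.r.ker _ (o.p.φ.eV z)).2 h3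
    rw [o.p.φ.eπ] at h4
    have h5 := congrFun h4 1
    exact hz (by simpa using h5)

end two

section fin

variable {G : Type u} [Group G] [Finite G] {F : Type} [Field F] [Finite F] [CharP F 2]
  {S S' : Sylow 2 G} {P P' : Subgroup G}
  {M : NatK F (S : Subgroup G) P (zl (S : Subgroup G) P) (cv (S : Subgroup G) P) 2}
  (hG : IsCharacteristicTwoType G) (hp : Pair S S' P P')

include hG hp

/-- **`k = k' = 2`** -/
theorem PO.false_two {M' : NatK F (S' : Subgroup G) P' (zl (S' : Subgroup G) P') (cv (S' : Subgroup G) P') 2}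
    {i : Fin 2} {j : Fin 2} {π π' : G → Fin 2 → F} {e f g e' f' g' : F → G}
    (o : PO M M' i j π π' e f g e' f' g') (hF : 4 ≤ Nat.card F) : False := by
  have hω := exists_omega hF
  have b : Base (Tc M i) (Tc M' j) (Lc M i) (Lc M' j) (Nc M i) (Nc M' j) (Uc M i) (Uc M' j) π π' e f g e' f' g' :=
    { p := o.p
      c1 := o.c1
      c2 := o.c2
      g1 := o.g1
      g1' := o.g1'
      T2 := o.T2
      T2' := o.symm.T2
      two := o.two hG hp
      two' := o.symm.two hG hp.symm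
      QL := Sd.Lc_le_norm_Qc S M i
      QL' := Sd.Lc_le_norm_Qc S' M' j
      AZ := o.AZ hG hp (half_Lc hG S hp.star hF i)
      AZ' := o.symm.AZ hG hp.symm (half_Lc hG S' hp.star' hF j)
      OT := o.OT hG hp hF
      OT' := by
        have h1 := o.symm.OT hG hp.symm hF
        have e1 : CC (Uc M' j) (Uc M i) = CC (Uc M i) (Uc M' j) := inf_comm _ _
        rw [e1] at h1
        exact h1 }
  obtain ⟨l, hjl⟩ := exists_ne j
  exact b.false_two hG hF (half_Lc hG S' hp.star' hF j) (Sd.exists_Qc_ne hG S' hp.star' M' hω hjl)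

/-- **`k = 2`, `k' = 1`** -/
theorem PO.false_one {M' : NatK F (S' : Subgroup G) P' (zl (S' : Subgroup G) P') (cv (S' : Subgroup G) P') 1}
    {i : Fin 2} {j : Fin 1} {π π' : G → Fin 2 → F} {e f g e' f' g' : F → G}
    (o : PO M M' i j π π' e f g e' f' g') (hF : 4 ≤ Nat.card F) : False := by
  have hω := exists_omega hF
  have hcT : Nat.card (S' : Subgroup G) = Nat.card (Tc M' j) := by
    have h1 := Sd.card_Tc S' hp.star' M' j
    rwa [one_mul] at h1
  have hTS : Tc M' j = (S' : Subgroup G) := Subgroup.eq_of_le_of_card_ge (Sd.Tc_le M' j) hcT.le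
  have hS' : ∀ X : Subgroup G, IsPGroup 2 X → Tc M' j ≤ X → X ≤ Tc M' j := by
    intro X hX hle
    rw [hTS] at hle ⊢
    exact (S'.is_maximal' hX hle).le
  have b : Base (Tc M i) (Tc M' j) (Lc M i) (Lc M' j) (Nc M i) (Nc M' j) (Uc M i) (Uc M' j) π π' e f g e' f' g' :=
    { p := o.p
      c1 := o.c1
      c2 := o.c2
      g1 := o.g1
      g1' := o.g1'
      T2 := o.T2
      T2' := o.symm.T2
      two := o.two hG hp
      two' := fun X hX hle => by
        have h1 := Subgroup.card_le_of_le (hS' X hX hle)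
        omega
      QL := Sd.Lc_le_norm_Qc S M i
      QL' := Sd.Lc_le_norm_Qc S' M' j
      AZ := o.AZ hG hp (half_Lc hG S hp.star hF i)
      AZ' := o.symm.AZ hG hp.symm (half_of_sylow hG S' hp.star' hF hTS.ge)
      OT := o.OT hG hp hF
      OT' := LemX.o2_CC_le_of_sylow o.symm.T2 hS' o.symm.T_U' o.symm.T_U }
  obtain ⟨l, hil⟩ := exists_ne i
  exact b.false_one hG hF hS' (half_Lc hG S hp.star hF i) (Sd.exists_Qc_ne hG S hp.star M hω hil)

end fin

/-- **Nonsplit, `k = 2`, `k' ≤ 2`: impossible.** -/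
theorem nonsplit_two {G : Type u} [Group G] [Finite G] (hG : IsCharacteristicTwoType G) {S S' : Sylow 2 G}
    {P P' : Subgroup G} (hp : Pair S S' P P') (hT : NoOver (zl (S : Subgroup G) P) P)
    (hT' : NoOver (zl (S' : Subgroup G) P') P') {k' : ℕ} (hk1 : 1 ≤ k') (hk2 : k' ≤ 2)
    (hM : IsNat (S : Subgroup G) P 2) (hM' : IsNat (S' : Subgroup G) P' k')
    (hs : ¬ (SplitPar (S : Subgroup G) P ∧ SplitPar (S' : Subgroup G) P')) : False := by
  obtain ⟨F, _, _, _, ⟨M⟩⟩ := hM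
  obtain ⟨F', _, _, _, ⟨M₁⟩⟩ := hM'
  obtain ⟨I, I', b, c, d⟩ := exists_pd hG hp hT hT' M M₁
  have hcard := d.card_eq two_pos (by omega)
  -- `|F| ≥ 4`
  have hF : 4 ≤ Nat.card F := by
    by_contra hlt
    have : Fintype F := Fintype.ofFinite F
    have h1 : 1 < Nat.card F := Finite.one_lt_card
    have h2 : 2 ∣ Nat.card F := two_dvd_card
    have h3 : Nat.card F = 2 := by omega
    exact hs ⟨splitPar_two hG S hp.star M two_pos h3, splitPar_two hG S' hp.star' M₁ (by omega) (hcard ▸ h3)⟩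
  -- one field
  have : Fintype F := Fintype.ofFinite F
  have : Fintype F' := Fintype.ofFinite F'
  have hσ : Nonempty (F' ≃+* F) := by
    rw [Nat.card_eq_fintype_card, Nat.card_eq_fintype_card] at hcard
    exact ⟨FiniteField.ringEquivOfCardEq hcard.symm⟩
  obtain ⟨σ⟩ := hσ
  obtain ⟨M', hM'⟩ : ∃ M' : NatK F (S' : Subgroup G) P' (zl (S' : Subgroup G) P') (cv (S' : Subgroup G) P') k',
      M' = natKFld σ M₁ := ⟨_, rfl⟩
  obtain ⟨I, I', b, c, d⟩ := exists_pd hG hp hT hT' M M'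
  obtain ⟨i, j, m, m'⟩ := d.exists_mt two_pos (by omega)
  have hω := exists_omega hF
  rcases Nat.lt_or_ge k' 2 with hk | hk
  · obtain rfl : k' = 1 := by omega
    have hcT : Nat.card (S' : Subgroup G) = Nat.card (Tc M' j) := by
      have h1 := Sd.card_Tc S' hp.star' M' j
      rwa [one_mul] at h1
    have hTS : Tc M' j = (S' : Subgroup G) := Subgroup.eq_of_le_of_card_ge (Sd.Tc_le M' j) hcT.le
    obtain ⟨π, π', e, f, g, e', f', g', o⟩ := exists_po hG hp hω m m' (half_Lc hG S hp.star hF i)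
      (half_of_sylow hG S' hp.star' hF hTS.ge) hs
    exact PO.false_one hG hp o hF
  · obtain rfl : k' = 2 := by omega
    obtain ⟨π, π', e, f, g, e', f', g', o⟩ := exists_po hG hp hω m m' (half_Lc hG S hp.star hF i)
      (half_Lc hG S' hp.star' hF j) hs
    exact PO.false_two hG hp o hF

end Cfsg.Agent.Omega.IId.Ns
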