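import Cfsg.Agent.Omega.IId.Ns.Core
import Cfsg.Agent.Omega.HOne.NSDat

/-!
# II.d, `k = 2`, nonsplit: (9a) and (9b)

* `comm_Q` : `w ∈ C_G(U U')` normalises `T` ==> `C_T(A)` centralises `w A w⁻¹`;
* `dec` : `UU = A C_UU(X)`, `X = ⟨A', n⁻¹ A' n⟩`.
-/

set_option autoImplicit false
set_option linter.unusedSectionVars false

namespace Cfsg.Agent.Omega.IId.Ns

open Subgroup Cfsg Cfsg.Agent.ZN Cfsg.Agent.Lib.SL2Mat
open Cfsg.Agent.Omega.HOne.NSMod Cfsg.Agent.Omega.HOne.NSSide Cfsg.Agent.Omega.HOne.NSPair Cfsg.Agent.Omega.HOne.NSDat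
open Cfsg.Agent.Omega.NatPair (ap ap_add ap_mul ap_one ap_inj ext2 ap_zero' ap_one' ap_inv_ap ap_ap_inv)
open Cfsg.Agent.MinSimple.VModule (le_normalizer_o2 zc_comm zc_sq zc_le)

universe u

variable {G : Type u} [Group G] {F : Type} [Field F]
  {T T' L L' A A' U U' : Subgroup G} {π π' : G → Fin 2 → F} {e f g e' f' g' : F → G} {s : G → F}

/-! ### Basic facts -/

theorem cc_l {U U' : Subgroup G} {x : G} (hx : x ∈ CC U U') {u : G} (hu : u ∈ U) : x * u = u * x :=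
  (mem_centralizer_iff.1 hx.1 u hu).symm

theorem cc_r {U U' : Subgroup G} {x : G} (hx : x ∈ CC U U') {u : G} (hu : u ∈ U') : x * u = u * x :=
  (mem_centralizer_iff.1 hx.2 u hu).symm

theorem fix_of_comm {x y : G} (h : x * y = y * x) : x * y * x⁻¹ = y := by rw [h, mul_inv_cancel_right]

theorem fix_of_comm' {x y : G} (h : x * y = y * x) : x⁻¹ * y * x = y := by
  rw [mul_assoc, ← h, inv_mul_cancel_left]

theorem comm_of_fix {x y : G} (h : x * y * x⁻¹ = y) : x * y = y * x := mul_inv_eq_iff_eq_mul.1 h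

theorem fix_inv {x y : G} (h : x * y * x⁻¹ = y) : x * y⁻¹ * x⁻¹ = y⁻¹ := by
  calc x * y⁻¹ * x⁻¹ = (x * y * x⁻¹)⁻¹ := by group
    _ = y⁻¹ := by rw [h]

namespace Base

variable (b : Base T T' L L' A A' U U' π π' e f g e' f' g')

include b

theorem eU' (z : F) : e z ∈ U' := by
  obtain ⟨y, hy⟩ := b.c1 z
  rw [hy]; exact b.p.φ'.gD y

theorem gU (z : F) : g z ∈ U := b.p.φ.gD z

theorem eA (z : F) : e z ∈ A := b.p.φ.eV z
theorem fA (z : F) : f z ∈ A := b.p.φ.fV z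
theorem gA (z : F) : g z ∈ A := b.p.s.r.DV (b.p.φ.gD z)

theorem UA : U ≤ A := b.p.s.r.DV

theorem U'A [Finite F] : U' ≤ A := by
  intro x hx
  obtain ⟨y, rfl⟩ := b.p.φ'.ND x (b.p.s'.r.DV hx) hx
  exact b.p.symm.eg_mem.2 y

/-- `A` is commutative -/
theorem Ac {x y : G} (hx : x ∈ A) (hy : y ∈ A) : x * y = y * x := b.p.s.r.Vc x hx y hy

theorem A'c {x y : G} (hx : x ∈ A') (hy : y ∈ A') : x * y = y * x := b.p.s'.r.Vc x hx y hy

theorem Ai {x : G} (hx : x ∈ A) : x⁻¹ = x := b.p.s.r.inv hx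

/-- `A' ≤ C_G(U U')` -/
theorem A'C : A' ≤ CC U U' := by
  intro n hn
  obtain ⟨β, hβ⟩ := b.p.s.typ n hn
  exact ⟨mem_centralizer_iff.2 fun u hu => (hβ.cen u hu).symm,
    mem_centralizer_iff.2 fun u hu => b.A'c (b.p.s'.r.DV hu) hn⟩

theorem AC [Finite F] : A ≤ CC U U' := fun x hx =>
  ⟨mem_centralizer_iff.2 fun u hu => b.Ac (b.UA hu) hx, mem_centralizer_iff.2 fun u hu => b.Ac (b.U'A hu) hx⟩

theorem A'T : A' ≤ T := b.p.s.AS

theorem TL : T ≤ L := b.p.s.SP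

/-- `T ∩ C` acts on `A` as `A'` -/
theorem tau {x : G} (hx : x ∈ T) (hc : x ∈ CC U U') :
    ∃ t : F, ∀ v ∈ A, x * v * x⁻¹ = e (t ^ 2 * π v 0) * g (t * π v 0) * v :=
  act_of b.p hx fun z => cc_r hc (b.eU' z)

theorem exists_n (t : F) : ∃ n ∈ A', Is L A U π n (lo (t ^ 2)) := b.p.s.full (t ^ 2)

theorem act_n {t : F} {n : G} (hn : Is L A U π n (lo (t ^ 2))) {v : G} (hv : v ∈ A) :
    n * v * n⁻¹ = e (t ^ 2 * π v 0) * g (t * π v 0) * v := b.p.φ.act t n hn v hv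

/-- `C_T(A) ≤ C_G(U U')` -/
theorem QC [Finite F] : T ⊓ centralizer (A : Set G) ≤ CC U U' := fun x hx =>
  ⟨mem_centralizer_iff.2 fun u hu => mem_centralizer_iff.1 hx.2 u (b.UA hu),
    mem_centralizer_iff.2 fun u hu => mem_centralizer_iff.1 hx.2 u (b.U'A hu)⟩

/-- the Weyl element -/
theorem exists_wm : ∃ n, Is L A U π n (wm 1 one_ne_zero) := b.p.s.r.is_lift _

theorem pi_n {n : G} (hn : Is L A U π n (wm 1 one_ne_zero)) {v : G} (hv : v ∈ A) :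
    π (n * v * n⁻¹) = ![π v 1, - π v 0] := by
  rw [hn.act v hv, ap_wm]
  apply ext2 <;> simp

theorem pi_n' {n : G} (hn : Is L A U π n (wm 1 one_ne_zero)) {v : G} (hv : v ∈ A) :
    π (n⁻¹ * v * n) = ![- π v 1, π v 0] := by
  have h1 : n⁻¹ * v * n ∈ A := by
    have := b.p.s.r.Vn n⁻¹ (inv_mem hn.mem) v hv
    rwa [inv_inv] at this
  have h2 := b.pi_n hn h1
  have e1 : n * (n⁻¹ * v * n) * n⁻¹ = v := by group
  rw [e1] at h2
  rw [h2]
  apply ext2 <;> simp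

/-- an element of `A` with `π = 0` is in `U` -/
theorem mem_U {v : G} (hv : v ∈ A) (h : π v = 0) : v ∈ U := (b.p.s.r.ker v hv).1 h

/-- `A = n e(F) n⁻¹ · e(F) · U` -/
theorem A_le {W : Subgroup G} {n : G} (hn : Is L A U π n (wm 1 one_ne_zero)) (h1 : ∀ z, e z ∈ W)
    (h2 : ∀ z, n * e z * n⁻¹ ∈ W) (h3 : U ≤ W) : A ≤ W := by
  intro a ha
  have hne : ∀ z, n * e z * n⁻¹ ∈ A := fun z => b.p.s.r.Vn n hn.mem _ (b.eA z)
  have h4 : (n * e (π a 0) * n⁻¹)⁻¹ * (a * (e (π a 1))⁻¹) ∈ U := by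
    refine b.mem_U (mul_mem (inv_mem (hne _)) (mul_mem ha (inv_mem (b.eA _)))) ?_
    rw [b.p.s.r.mul _ (inv_mem (hne _)) _ (mul_mem ha (inv_mem (b.eA _))), b.p.s.r.mul _ ha _ (inv_mem (b.eA _)),
      b.p.s.r.map_inv (hne _), b.p.s.r.map_inv (b.eA _), b.pi_n hn (b.eA _), b.p.φ.eπ, b.p.φ.eπ]
    apply ext2 <;> simp [Matrix.vecHead, Matrix.vecTail]
  have e1 : a = (n * e (π a 0) * n⁻¹) * ((n * e (π a 0) * n⁻¹)⁻¹ * (a * (e (π a 1))⁻¹)) * e (π a 1) := by group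
  rw [e1]
  exact mul_mem (mul_mem (h2 _) (h3 h4)) (h1 _)

end Base

/-! ### (9a) -/

/-- (9a) -/
theorem comm_Q [Finite G] [Finite F] (b : Base T T' L L' A A' U U' π π' e f g e' f' g')
    (c : Core T L A A' U U' π e g s) (hA'O : A' ≤ o2 (CC U U')) {w : G} (hw : w ∈ CC U U')
    (hwT : w ∈ normalizer (T : Set G)) {h : G} (hh : h ∈ T ⊓ centralizer (A : Set G)) {v : G} (hv : v ∈ A) :
    h * (w * v * w⁻¹) = w * v * w⁻¹ * h := by
  have hhA : ∀ a ∈ A, h * a = a * h := fun a ha => (mem_centralizer_iff.1 hh.2 a ha).symm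
  -- `x = w⁻¹ h w`
  set x := w⁻¹ * h * w with hx
  have hxT : x ∈ T := by
    have := (mem_normalizer_iff.1 (inv_mem hwT) h).1 hh.1
    rwa [inv_inv] at this
  have hxC : x ∈ CC U U' := mul_mem (mul_mem (inv_mem hw) (b.QC hh)) hw
  obtain ⟨t, ht⟩ := b.tau hxT hxC
  have hwe : ∀ z, w * e z * w⁻¹ = e z := fun z => fix_of_comm (cc_r hw (b.eU' z))
  have hwg : ∀ z, w * g z * w⁻¹ = g z := fun z => fix_of_comm (cc_l hw (b.gU z))
  have hform : ∀ a ∈ A, h * (w * a * w⁻¹) * h⁻¹ = e (t ^ 2 * π a 0) * g (t * π a 0) * (w * a * w⁻¹) := by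
    intro a ha
    have e1 : h * (w * a * w⁻¹) * h⁻¹ = w * (x * a * x⁻¹) * w⁻¹ := by rw [hx]; group
    rw [e1, ht a ha]
    calc w * (e (t ^ 2 * π a 0) * g (t * π a 0) * a) * w⁻¹
        = (w * e (t ^ 2 * π a 0) * w⁻¹) * (w * g (t * π a 0) * w⁻¹) * (w * a * w⁻¹) := by group
      _ = _ := by rw [hwe, hwg]
  by_cases ht0 : t = 0
  · have h1 := hform v hv
    rw [ht0, zero_pow two_ne_zero, zero_mul, b.p.φ.e0, b.p.φ.g0, one_mul, one_mul] at h1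
    exact comm_of_fix h1
  -- the case `t ≠ 0` : `A = w A w⁻¹`
  obtain ⟨n, hn⟩ := b.exists_wm
  have hnM : n ∈ centralizer (U : Set G) := mem_centralizer_iff.2 fun u hu => (hn.cen u hu).symm
  have hnA : ∀ a ∈ A, n * a * n⁻¹ ∈ A := fun a ha => b.p.s.r.Vn n hn.mem a ha
  have hnA' : ∀ a ∈ A, n⁻¹ * a * n ∈ A := fun a ha => by
    have := b.p.s.r.Vn n⁻¹ (inv_mem hn.mem) a ha
    rwa [inv_inv] at this
  have hnQ := b.QL hn.mem
  set W : Subgroup G := Omega.BTwo.cj w A with hW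
  have memW : ∀ y, y ∈ W ↔ w⁻¹ * y * w ∈ A := fun y => Omega.BTwo.mem_cj
  have hwW : ∀ a ∈ A, w * a * w⁻¹ ∈ W := fun a ha => Omega.BTwo.conj_mem_cj ha
  have heW : ∀ z, e z ∈ W := fun z => by rw [← hwe z]; exact hwW _ (b.eA z)
  have hUW : U ≤ W := fun u hu => by
    have e1 : w * u * w⁻¹ = u := fix_of_comm (cc_l hw hu)
    rw [← e1]; exact hwW _ (b.UA hu)
  -- the main computation
  have key : ∀ k ∈ A', ∀ z : F, (n * k * n⁻¹) * (e z)⁻¹ * (n * k * n⁻¹)⁻¹ * e z ∈ W := by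
    intro k hk z
    obtain ⟨β, hβ⟩ := b.p.s.typ k hk
    obtain ⟨r, rfl⟩ := b.p.sq β
    set κ := n * k * n⁻¹ with hκ
    have hkT : k ∈ T := b.A'T hk
    have hkA : ∀ a ∈ A, k * a * k⁻¹ ∈ A := fun a ha => b.p.s.r.Vn k (b.TL hkT) a ha
    have hkA' : ∀ a ∈ A, k⁻¹ * a * k ∈ A := fun a ha => by
      have := b.p.s.r.Vn k⁻¹ (inv_mem (b.TL hkT)) a ha
      rwa [inv_inv] at this
    have hκA : ∀ a ∈ A, κ * a * κ⁻¹ ∈ A := by
      intro a ha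
      have e1 : κ * a * κ⁻¹ = n * (k * (n⁻¹ * a * n) * k⁻¹) * n⁻¹ := by rw [hκ]; group
      rw [e1]; exact hnA _ (hkA _ (hnA' a ha))
    have hκA' : ∀ a ∈ A, κ⁻¹ * a * κ ∈ A := by
      intro a ha
      have e1 : κ⁻¹ * a * κ = n * (k⁻¹ * (n⁻¹ * a * n) * k) * n⁻¹ := by rw [hκ]; group
      rw [e1]; exact hnA _ (hkA' _ (hnA' a ha))
    -- `a` with `t ^ 2 * π a 0 = z`
    set a := f (z / t ^ 2) with ha
    have haA : a ∈ A := b.fA _
    have hπa : π a 0 = z / t ^ 2 := by rw [ha, b.p.φ.fπ]; rfl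
    set q := w * a * w⁻¹ with hq
    set ρ := e z * g (t * (z / t ^ 2)) with hρ
    have hρA : ρ ∈ A := mul_mem (b.eA _) (b.gA _)
    have hhq : h * q * h⁻¹ = ρ * q := by
      rw [hq, hform a haA, hπa, mul_div_cancel₀ _ (pow_ne_zero 2 ht0)]
    have hqU : q ∈ UG A U := c.MU w hw.1 a (c.AU haA)
    -- `r' = [κ, q]`
    set r' := κ * q * κ⁻¹ * q⁻¹ with hr'
    have hr'e : r' = n * (e (r ^ 2 * s (n⁻¹ * q * n)) * g (r * s (n⁻¹ * q * n))) * n⁻¹ := by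
      have h1 : n⁻¹ * q * n ∈ UG A U := by
        have := c.MU n⁻¹ (inv_mem hnM) q hqU
        rwa [inv_inv] at this
      have h2 := c.s_act r k hk hβ _ h1
      have e1 : r' = n * ((k * (n⁻¹ * q * n) * k⁻¹) * (n⁻¹ * q * n)⁻¹) * n⁻¹ := by rw [hr', hκ]; group
      rw [e1, h2, mul_inv_cancel_right]
    have hr'A : r' ∈ A := by
      rw [hr'e]; exact hnA _ (mul_mem (b.eA _) (b.gA _))
    have hκr' : κ * r' = r' * κ := by
      have h1 : k * (e (r ^ 2 * s (n⁻¹ * q * n)) * g (r * s (n⁻¹ * q * n))) =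
          (e (r ^ 2 * s (n⁻¹ * q * n)) * g (r * s (n⁻¹ * q * n))) * k := by
        have c1 := cc_r (b.A'C hk) (b.eU' (r ^ 2 * s (n⁻¹ * q * n)))
        have c2 := cc_l (b.A'C hk) (b.gU (r * s (n⁻¹ * q * n)))
        rw [← mul_assoc, c1, mul_assoc, c2, ← mul_assoc]
      rw [hr'e, hκ]
      calc n * k * n⁻¹ * (n * (e (r ^ 2 * s (n⁻¹ * q * n)) * g (r * s (n⁻¹ * q * n))) * n⁻¹)
          = n * (k * (e (r ^ 2 * s (n⁻¹ * q * n)) * g (r * s (n⁻¹ * q * n)))) * n⁻¹ := by group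
        _ = _ := by rw [h1]; group
    -- `k' = [h, κ]`
    set k' := h * κ * h⁻¹ * κ⁻¹ with hk'
    have hhκ : ∀ y ∈ A, h * (κ * y * κ⁻¹) * h⁻¹ = κ * y * κ⁻¹ := fun y hy => fix_of_comm (hhA _ (hκA y hy))
    have hk'A : ∀ y ∈ A, k' * y = y * k' := by
      intro y hy
      apply comm_of_fix
      have h1 : h⁻¹ * (κ⁻¹ * y * κ) * h = κ⁻¹ * y * κ := fix_of_comm' (hhA _ (hκA' y hy))
      calc k' * y * k'⁻¹ = h * (κ * (h⁻¹ * (κ⁻¹ * y * κ) * h) * κ⁻¹) * h⁻¹ := by rw [hk']; group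
        _ = h * y * h⁻¹ := by rw [h1]; group
        _ = y := fix_of_comm (hhA y hy)
    have hk'n : n⁻¹ * k' * n ∈ T ⊓ centralizer (A : Set G) := by
      constructor
      · apply b.OT
        have h1 : n⁻¹ * h * n ∈ T ⊓ centralizer (A : Set G) := by
          have := (mem_normalizer_iff.1 (inv_mem hnQ) h).1 hh
          rwa [inv_inv] at this
        have h2 : k ∈ o2 (CC U U') := hA'O hk
        have h3 := (mem_normalizer_iff.1 (le_normalizer_o2 (CC U U') (b.QC h1)) k).1 h2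
        have e1 : n⁻¹ * k' * n = (n⁻¹ * h * n * k * (n⁻¹ * h * n)⁻¹) * k⁻¹ := by rw [hk', hκ]; group
        rw [e1]
        exact mul_mem h3 (inv_mem h2)
      · refine mem_centralizer_iff.2 fun y hy => ?_
        have h1 := hk'A _ (hnA y hy)
        calc y * (n⁻¹ * k' * n) = n⁻¹ * (n * y * n⁻¹ * k') * n := by group
          _ = n⁻¹ * (k' * (n * y * n⁻¹)) * n := by rw [h1]
          _ = _ := by group
    have hk'Q : k' ∈ T ⊓ centralizer (A : Set G) := by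
      have h1 := (mem_normalizer_iff.1 hnQ _).1 hk'n
      have e1 : n * (n⁻¹ * k' * n) * n⁻¹ = k' := by group
      rwa [e1] at h1
    -- `k'` normalises `W`
    have hk'W : k' * q * k'⁻¹ ∈ W := by
      rw [memW]
      have h1 : w⁻¹ * k' * w ∈ T := by
        have := (mem_normalizer_iff.1 (inv_mem hwT) k').1 hk'Q.1
        rwa [inv_inv] at this
      have h2 := b.p.s.r.Vn _ (b.TL h1) a haA
      have e1 : w⁻¹ * (k' * q * k'⁻¹) * w = w⁻¹ * k' * w * a * (w⁻¹ * k' * w)⁻¹ := by rw [hq]; group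
      rw [e1]; exact h2
    -- the computation
    have hcomp : k' * q * k'⁻¹ = κ * ρ⁻¹ * κ⁻¹ * ρ * q := by
      have c1 : κ⁻¹ * q * κ = r'⁻¹ * q := by
        have h1 : κ * (r'⁻¹ * q) * κ⁻¹ = q := by
          calc κ * (r'⁻¹ * q) * κ⁻¹ = (κ * r'⁻¹ * κ⁻¹) * (κ * q * κ⁻¹) := by group
            _ = r'⁻¹ * (r' * q) := by
              have h2 : κ * r'⁻¹ * κ⁻¹ = r'⁻¹ := fix_inv (fix_of_comm hκr')
              have h4 : κ * q * κ⁻¹ = r' * q := by rw [hr']; group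
              rw [h2, h4]
            _ = q := by group
        calc κ⁻¹ * q * κ = κ⁻¹ * (κ * (r'⁻¹ * q) * κ⁻¹) * κ := by rw [h1]
          _ = _ := by group
      have c2 : h⁻¹ * q * h = ρ⁻¹ * q := by
        have h1 : h * (ρ⁻¹ * q) * h⁻¹ = q := by
          calc h * (ρ⁻¹ * q) * h⁻¹ = (h * ρ⁻¹ * h⁻¹) * (h * q * h⁻¹) := by group
            _ = ρ⁻¹ * (ρ * q) := by rw [hhq, fix_of_comm (hhA _ (inv_mem hρA))]
            _ = q := by group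
        calc h⁻¹ * q * h = h⁻¹ * (h * (ρ⁻¹ * q) * h⁻¹) * h := by rw [h1]
          _ = _ := by group
      have c3 : κ * q * κ⁻¹ = r' * q := by rw [hr']; group
      have c4 : h⁻¹ * r'⁻¹ * h = r'⁻¹ := fix_of_comm' (hhA _ (inv_mem hr'A))
      have c5 : κ * r'⁻¹ * κ⁻¹ = r'⁻¹ := fix_inv (fix_of_comm hκr')
      have hκρ : κ * ρ⁻¹ * κ⁻¹ ∈ A := hκA _ (inv_mem hρA)
      calc k' * q * k'⁻¹ = h * (κ * (h⁻¹ * (κ⁻¹ * q * κ) * h) * κ⁻¹) * h⁻¹ := by rw [hk']; group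
        _ = h * (κ * ((h⁻¹ * r'⁻¹ * h) * (h⁻¹ * q * h)) * κ⁻¹) * h⁻¹ := by rw [c1]; group
        _ = h * (κ * (r'⁻¹ * (ρ⁻¹ * q)) * κ⁻¹) * h⁻¹ := by rw [c4, c2]
        _ = h * ((κ * r'⁻¹ * κ⁻¹) * (κ * ρ⁻¹ * κ⁻¹) * (κ * q * κ⁻¹)) * h⁻¹ := by group
        _ = h * (r'⁻¹ * (κ * ρ⁻¹ * κ⁻¹) * (r' * q)) * h⁻¹ := by rw [c5, c3]
        _ = h * (r'⁻¹ * ((κ * ρ⁻¹ * κ⁻¹) * r') * q) * h⁻¹ := by group
        _ = h * ((κ * ρ⁻¹ * κ⁻¹) * q) * h⁻¹ := by rw [b.Ac hκρ hr'A]; group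
        _ = (h * (κ * ρ⁻¹ * κ⁻¹) * h⁻¹) * (h * q * h⁻¹) := by group
        _ = (κ * ρ⁻¹ * κ⁻¹) * (ρ * q) := by rw [hhq, fix_of_comm (hhA _ hκρ)]
        _ = _ := by group
    have hqW : q ∈ W := hwW a haA
    have h1 : κ * ρ⁻¹ * κ⁻¹ * ρ ∈ W := by
      have h2 : κ * ρ⁻¹ * κ⁻¹ * ρ * q ∈ W := by rw [← hcomp]; exact hk'W
      have h3 := mul_mem h2 (inv_mem hqW)
      rwa [mul_inv_cancel_right] at h3
    -- remove the `g`-part
    have hκg : ∀ y, κ * g y * κ⁻¹ = g y := by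
      intro y
      apply fix_of_comm
      have c1 := cc_l (b.A'C hk) (b.gU y)
      have c2 := hn.cen _ (b.gU y)
      have c3 : n⁻¹ * g y = g y * n⁻¹ := by
        calc n⁻¹ * g y = n⁻¹ * (g y * n) * n⁻¹ := by group
          _ = n⁻¹ * (n * g y) * n⁻¹ := by rw [c2]
          _ = _ := by group
      rw [hκ]
      calc n * k * n⁻¹ * g y = n * k * (n⁻¹ * g y) := by group
        _ = n * (k * g y) * n⁻¹ := by rw [c3]; group
        _ = (n * g y) * k * n⁻¹ := by rw [c1]; group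
        _ = _ := by rw [c2]; group
    have h2 : κ * ρ⁻¹ * κ⁻¹ * ρ = κ * (e z)⁻¹ * κ⁻¹ * e z := by
      have c1 := hκg (t * (z / t ^ 2))
      have c2 : κ * (g (t * (z / t ^ 2)))⁻¹ * κ⁻¹ = (g (t * (z / t ^ 2)))⁻¹ := fix_inv c1
      calc κ * ρ⁻¹ * κ⁻¹ * ρ
          = (κ * (g (t * (z / t ^ 2)))⁻¹ * κ⁻¹) * (κ * (e z)⁻¹ * κ⁻¹) * (e z * g (t * (z / t ^ 2))) := by
            rw [hρ]; group
        _ = (g (t * (z / t ^ 2)))⁻¹ * ((κ * (e z)⁻¹ * κ⁻¹ * e z) * g (t * (z / t ^ 2))) := by rw [c2]; group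
        _ = _ := by
          rw [b.Ac (mul_mem (hκA _ (inv_mem (b.eA z))) (b.eA z)) (b.gA _)]
          group
    rwa [h2] at h1
  -- `n e(F) n⁻¹ ≤ W`
  have hneW : ∀ z, n * e z * n⁻¹ ∈ W := by
    intro z
    obtain ⟨k, hk, hkI⟩ := b.exists_n 1
    have h1 := key k hk z
    have hvz : n⁻¹ * (e z)⁻¹ * n ∈ A := hnA' _ (inv_mem (b.eA z))
    have h2 := b.act_n hkI hvz
    have h3 : π (n⁻¹ * (e z)⁻¹ * n) 0 = z := by
      rw [b.pi_n' hn (inv_mem (b.eA z)), b.p.s.r.map_inv (b.eA z), b.p.φ.eπ]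
      simp
    rw [h3, one_pow, one_mul] at h2
    have e1 : n * k * n⁻¹ * (e z)⁻¹ * (n * k * n⁻¹)⁻¹ * e z = n * (k * (n⁻¹ * (e z)⁻¹ * n) * k⁻¹) * n⁻¹ * e z := by
      group
    rw [e1, h2] at h1
    have e2 : n * (e z * g z * (n⁻¹ * (e z)⁻¹ * n)) * n⁻¹ * e z = (n * e z * n⁻¹) * (n * g z * n⁻¹) := by group
    have e3 : n * g z * n⁻¹ = g z := fix_of_comm (hn.cen _ (b.gU z))
    rw [e2, e3] at h1
    have h4 := mul_mem h1 (inv_mem (hUW (b.gU z)))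
    rwa [mul_inv_cancel_right] at h4
  have hAW : A ≤ W := b.A_le hn heW hneW hUW
  have hAW' : A = W := Subgroup.eq_of_le_of_card_ge hAW (by rw [hW, Omega.BTwo.card_cj])
  have h1 : w * v * w⁻¹ ∈ A := by rw [hAW']; exact hwW v hv
  exact hhA _ h1

/-! ### (9b) -/

section nineB

variable [Finite F] (b : Base T T' L L' A A' U U' π π' e f g e' f' g') (c : Core T L A A' U U' π e g s)

include b c in
/-- `ker s = C_UU(A')` -/
theorem s_zero {u : G} (hu : u ∈ UG A U) : s u = 0 ↔ ∀ k ∈ A', k * u = u * k := by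
  constructor
  · intro h0 k hk
    obtain ⟨β, hβ⟩ := b.p.s.typ k hk
    obtain ⟨r, rfl⟩ := b.p.sq β
    have h1 := c.s_act r k hk hβ u hu
    rw [h0, mul_zero, mul_zero, b.p.φ.e0, b.p.φ.g0, one_mul, one_mul] at h1
    exact comm_of_fix h1
  · intro h
    obtain ⟨k, hk, hkI⟩ := b.exists_n 1
    have h1 := c.s_act 1 k hk hkI u hu
    rw [h k hk, mul_inv_cancel_right, one_pow, one_mul] at h1
    have h2 : e 0 * g 0 = e (s u) * g (s u) := by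
      rw [b.p.φ.e0, b.p.φ.g0, mul_one]
      exact (right_eq_mul.1 h1).symm
    exact (b.p.φ.eg_inj b.p.s.r h2).1.symm

/-- `C_UU(X)`, `X = ⟨A', n⁻¹ A' n⟩` -/
def K0 (A A' U : Subgroup G) (n : G) : Subgroup G :=
  UG A U ⊓ centralizer (A' : Set G) ⊓ centralizer ((Omega.BTwo.cj n⁻¹ A' : Subgroup G) : Set G)

theorem mem_K0 {n u : G} : u ∈ K0 A A' U n ↔ u ∈ UG A U ∧ (∀ k ∈ A', k * u = u * k) ∧
    ∀ k ∈ A', (n⁻¹ * k * n) * u = u * (n⁻¹ * k * n) := by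
  unfold K0
  rw [mem_inf, mem_inf, mem_centralizer_iff, mem_centralizer_iff]
  constructor
  · rintro ⟨⟨h1, h2⟩, h3⟩
    refine ⟨h1, fun k hk => h2 k hk, fun k hk => h3 _ ?_⟩
    have := Omega.BTwo.conj_mem_cj (g := n⁻¹) hk
    rwa [inv_inv] at this
  · rintro ⟨h1, h2, h3⟩
    refine ⟨⟨h1, fun k hk => h2 k hk⟩, fun y hy => ?_⟩
    have h4 := Omega.BTwo.mem_cj.1 hy
    rw [inv_inv] at h4
    have h5 := h3 _ h4
    have e1 : n⁻¹ * (n * y * n⁻¹) * n = y := by group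
    rwa [e1] at h5

include b c in
/-- `K0` by coordinates -/
theorem mem_K0_iff {n : G} (hn : Is L A U π n (wm 1 one_ne_zero)) {u : G} (hu : u ∈ UG A U) :
    u ∈ K0 A A' U n ↔ s u = 0 ∧ s (n * u * n⁻¹) = 0 := by
  have hnM : n ∈ centralizer (U : Set G) := mem_centralizer_iff.2 fun u hu => (hn.cen u hu).symm
  rw [mem_K0, s_zero b c hu, s_zero b c (c.MU n hnM u hu)]
  constructor
  · rintro ⟨-, h1, h2⟩
    refine ⟨h1, fun k hk => ?_⟩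
    have h3 := h2 k hk
    calc k * (n * u * n⁻¹) = n * (n⁻¹ * k * n * u) * n⁻¹ := by group
      _ = n * (u * (n⁻¹ * k * n)) * n⁻¹ := by rw [h3]
      _ = _ := by group
  · rintro ⟨h1, h2⟩
    refine ⟨hu, h1, fun k hk => ?_⟩
    have h3 := h2 k hk
    calc n⁻¹ * k * n * u = n⁻¹ * (k * (n * u * n⁻¹)) * n := by group
      _ = n⁻¹ * (n * u * n⁻¹ * k) * n := by rw [h3]
      _ = _ := by group

include b c in
/-- (9b): an element of `UU` is `e x · k` modulo `A`, `k ∈ K0` -/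
theorem dec_ker {n : G} (hn : Is L A U π n (wm 1 one_ne_zero)) {u : G} (hu : u ∈ UG A U) (h0 : s u = 0) :
    ∃ z : F, (e z)⁻¹ * u ∈ K0 A A' U n := by
  have hnM : n ∈ centralizer (U : Set G) := mem_centralizer_iff.2 fun u hu => (hn.cen u hu).symm
  refine ⟨s (n * u * n⁻¹), ?_⟩
  have h1 := c.MU n hnM u hu
  set z := s (n * u * n⁻¹) with hz
  have heU : (e z)⁻¹ ∈ UG A U := c.AU (inv_mem (b.eA z))
  have h2 : (e z)⁻¹ * u ∈ UG A U := mul_mem heU hu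
  rw [mem_K0_iff b c hn h2, c.s_add _ heU _ hu, h0, c.s_A _ (inv_mem (b.eA z)), b.p.s.r.map_inv (b.eA z), b.p.φ.eπ]
  refine ⟨by simp, ?_⟩
  have hne : n * (e z)⁻¹ * n⁻¹ ∈ A := b.p.s.r.Vn n hn.mem _ (inv_mem (b.eA z))
  have e1 : n * ((e z)⁻¹ * u) * n⁻¹ = (n * (e z)⁻¹ * n⁻¹) * (n * u * n⁻¹) := by group
  rw [e1, c.s_add _ (c.AU hne) _ h1, ← hz, c.s_A _ hne, b.pi_n hn (inv_mem (b.eA z)), b.p.s.r.map_inv (b.eA z),
    b.p.φ.eπ]
  simp

end nineB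

end Cfsg.Agent.Omega.IId.Ns
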