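import Cfsg.Agent.Omega.IId.Ns.CoreOf
import Cfsg.Agent.Omega.IId.Ns.NineA

/-!
# II.d, nonsplit, all `k`: the base over `V`, and (4)-(7)

`BaseV` : the configuration of the pair `(N₁, N₁')` for all `k, k'` (`A = N₁ ≤ V = V_P`, `A' = N₁' ≤ V' = V_{P'}`), no index
bound on `T`; (6) is a field (`six`).  `CoreV` : (4)-(7) on `UG V U = ⟨V ^ C_G(U)⟩`; `BaseV.exists_core`.
-/

set_option autoImplicit false
set_option linter.unusedSectionVars false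
set_option linter.unusedVariables false

namespace Cfsg.Agent.Omega.IId.Ns

open Subgroup Cfsg Cfsg.Agent.Lib.SL2Mat
open Cfsg.Agent.ZN (zc o2)
open Cfsg.Agent.MinSimple.VModule (mem_zc zc_le zc_sq o2_le o2_isPGroup le_normalizer_o2 le_o2)
open Cfsg.Agent.Omega.HOne.NSMod Cfsg.Agent.Omega.HOne.NSSide Cfsg.Agent.Omega.HOne.NSPair Cfsg.Agent.Omega.HOne.NSDat
open Cfsg.Agent.Omega.HOne.NSClaim (br br_mul_self br_mem br_mul claim)
open Cfsg.Agent.Omega.NatPair (ap ap_add ap_mul ap_one ap_inj ext2 ap_zero' ap_one' ap_inv_ap ap_ap_inv)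

universe u

variable {G : Type u} [Group G] {F : Type} [Field F]

/-- The configuration of the pair `(N₁, N₁')`, all `k, k'`. -/
structure BaseV (T T' L L' A A' V V' U U' : Subgroup G) (π π' : G → Fin 2 → F) (e f g e' f' g' : F → G) : Prop where
  p : PairF T T' L L' A A' U U' π π' e f g e' f' g' A A'
  c1 : ∀ z, ∃ y, e z = g' y
  c2 : ∀ z, ∃ y, e' z = g y
  g1 : ∀ y, g y = 1 → y = 0
  g1' : ∀ y, g' y = 1 → y = 0
  AV : A ≤ V
  AV' : A' ≤ V'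
  VZ : V ≤ zc (o2 (normalizer (U : Set G)))
  VZ' : V' ≤ zc (o2 (normalizer (U' : Set G)))
  OT : o2 (centralizer (U : Set G) ⊓ centralizer (U' : Set G)) ≤ T
  OT' : o2 (centralizer (U : Set G) ⊓ centralizer (U' : Set G)) ≤ T'
  six : ∀ x ∈ centralizer (U : Set G), (∀ u ∈ UG V U, br x u ∈ U) → ∀ v ∈ V, br x v = 1
  six' : ∀ x ∈ centralizer (U' : Set G), (∀ u ∈ UG V' U', br x u ∈ U') → ∀ v ∈ V', br x v = 1

/-- (4)-(7) over `V` -/
structure CoreV (L A A' V U U' : Subgroup G) (π : G → Fin 2 → F) (e g : F → G) (s : G → F) : Prop where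
  ab : ∀ x ∈ UG V U, ∀ y ∈ UG V U, x * y = y * x
  sq : ∀ x ∈ UG V U, x * x = 1
  VU : V ≤ UG V U
  UO : UG V U ≤ o2 (CC U U')
  MU : ∀ m ∈ centralizer (U : Set G), ∀ u ∈ UG V U, m * u * m⁻¹ ∈ UG V U
  s_add : ∀ u ∈ UG V U, ∀ v ∈ UG V U, s (u * v) = s u + s v
  s_A : ∀ a ∈ A, s a = π a 0
  s_act : ∀ t, ∀ n ∈ A', Is L A U π n (lo (t ^ 2)) → ∀ u ∈ UG V U, n * u * n⁻¹ = e (t ^ 2 * s u) * g (t * s u) * u
  s_conj : ∀ c ∈ CC U U', ∀ a ∈ A, s (c * a * c⁻¹) = π a 0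

variable {T T' L L' A A' V V' U U' : Subgroup G} {π π' : G → Fin 2 → F} {e f g e' f' g' : F → G}

/-- `k = 2` -/
theorem Base.toV [Finite G] (b : Base T T' L L' A A' U U' π π' e f g e' f' g') :
    BaseV T T' L L' A A' A A' U U' π π' e f g e' f' g' where
  p := b.p
  c1 := b.c1
  c2 := b.c2
  g1 := b.g1
  g1' := b.g1'
  AV := le_rfl
  AV' := le_rfl
  VZ := b.AZ
  VZ' := b.AZ'
  OT := b.OT
  OT' := b.OT'
  six x hx h v hv := CoreOf.hO2 b x hx h v (CoreOf.UG_self hv)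
  six' x hx h v hv := CoreOf.hO2 b.symm x hx h v (CoreOf.UG_self hv)

namespace BaseV

theorem symm (b : BaseV T T' L L' A A' V V' U U' π π' e f g e' f' g') :
    BaseV T' T L' L A' A V' V U' U π' π e' f' g' e f g where
  p := b.p.symm
  c1 := b.c2
  c2 := b.c1
  g1 := b.g1'
  g1' := b.g1
  AV := b.AV'
  AV' := b.AV
  VZ := b.VZ'
  VZ' := b.VZ
  OT := by rw [inf_comm]; exact b.OT'
  OT' := by rw [inf_comm]; exact b.OT
  six := b.six'
  six' := b.six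

variable (b : BaseV T T' L L' A A' V V' U U' π π' e f g e' f' g')

include b

theorem eU' (z : F) : e z ∈ U' := by
  obtain ⟨y, hy⟩ := b.c1 z
  rw [hy]; exact b.p.φ'.gD y

theorem gU (z : F) : g z ∈ U := b.p.φ.gD z

theorem eA (z : F) : e z ∈ A := b.p.φ.eV z
theorem fA (z : F) : f z ∈ A := b.p.φ.fV z
theorem gA (z : F) : g z ∈ A := b.p.s.r.DV (b.p.φ.gD z)

theorem UA : U ≤ A := b.p.s.r.DV

theorem mem_U_iff {x : G} : x ∈ U ↔ ∃ y, x = g y :=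
  ⟨fun hx => b.p.φ.ND x (b.p.s.r.DV hx) hx, by rintro ⟨y, rfl⟩; exact b.p.φ.gD y⟩

theorem mem_U'_iff [Finite F] {x : G} : x ∈ U' ↔ ∃ z, x = e z := by
  constructor
  · intro hx
    obtain ⟨y, rfl⟩ := b.symm.mem_U_iff.1 hx
    choose h hh using b.c1
    have hi : Function.Injective h := by
      intro z z' hz
      have h1 := hh z
      rw [hz, ← hh z'] at h1
      exact b.p.φ.e_inj b.p.s.r h1
    obtain ⟨z, rfl⟩ := Finite.surjective_of_injective hi y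
    exact ⟨z, (hh z).symm⟩
  · rintro ⟨z, rfl⟩
    exact b.eU' z

theorem U'A [Finite F] : U' ≤ A := by
  intro x hx
  obtain ⟨z, rfl⟩ := b.mem_U'_iff.1 hx
  exact b.eA z

/-- `A` is commutative -/
theorem Ac {x y : G} (hx : x ∈ A) (hy : y ∈ A) : x * y = y * x := b.p.s.r.Vc x hx y hy

theorem A'c {x y : G} (hx : x ∈ A') (hy : y ∈ A') : x * y = y * x := b.p.s'.r.Vc x hx y hy

theorem Ai {x : G} (hx : x ∈ A) : x⁻¹ = x := b.p.s.r.inv hx

/-- `A' ≤ C_G(U U')` -/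
theorem A'C : A' ≤ CC U U' := by
  intro n hn
  obtain ⟨β, hβ⟩ := b.p.s.typ n hn
  exact ⟨mem_centralizer_iff.2 fun u hu => (hβ.cen u hu).symm,
    mem_centralizer_iff.2 fun u hu => b.A'c (b.p.s'.r.DV hu) hn⟩

theorem AC [Finite F] : A ≤ CC U U' := fun x hx =>
  ⟨mem_centralizer_iff.2 fun u hu => b.Ac (b.UA hu) hx, mem_centralizer_iff.2 fun u hu => b.Ac (b.U'A hu) hx⟩

/-- `T ∩ C` acts on `A` as `A'` -/
theorem tau {x : G} (hx : x ∈ T) (hc : x ∈ CC U U') :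
    ∃ t : F, ∀ v ∈ A, x * v * x⁻¹ = e (t ^ 2 * π v 0) * g (t * π v 0) * v :=
  act_of b.p hx fun z => cc_r hc (b.eU' z)

/-- `O₂(C)` acts on `A` as `A'` -/
theorem tauO {x : G} (hx : x ∈ o2 (CC U U')) :
    ∃ t : F, ∀ v ∈ A, x * v * x⁻¹ = e (t ^ 2 * π v 0) * g (t * π v 0) * v :=
  b.tau (b.OT hx) (o2_le _ hx)

theorem exists_n (t : F) : ∃ n ∈ A', Is L A U π n (lo (t ^ 2)) := b.p.s.full (t ^ 2)

theorem act_n {t : F} {n : G} (hn : Is L A U π n (lo (t ^ 2))) {v : G} (hv : v ∈ A) :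
    n * v * n⁻¹ = e (t ^ 2 * π v 0) * g (t * π v 0) * v := b.p.φ.act t n hn v hv

/-- the Weyl element -/
theorem exists_wm : ∃ n, Is L A U π n (wm 1 one_ne_zero) := b.p.s.r.is_lift _

theorem pi_n {n : G} (hn : Is L A U π n (wm 1 one_ne_zero)) {v : G} (hv : v ∈ A) :
    π (n * v * n⁻¹) = ![π v 1, - π v 0] := by
  rw [hn.act v hv, ap_wm]
  apply ext2 <;> simp

/-- an element of `A` with `π = 0` is in `U` -/
theorem mem_U {v : G} (hv : v ∈ A) (h : π v = 0) : v ∈ U := (b.p.s.r.ker v hv).1 h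

/-- `A = n e(F) n⁻¹ · e(F) · U` -/
theorem A_le {W : Subgroup G} {n : G} (hn : Is L A U π n (wm 1 one_ne_zero)) (h1 : ∀ z, e z ∈ W)
    (h2 : ∀ z, n * e z * n⁻¹ ∈ W) (h3 : U ≤ W) : A ≤ W := by
  intro a ha
  have hne : ∀ z, n * e z * n⁻¹ ∈ A := fun z => b.p.s.r.Vn n hn.mem _ (b.eA z)
  have h4 : (n * e (π a 0) * n⁻¹)⁻¹ * (a * (e (π a 1))⁻¹) ∈ U := by
    refine b.mem_U (mul_mem (inv_mem (hne _)) (mul_mem ha (inv_mem (b.eA _)))) ?_
    rw [b.p.s.r.mul _ (inv_mem (hne _)) _ (mul_mem ha (inv_mem (b.eA _))), b.p.s.r.mul _ ha _ (inv_mem (b.eA _)),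
      b.p.s.r.map_inv (hne _), b.p.s.r.map_inv (b.eA _), b.pi_n hn (b.eA _), b.p.φ.eπ, b.p.φ.eπ]
    apply ext2 <;> simp [Matrix.vecHead, Matrix.vecTail]
  have e1 : a = (n * e (π a 0) * n⁻¹) * ((n * e (π a 0) * n⁻¹)⁻¹ * (a * (e (π a 1))⁻¹)) * e (π a 1) := by group
  rw [e1]
  exact mul_mem (mul_mem (h2 _) (h3 h4)) (h1 _)

/-- an element of `A` with `π · 0 = 0` is in `U' U` -/
theorem exists_eg {v : G} (hv : v ∈ A) (h0 : π v 0 = 0) : ∃ x ∈ U, ∃ x' ∈ U', v = x * x' := by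
  have r := b.p.s.r
  have φ := b.p.φ
  have h1 : v * (e (π v 1))⁻¹ ∈ U := (r.ker _ (mul_mem hv (inv_mem (φ.eV _)))).1 (by
    rw [r.mul _ hv _ (inv_mem (φ.eV _)), r.map_inv (φ.eV _), φ.eπ]
    apply ext2
    · simp [h0]
    · simp)
  exact ⟨_, h1, _, b.eU' (π v 1), by group⟩

/-- elements of `CC` commute with `C_A(A') = e(F) U` -/
theorem cc_comm {c : G} (hc : c ∈ CC U U') {u : G} (hu : u ∈ A) (h0 : π u 0 = 0) : c * u = u * c := by
  obtain ⟨x, hx, x', hx', rfl⟩ := b.exists_eg hu h0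
  have h1 := cc_l hc hx
  have h2 := cc_r hc hx'
  calc c * (x * x') = (c * x) * x' := by group
    _ = x * (c * x') := by rw [h1]; group
    _ = x * x' * c := by rw [h2]; group

/-- a subgroup containing the commutators `e (t² z) g (t z)` contains `e(F)` and `g(F)` -/
theorem eg_le {K : Subgroup G} (h : ∀ t z, e (t ^ 2 * z) * g (t * z) ∈ K) : (∀ z, e z ∈ K) ∧ ∀ z, g z ∈ K := by
  obtain ⟨ω, h0, h1⟩ := b.p.ω
  have hg : ∀ z, g z ∈ K := by
    intro z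
    have hω : 1 - ω⁻¹ ≠ 0 := sub_ne_zero.2 fun h => h1 (inv_eq_one.1 h.symm)
    set x := z / (1 - ω⁻¹) with hx
    have h2 := h 1 x
    have h3 := h ω (x / ω ^ 2)
    have e1 : ω ^ 2 * (x / ω ^ 2) = x := by field_simp
    have e2 : ω * (x / ω ^ 2) = ω⁻¹ * x := by field_simp
    rw [e1, e2] at h3
    rw [one_pow, one_mul] at h2
    have h4 := mul_mem (inv_mem h3) h2
    have e3 : (e x * g (ω⁻¹ * x))⁻¹ * (e x * g x) = (g (ω⁻¹ * x))⁻¹ * g x := by group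
    rw [e3] at h4
    have h5 := b.p.φ.g_add (ω⁻¹ * x) z
    have e4 : ω⁻¹ * x + z = x := by
      rw [hx]
      field_simp
      ring
    rw [e4] at h5
    rwa [h5, inv_mul_cancel_left] at h4
  refine ⟨fun z => ?_, hg⟩
  have h2 := mul_mem (h 1 z) (inv_mem (hg (1 * z)))
  rwa [one_pow, one_mul, mul_inv_cancel_right] at h2

/-! ### (4)-(7) -/

/-- `UU` is contained in `Ω₁ Z(O₂(N_G(U)))` -/
theorem UG_le_zc : UG V U ≤ zc (o2 (normalizer (U : Set G))) :=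
  CoreOf.UG_le fun _ hm _ ha => CoreOf.zc_conj (CoreOf.centralizer_le_norm U hm) (b.VZ ha)

theorem ab : ∀ x ∈ UG V U, ∀ y ∈ UG V U, x * y = y * x :=
  fun _ hx _ hy => (mem_zc.1 (b.UG_le_zc hy)).2.1 _ (zc_le _ (b.UG_le_zc hx))

theorem sq : ∀ x ∈ UG V U, x * x = 1 := fun x hx => by
  rw [← pow_two]
  exact zc_sq _ _ (b.UG_le_zc hx)

theorem A_UG : A ≤ UG V U := b.AV.trans CoreOf.UG_self

theorem UG_cent : UG V U ≤ centralizer (U : Set G) := fun _ hx =>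
  mem_centralizer_iff.2 fun _ hy => b.ab _ (b.A_UG (b.UA hy)) _ hx

theorem isPGroup_UG : IsPGroup 2 (UG V U) := fun x => by
  refine ⟨1, ?_⟩
  apply Subtype.ext
  rw [pow_one, pow_two]
  exact b.sq _ x.2

theorem UG_le_o2 [Finite F] : UG V U ≤ o2 (CC U U') := by
  refine le_o2 (le_inf b.UG_cent fun x hx => mem_centralizer_iff.2 fun y hy =>
    b.ab _ (b.A_UG (b.U'A hy)) _ hx) b.isPGroup_UG ?_
  intro c hc
  rw [mem_normalizer_iff]
  intro u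
  refine ⟨fun hu => CoreOf.UG_conjM hc.1 hu, fun hu => ?_⟩
  have := CoreOf.UG_conjM (inv_mem hc.1) hu
  have e1 : c⁻¹ * (c * u * c⁻¹) * c⁻¹⁻¹ = u := by group
  rwa [e1] at this

/-- every element of `UU` acts on `A'` as some element of `A` -/
theorem exists_s [Finite F] {u : G} (hu : u ∈ UG V U) : ∃ a ∈ A, ∀ v ∈ A', u * v * u⁻¹ = a * v * a⁻¹ := by
  obtain ⟨t, ht⟩ := act_of b.p.symm (b.OT' (b.UG_le_o2 hu)) (fun z => by
    obtain ⟨y, hy⟩ := b.c2 z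
    rw [hy]
    exact b.ab _ hu _ (b.A_UG (b.gA y)))
  obtain ⟨a, ha, hal⟩ := b.p.s'.full (t ^ 2)
  exact ⟨a, ha, fun v hv => by rw [ht v hv, b.p.φ'.act t a hal v hv]⟩

/-- **(6)** -/
theorem hO2 : ∀ x ∈ centralizer (U : Set G), (∀ u ∈ UG V U, br x u ∈ U) → ∀ u ∈ UG V U, br x u = 1 := by
  intro x hx h u hu
  have h1 : UG V U ≤ centralizer ({x} : Set G) := CoreOf.UG_le fun m hm a ha => by
    rw [mem_centralizer_iff]
    intro y hy
    rw [Set.mem_singleton_iff.1 hy]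
    have h2 : m⁻¹ * x * m ∈ CoreOf.XX V U := by
      have := CoreOf.XX_conjM (inv_mem hm) (show x ∈ CoreOf.XX V U from ⟨hx, h⟩)
      rwa [inv_inv] at this
    have h3 := b.six _ h2.1 h2.2 a ha
    unfold br at h3
    have h4 : m⁻¹ * x * m * a = a * (m⁻¹ * x * m) := by
      rw [mul_inv_eq_one] at h3
      exact mul_inv_eq_iff_eq_mul.1 h3
    calc x * (m * a * m⁻¹) = m * (m⁻¹ * x * m * a) * m⁻¹ := by group
      _ = m * (a * (m⁻¹ * x * m)) * m⁻¹ := by rw [h4]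
      _ = _ := by group
  have h2 := mem_centralizer_iff.1 (h1 hu) x rfl
  unfold br
  rw [h2, mul_inv_cancel_right, mul_inv_cancel]

/-- THEOREM NS (5) -/
theorem exists_ne [Finite G] [Finite F] {s : G → F}
    (hs : ∀ u ∈ UG V U, ∀ v ∈ UG V U, s (u * v) = s u + s v) (hsA : ∀ a ∈ A, s a = π a 0)
    (hact : ∀ t, ∀ n ∈ A', Is L A U π n (lo (t ^ 2)) → ∀ u ∈ UG V U, n * u * n⁻¹ = e (t ^ 2 * s u) * g (t * s u) * u)
    {c : G} (hc : c ∈ CC U U') : ∃ u ∈ A, s (c * u * c⁻¹) ≠ 0 := by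
  have r := b.p.s.r
  have φ := b.p.φ
  have : CharP F 2 := CharTwo.of_one_ne_zero_of_two_eq_zero one_ne_zero r.two
  by_contra hcon
  push Not at hcon
  obtain ⟨n, hn⟩ := r.is_lift (wm (1 : F) one_ne_zero)
  choose nn hnn hnI using fun t : F => b.p.s.full (t ^ 2)
  have hnM : n ∈ centralizer (U : Set G) := mem_centralizer_iff.2 fun d hd => (hn.cen d hd).symm
  refine claim (A := UG V U) (U := U) (R := A ⊓ centralizer (A' : Set G)) (N := A) (M := centralizer (U : Set G))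
    b.ab (fun x hx u hu => CoreOf.UG_conjM hx hu) (fun x hx u hu => (mem_centralizer_iff.1 hx u hu).symm) ?_ inf_le_left
    b.A_UG b.hO2 hs ?_ (e := e) (f := fun x => n * e x * n⁻¹) (g := g) ?_ φ.gD ?_ φ.e_add φ.g_add b.g1 ?_ (nn := nn)
    ?_ ?_ (c := c) (n := n) hc.1 ?_ (fun x => rfl) ?_ ?_ b.p.ω hcon
  · intro u hu
    refine ⟨r.DV hu, mem_centralizer_iff.2 ((b.p.s.cen u (r.DV hu)).2 ?_)⟩
    rw [(r.ker u (r.DV hu)).2 hu]; rfl
  · rintro u ⟨hu, huc⟩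
    rw [hsA u hu]
    exact (b.p.s.cen u hu).1 (mem_centralizer_iff.1 huc)
  · intro x
    refine ⟨φ.eV x, mem_centralizer_iff.2 ((b.p.s.cen _ (φ.eV x)).2 ?_)⟩
    rw [φ.eπ]; rfl
  · intro x
    exact r.Vn n hn.mem _ (φ.eV x)
  · intro x
    rw [hsA _ (r.Vn n hn.mem _ (φ.eV x)), hn.act _ (φ.eV x), φ.eπ, ap_wm]
    simp
  · intro t
    exact mem_centralizer_iff.2 fun d hd => ((hnI t).cen d hd).symm
  · intro t u hu
    unfold br
    rw [hact t _ (hnn t) (hnI t) u hu, mul_inv_cancel_right, mul_comm (s u), mul_comm (s u)]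
  · rintro u ⟨hu, huc⟩
    exact b.cc_comm hc hu ((b.p.s.cen u hu).1 (mem_centralizer_iff.1 huc))
  · exact mul_mem (mul_mem hc.1 hnM) (inv_mem hc.1)
  · intro u hu
    have := r.Vn n⁻¹ (inv_mem hn.mem) u hu
    rwa [inv_inv] at this

/-- **(4)-(7)** -/
theorem exists_core [Finite G] [Finite F] : ∃ s : G → F, CoreV L A A' V U U' π e g s := by
  classical
  have r := b.p.s.r
  have r' := b.p.s'.r
  have φ := b.p.φ
  let s : G → F := fun u => if h : u ∈ UG V U then π (b.exists_s h).choose 0 else 0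
  have hss : ∀ u ∈ UG V U, ∀ a ∈ A, (∀ v ∈ A', u * v * u⁻¹ = a * v * a⁻¹) → s u = π a 0 := by
    intro u hu a ha h
    have h0 : s u = π (b.exists_s hu).choose 0 := dif_pos hu
    obtain ⟨h1, h2⟩ := (b.exists_s hu).choose_spec
    rw [h0]
    obtain ⟨a0, ha0⟩ : ∃ a0, a0 = (b.exists_s hu).choose := ⟨_, rfl⟩
    rw [← ha0] at h1 h2 ⊢
    have h3 : π (a0⁻¹ * a) 0 = 0 := (b.p.s.cen _ (mul_mem (inv_mem h1) ha)).1 fun v hv => by
      have h4 : a * v * a⁻¹ = a0 * v * a0⁻¹ := by rw [← h v hv, h2 v hv]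
      calc v * (a0⁻¹ * a) = a0⁻¹ * (a0 * v * a0⁻¹) * a := by group
        _ = a0⁻¹ * (a * v * a⁻¹) * a := by rw [h4]
        _ = _ := by group
    rw [r.mul _ (inv_mem h1) _ ha, r.map_inv h1] at h3
    have h5 : - π a0 0 + π a 0 = 0 := h3
    exact (neg_add_eq_zero.1 h5)
  have hex : ∀ u ∈ UG V U, ∃ a ∈ A, (∀ v ∈ A', u * v * u⁻¹ = a * v * a⁻¹) ∧ s u = π a 0 := by
    intro u hu
    obtain ⟨a, ha, h⟩ := b.exists_s hu
    exact ⟨a, ha, h, hss u hu a ha h⟩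
  have s_add : ∀ u ∈ UG V U, ∀ v ∈ UG V U, s (u * v) = s u + s v := by
    intro u hu v hv
    obtain ⟨a, ha, h1, h2⟩ := hex u hu
    obtain ⟨c, hc, h3, h4⟩ := hex v hv
    rw [h2, h4, hss (u * v) (mul_mem hu hv) (a * c) (mul_mem ha hc) fun w hw => ?_, r.mul a ha c hc]
    · rfl
    · have h5 : c * w * c⁻¹ ∈ A' := r'.Vn c (b.p.s'.SP (b.p.s'.AS hc)) w hw
      calc u * v * w * (u * v)⁻¹ = u * (v * w * v⁻¹) * u⁻¹ := by group
        _ = a * (c * w * c⁻¹) * a⁻¹ := by rw [h3 w hw, h1 _ h5]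
        _ = _ := by group
  have s_A : ∀ a ∈ A, s a = π a 0 := fun a ha => hss a (b.A_UG ha) a ha fun _ _ => rfl
  have s_act : ∀ t, ∀ n ∈ A', Is L A U π n (lo (t ^ 2)) → ∀ u ∈ UG V U,
      n * u * n⁻¹ = e (t ^ 2 * s u) * g (t * s u) * u := by
    intro t n hn hnI u hu
    obtain ⟨a, ha, h1, h2⟩ := hex u hu
    have h3 := φ.act t n hnI a ha
    rw [h2]
    have h4 : u * n⁻¹ * u⁻¹ = a * n⁻¹ * a⁻¹ := h1 _ (inv_mem hn)
    calc n * u * n⁻¹ = n * (u * n⁻¹ * u⁻¹) * u := by group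
      _ = n * a * n⁻¹ * a⁻¹ * u := by rw [h4]; group
      _ = _ := by rw [h3, mul_inv_cancel_right]
  refine ⟨s, b.ab, b.sq, CoreOf.UG_self, b.UG_le_o2, fun m hm u hu => CoreOf.UG_conjM hm hu, s_add, s_A, s_act, ?_⟩
  intro c hc a ha
  obtain ⟨u, hu, hu0⟩ := b.exists_ne s_add s_A s_act hc
  obtain ⟨n, hn, hnI⟩ := b.p.s.full ((1 : F) ^ 2)
  -- `c⁻¹ n c` acts on `A` with a parameter `τ`
  have hcU : ∀ z, c * g z = g z * c := fun z => (mem_centralizer_iff.1 hc.1 _ (φ.gD z)).symm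
  have hcE : ∀ z, c * e z = e z * c := fun z => (mem_centralizer_iff.1 hc.2 _ (b.mem_U'_iff.2 ⟨z, rfl⟩)).symm
  have hnT : c⁻¹ * n * c ∈ T := by
    refine b.OT ?_
    have h1 := b.symm.UG_le_o2 (b.symm.A_UG hn)
    have h2 : n ∈ o2 (CC U U') := by rw [CC, inf_comm]; exact h1
    have h3 := (mem_normalizer_iff.1 (le_normalizer_o2 (CC U U') (inv_mem hc)) n).1 h2
    rwa [inv_inv] at h3
  have hnE : ∀ z, c⁻¹ * n * c * e z = e z * (c⁻¹ * n * c) := by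
    intro z
    have h1 : n * e z = e z * n := ((b.p.s.cen _ (φ.eV z)).2 (by rw [φ.eπ]; rfl)) n hn
    calc c⁻¹ * n * c * e z = c⁻¹ * n * (c * e z) := by group
      _ = c⁻¹ * (n * e z) * c := by rw [hcE]; group
      _ = c⁻¹ * (e z * n) * c := by rw [h1]
      _ = c⁻¹ * (e z * c) * (c⁻¹ * n * c) := by group
      _ = c⁻¹ * (c * e z) * (c⁻¹ * n * c) := by rw [hcE]
      _ = _ := by group
  obtain ⟨τ, hτ⟩ := act_of b.p hnT hnE
  have hkey : ∀ v ∈ A, s (c * v * c⁻¹) = τ ^ 2 * π v 0 ∧ s (c * v * c⁻¹) = τ * π v 0 := by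
    intro v hv
    have h1 := s_act 1 n hn hnI (c * v * c⁻¹) (CoreOf.UG_conjM hc.1 (b.A_UG hv))
    have h2 := hτ v hv
    simp only [one_pow, one_mul] at h1
    have h3 : e (s (c * v * c⁻¹)) * g (s (c * v * c⁻¹)) = e (τ ^ 2 * π v 0) * g (τ * π v 0) := by
      have h4 : c⁻¹ * n * c * v * (c⁻¹ * n * c)⁻¹ * v⁻¹ = c⁻¹ * (n * (c * v * c⁻¹) * n⁻¹ * (c * v * c⁻¹)⁻¹) * c := by
        group
      rw [h2, h1, mul_inv_cancel_right, mul_inv_cancel_right] at h4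
      rw [h4]
      calc _ = c⁻¹ * (c * e (s (c * v * c⁻¹)) * g (s (c * v * c⁻¹))) := by group
        _ = c⁻¹ * (e (s (c * v * c⁻¹)) * (c * g (s (c * v * c⁻¹)))) := by rw [hcE]; group
        _ = _ := by rw [hcU]; group
    obtain ⟨h5, h6⟩ := φ.eg_inj r h3
    refine ⟨h5, ?_⟩
    have h7 : g (s (c * v * c⁻¹) - τ * π v 0) = 1 := by
      have h8 := φ.g_add (s (c * v * c⁻¹) - τ * π v 0) (τ * π v 0)
      rw [sub_add_cancel, h6] at h8
      exact right_eq_mul.1 h8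
    exact sub_eq_zero.1 (b.g1 _ h7)
  obtain ⟨h1, h2⟩ := hkey u hu
  have hτ1 : τ = 1 := by
    have h3 : τ * π u 0 ≠ 0 := h2 ▸ hu0
    have h4 : τ * (τ * π u 0) = 1 * (τ * π u 0) := by
      rw [one_mul, ← mul_assoc, ← pow_two, ← h1, h2]
    exact mul_right_cancel₀ h3 h4
  have h5 := (hkey a ha).2
  rw [hτ1, one_mul] at h5
  exact h5

end BaseV

end Cfsg.Agent.Omega.IId.Ns
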