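import Cfsg.Agent.Omega.IId.Cv.Split
import Cfsg.Agent.Omega.HOne.NSPair

/-!
# II.d, `k = 2`, nonsplit (`WrCv`): definitions

`M : NatK F S P V D k`, `V = zl S P`, `D = cv S P`.

* `Fc M i` : the elements of `P` which act on the `i`-th factor of `V / D` only, by an element of `SL₂(F)`, and centralise `D`;
* `Tc M i` : the stabiliser of the `i`-th factor in `S`;
* `Nc M i = [V, Fc M i]`, `Uc M i = Nc M i ∩ D`;
* `Qc M i = C_{Tc M i}(Nc M i)`, `Ec M i = N_{Fc M i}(Qc M i)`, `Lc M i = ⟨Tc M i, Ec M i⟩`;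
* `Base` : the abstract configuration of the pair `(N₁, N₁')`, with `L`, `T`, `A = N₁`, `U = U₁`, ...
-/

set_option autoImplicit false
set_option linter.unusedSectionVars false

namespace Cfsg.Agent.Omega.IId.Ns

open Subgroup Cfsg Cfsg.Agent.ZN Cfsg.Agent.ZN.ChoiceSit Cfsg.Agent.ZN.ChoiceBase Cfsg.Agent.Omega.MinPar
open Cfsg.Agent.Omega.FrameFF Cfsg.Agent.Omega.FFThm Cfsg.Agent.Lib.SL2Mat
open Cfsg.Agent.Omega.NatPair (ap ap_add ap_mul ap_one ap_inj ext2 ap_zero' ap_one' ap_inv_ap ap_ap_inv)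
open Cfsg.Agent.Omega.HOne (cv_le conj_mem_zl conj_mem_cv)
open Cfsg.Agent.Omega.IId.Cv

universe u

variable {G : Type u} [Group G] {F : Type} [Field F]

section fac

variable {S P : Subgroup G} {k : ℕ} (M : NatK F S P (zl S P) (cv S P) k)

/-- The element of `SL₂(F)^k` which is `B` in place `i`. -/
def one1 {k : ℕ} (i : Fin k) (B : Matrix.SpecialLinearGroup (Fin 2) F) :
    Fin k → Matrix.SpecialLinearGroup (Fin 2) F := Function.update (fun _ => 1) i B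

theorem one1_same {k : ℕ} (i : Fin k) (B : Matrix.SpecialLinearGroup (Fin 2) F) : one1 i B i = B :=
  Function.update_self _ _ _

theorem one1_ne {k : ℕ} {i j : Fin k} (h : j ≠ i) (B : Matrix.SpecialLinearGroup (Fin 2) F) : one1 i B j = 1 :=
  Function.update_of_ne h _ _

theorem one1_one {k : ℕ} (i : Fin k) : one1 i (1 : Matrix.SpecialLinearGroup (Fin 2) F) = fun _ => 1 :=
  Function.update_eq_self _ _

theorem one1_mul {k : ℕ} (i : Fin k) (A B : Matrix.SpecialLinearGroup (Fin 2) F) (j : Fin k) :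
    one1 i A j * one1 i B j = one1 i (A * B) j := by
  by_cases h : j = i
  · subst h; rw [one1_same, one1_same, one1_same]
  · rw [one1_ne h, one1_ne h, one1_ne h, one_mul]

theorem acts_one : ActsSL M.e (zl S P) (cv S P) 1 (fun _ => 1) :=
  ⟨fun v _ i => by rw [one_mul, inv_one, mul_one, ap_one], fun d _ => by rw [one_mul, mul_one]⟩

theorem acts_mul {x y : G} (hx : x ∈ P) (hy : y ∈ P) {A B : Fin k → Matrix.SpecialLinearGroup (Fin 2) F}
    (hA : ActsSL M.e (zl S P) (cv S P) x A) (hB : ActsSL M.e (zl S P) (cv S P) y B) :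
    ActsSL M.e (zl S P) (cv S P) (x * y) (fun i => A i * B i) := by
  refine ⟨fun v hv i => ?_, fun d hd => ?_⟩
  · have e : x * y * v * (x * y)⁻¹ = x * (y * v * y⁻¹) * x⁻¹ := by group
    rw [e, hA.1 _ (conj_mem_zl hy hv), hB.1 v hv, ap_mul]
  · rw [mul_assoc, hB.2 d hd, ← mul_assoc, hA.2 d hd, mul_assoc]

theorem acts_inv {x : G} (hx : x ∈ P) {A : Fin k → Matrix.SpecialLinearGroup (Fin 2) F}
    (hA : ActsSL M.e (zl S P) (cv S P) x A) :
    ActsSL M.e (zl S P) (cv S P) x⁻¹ (fun i => (A i)⁻¹) := by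
  refine ⟨fun v hv i => ?_, fun d hd => ?_⟩
  · have h1 := hA.1 _ (conj_mem_zl (inv_mem hx) hv) i
    have e : x * (x⁻¹ * v * x⁻¹⁻¹) * x⁻¹ = v := by group
    rw [e] at h1
    rw [h1, ap_inv_ap]
  · have h1 := hA.2 d hd
    calc x⁻¹ * d = x⁻¹ * (d * x) * x⁻¹ := by group
      _ = x⁻¹ * (x * d) * x⁻¹ := by rw [h1]
      _ = d * x⁻¹ := by group

/-- The elements of `P` acting on the `i`-th factor only. -/
def Fc (i : Fin k) : Subgroup G where
  carrier := {x | x ∈ P ∧ ∃ B, ActsSL M.e (zl S P) (cv S P) x (one1 i B)}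
  one_mem' := ⟨one_mem _, 1, by rw [one1_one]; exact acts_one M⟩
  mul_mem' := by
    rintro x y ⟨hx, A, hA⟩ ⟨hy, B, hB⟩
    refine ⟨mul_mem hx hy, A * B, ?_⟩
    have h := acts_mul M hx hy hA hB
    rwa [show (fun j => one1 i A j * one1 i B j) = one1 i (A * B) from funext (one1_mul i A B)] at h
  inv_mem' := by
    rintro x ⟨hx, A, hA⟩
    refine ⟨inv_mem hx, A⁻¹, ?_⟩
    have h := acts_inv M hx hA
    have e : (fun j => (one1 i A j)⁻¹) = one1 i A⁻¹ := by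
      funext j
      by_cases h : j = i
      · subst h; rw [one1_same, one1_same]
      · rw [one1_ne h, one1_ne h, inv_one]
    rwa [e] at h

theorem mem_Fc {i : Fin k} {x : G} :
    x ∈ Fc M i ↔ x ∈ P ∧ ∃ B, ActsSL M.e (zl S P) (cv S P) x (one1 i B) := Iff.rfl

/-- The stabiliser of the `i`-th factor in `S`. -/
def Tc (i : Fin k) : Subgroup G where
  carrier := {t | (t ∈ S ∧ t ∈ P) ∧ ∀ v ∈ zl S P, M.e (t * v * t⁻¹) i = 0 ↔ M.e v i = 0}
  one_mem' := ⟨⟨one_mem _, one_mem _⟩, fun v _ => by rw [one_mul, inv_one, mul_one]⟩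
  mul_mem' := by
    rintro x y ⟨hx, hx'⟩ ⟨hy, hy'⟩
    refine ⟨⟨mul_mem hx.1 hy.1, mul_mem hx.2 hy.2⟩, fun v hv => ?_⟩
    have e : x * y * v * (x * y)⁻¹ = x * (y * v * y⁻¹) * x⁻¹ := by group
    rw [e, hx' _ (conj_mem_zl hy.2 hv), hy' v hv]
  inv_mem' := by
    rintro x ⟨hx, hx'⟩
    refine ⟨⟨inv_mem hx.1, inv_mem hx.2⟩, fun v hv => ?_⟩
    have h1 := hx' _ (conj_mem_zl (inv_mem hx.2) hv)
    have e : x * (x⁻¹ * v * x⁻¹⁻¹) * x⁻¹ = v := by group
    rw [e] at h1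
    exact h1.symm

theorem mem_Tc {i : Fin k} {t : G} :
    t ∈ Tc M i ↔ (t ∈ S ∧ t ∈ P) ∧ ∀ v ∈ zl S P, M.e (t * v * t⁻¹) i = 0 ↔ M.e v i = 0 := Iff.rfl

/-- `N_i = [V, Fc i]`. -/
def Nc (i : Fin k) : Subgroup G := closure {y | ∃ x ∈ Fc M i, ∃ v ∈ zl S P, y = x * v * x⁻¹ * v⁻¹}

/-- `U_i = N_i ∩ D`. -/
def Uc (i : Fin k) : Subgroup G := Nc M i ⊓ cv S P

/-- `Q_i = C_{T_i}(N_i)`. -/
def Qc (i : Fin k) : Subgroup G := Tc M i ⊓ centralizer (Nc M i : Set G)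

/-- `N_{Fc i}(Q_i)`. -/
def Ec (i : Fin k) : Subgroup G := Fc M i ⊓ normalizer (Qc M i : Set G)

/-- `L_i`. -/
def Lc (i : Fin k) : Subgroup G := Tc M i ⊔ Ec M i

end fac

/-! ### The abstract configuration -/

open Cfsg.Agent.Omega.HOne.NSMod Cfsg.Agent.Omega.HOne.NSSide Cfsg.Agent.Omega.HOne.NSPair

/-- `L ≤ H` of characteristic 2 ==> `A ≤ Ω₁(Z(O₂(H)))`. -/
def Half (L A : Subgroup G) : Prop :=
  ∀ H : Subgroup G, L ≤ H → H ⊓ centralizer (o2 H : Set G) ≤ o2 H → A ≤ zc (o2 H)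

/-- The configuration after (5): `A = N₁`, `U = U₁ = g(F) = e'(F)`, `U' = U₁' = g'(F) = e(F)`, `T = N_S(N₁)` of index at
most 2 in the Sylow 2-subgroups, `O₂(C_G(U U')) ≤ T ∩ T'`. -/
structure Base (T T' L L' A A' U U' : Subgroup G) (π π' : G → Fin 2 → F) (e f g e' f' g' : F → G) : Prop where
  p : PairF T T' L L' A A' U U' π π' e f g e' f' g' A A'
  c1 : ∀ z, ∃ y, e z = g' y
  c2 : ∀ z, ∃ y, e' z = g y
  g1 : ∀ y, g y = 1 → y = 0
  g1' : ∀ y, g' y = 1 → y = 0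
  T2 : IsPGroup 2 T
  T2' : IsPGroup 2 T'
  two : ∀ X : Subgroup G, IsPGroup 2 X → T ≤ X → Nat.card X ≤ 2 * Nat.card T
  two' : ∀ X : Subgroup G, IsPGroup 2 X → T' ≤ X → Nat.card X ≤ 2 * Nat.card T'
  QL : L ≤ normalizer (T ⊓ centralizer (A : Set G) : Set G)
  QL' : L' ≤ normalizer (T' ⊓ centralizer (A' : Set G) : Set G)
  AZ : A ≤ zc (o2 (normalizer (U : Set G)))
  AZ' : A' ≤ zc (o2 (normalizer (U' : Set G)))
  OT : o2 (centralizer (U : Set G) ⊓ centralizer (U' : Set G)) ≤ T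
  OT' : o2 (centralizer (U : Set G) ⊓ centralizer (U' : Set G)) ≤ T'

theorem Base.symm {T T' L L' A A' U U' : Subgroup G} {π π' : G → Fin 2 → F} {e f g e' f' g' : F → G}
    (h : Base T T' L L' A A' U U' π π' e f g e' f' g') : Base T' T L' L A' A U' U π' π e' f' g' e f g where
  p := h.p.symm
  c1 := h.c2
  c2 := h.c1
  g1 := h.g1'
  g1' := h.g1
  T2 := h.T2'
  T2' := h.T2
  two := h.two'
  two' := h.two
  QL := h.QL'
  QL' := h.QL
  AZ := h.AZ'
  AZ' := h.AZ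
  OT := by rw [inf_comm]; exact h.OT'
  OT' := by rw [inf_comm]; exact h.OT

end Cfsg.Agent.Omega.IId.Ns
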