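import Cfsg.Agent.Omega.IId.Ns.BaseV
import Cfsg.Agent.Omega.IId.Ns.End
import Cfsg.Agent.RankTwoClose.UFour.Tools
import Cfsg.Agent.Omega.NOne.LemmaT

/-!
# II.d, nonsplit, all `k`: the end, without (8), (9)

`C = CC U U' = C_G(U U')`, `Y = ⟨A ^ C⟩`, `OO A U U' = O₂(C_G(Y))`, `X = ⟨A' ^ X⟩` inducing `SL₂` on `A`.
`OO A ∩ OO A' = U U' F₀` with `F₀` centralised by `X` and `X'`; `H = C_G(F₀)`: `O₂(H) ∩ C ≤ O₂(C)`.

`BaseV.false_of` : no `BaseV` with `V ∩ C_G(A') > U U'` in a group of characteristic 2 type.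
-/

set_option autoImplicit false
set_option linter.unusedSectionVars false
set_option linter.unusedVariables false

namespace Cfsg.Agent.Omega.IId.Ns

open Subgroup Cfsg Cfsg.Agent.Lib.SL2Mat
open Cfsg.Agent.ZN (zc o2)
open Cfsg.Agent.Omega.HOne.NSMod Cfsg.Agent.Omega.HOne.NSSide Cfsg.Agent.Omega.HOne.NSPair Cfsg.Agent.Omega.HOne.NSDat
open Cfsg.Agent.Omega.NatPair (ap ap_add ap_mul ap_one ap_inj ext2 ap_zero' ap_one' ap_inv_ap ap_ap_inv)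
open Cfsg.Agent.MinSimple.VModule (le_normalizer_o2 zc_comm zc_sq zc_le o2_isPGroup o2_le_of_sylow le_o2 o2_le
  normalizer_le_normalizer_zc)
open Cfsg.Agent.Omega.BTwo (cj conj_mem_cj mem_cj card_cj mem_normalizer_of_conj)
open EndL (Like like_mult Like.eq Like.conj)
open scoped commutatorElement

universe u

variable {G : Type u} [Group G] {F : Type} [Field F]

namespace EndV

/-! ### Tools -/

theorem cjm {K : Subgroup G} {x : G} (hx : x ∈ normalizer (K : Set G)) {k : G} (hk : k ∈ K) : x * k * x⁻¹ ∈ K :=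
  (mem_normalizer_iff.1 hx k).1 hk

theorem cjm' {K : Subgroup G} {x : G} (hx : x ∈ normalizer (K : Set G)) {k : G} (hk : k ∈ K) : x⁻¹ * k * x ∈ K := by
  have := (mem_normalizer_iff.1 (inv_mem hx) k).1 hk
  rwa [inv_inv] at this

theorem norm_o2 [Finite G] {L : Subgroup G} {x : G} (hx : x ∈ normalizer (L : Set G)) :
    x ∈ normalizer (o2 L : Set G) := by
  refine mem_normalizer_of_conj fun y hy => ?_
  have h1 : cj x (o2 L) ≤ o2 L := by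
    refine le_o2 ?_ ((o2_isPGroup L).map _) ?_
    · rintro _ ⟨w, hw, rfl⟩
      exact cjm hx (o2_le L hw)
    · intro l hl
      refine mem_normalizer_of_conj fun w hw => ?_
      rw [mem_cj] at hw ⊢
      have h2 := cjm (le_normalizer_o2 L (cjm' hx hl)) hw
      have e1 : x⁻¹ * l * x * (x⁻¹ * w * x) * (x⁻¹ * l * x)⁻¹ = x⁻¹ * (l * w * l⁻¹) * x := by group
      rwa [e1] at h2
  exact h1 (conj_mem_cj hy)

theorem norm_cent' [Finite G] {L : Subgroup G} {x : G} (hx : x ∈ normalizer (L : Set G)) :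
    x ∈ normalizer (centralizer (L : Set G) : Set G) := by
  refine mem_normalizer_of_conj fun y hy => ?_
  rw [mem_centralizer_iff] at hy ⊢
  intro u hu
  have h1 := hy _ (cjm' hx hu)
  calc u * (x * y * x⁻¹) = x * (x⁻¹ * u * x * y) * x⁻¹ := by group
    _ = x * (y * (x⁻¹ * u * x)) * x⁻¹ := by rw [h1]
    _ = _ := by group

/-- a perfect group centralising `D ≥ C_W(D)` centralises the 2-group `W` -/
theorem perfect_up [Finite G] {W D Y : Subgroup G} (hW : IsPGroup 2 W) (hY : ⁅Y, Y⁆ = Y)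
    (hYW : ∀ y ∈ Y, ∀ w ∈ W, y * w * y⁻¹ ∈ W) (hDW : D ≤ W) (hYD : ∀ y ∈ Y, ∀ d ∈ D, y * d = d * y)
    (hc : ∀ w ∈ W, (∀ d ∈ D, w * d = d * w) → w ∈ D) : ∀ y ∈ Y, ∀ w ∈ W, y * w = w * y := by
  have : Fact (Nat.Prime 2) := ⟨Nat.prime_two⟩
  set E : Subgroup G := W ⊓ centralizer (Y : Set G) with hE
  have hDE : D ≤ E := fun d hd => ⟨hDW hd, mem_centralizer_iff.2 fun y hy => hYD y hy d hd⟩
  have hEW : E ≤ W := inf_le_left
  by_cases hEe : E = W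
  · intro y hy w hw
    rw [← hEe] at hw
    exact mem_centralizer_iff.1 hw.2 y hy
  exfalso
  have h1 := SignalizersComponents.PerfectGoingUp.lt_inf_normalizer_of_lt hW (lt_of_le_of_ne hEW hEe)
  set N : Subgroup G := W ⊓ normalizer (E : Set G) with hN
  have h2 : ⁅Y, N⁆ ≤ E := by
    rw [commutator_le]
    intro y hy n hn
    have h3 : ⁅y, n⁆ ∈ W := by
      rw [commutatorElement_def]
      exact mul_mem (hYW y hy n hn.1) (inv_mem hn.1)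
    refine hDE (hc _ h3 fun d hd => ?_)
    have h4 := cjm' hn.2 (hDE hd)
    have h5 := mem_centralizer_iff.1 h4.2 y hy
    have h6 := hYD y hy d hd
    have e1 : y⁻¹ * (n⁻¹ * d * n) * y = n⁻¹ * d * n := by
      calc y⁻¹ * (n⁻¹ * d * n) * y = y⁻¹ * ((n⁻¹ * d * n) * y) := by group
        _ = y⁻¹ * (y * (n⁻¹ * d * n)) := by rw [h5]
        _ = _ := by group
    have e2 : y * d * y⁻¹ = d := by rw [h6, mul_inv_cancel_right]
    have e3 : ⁅y, n⁆ * d * ⁅y, n⁆⁻¹ = d := by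
      calc ⁅y, n⁆ * d * ⁅y, n⁆⁻¹ = y * n * (y⁻¹ * (n⁻¹ * d * n) * y) * n⁻¹ * y⁻¹ := by
            rw [commutatorElement_def]; group
        _ = y * n * (n⁻¹ * d * n) * n⁻¹ * y⁻¹ := by rw [e1]
        _ = y * d * y⁻¹ := by group
        _ = d := e2
    exact comm_of_fix e3
  have h3 : ⁅⁅Y, N⁆, Y⁆ = ⊥ := by
    rw [eq_bot_iff, commutator_le]
    intro a ha y hy
    have h4 := mem_centralizer_iff.1 (h2 ha).2 y hy
    rw [mem_bot, commutatorElement_def, ← h4, mul_inv_cancel_right, mul_inv_cancel]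
  have h4 : ⁅⁅Y, Y⁆, N⁆ = ⊥ := by
    apply commutator_commutator_eq_bot_of_rotate
    · exact h3
    · rwa [commutator_comm N Y]
  rw [hY] at h4
  have h5 : N ≤ E := by
    intro n hn
    refine ⟨hn.1, mem_centralizer_iff.2 fun y hy => ?_⟩
    have h6 : ⁅y, n⁆ = 1 := by
      rw [← mem_bot, ← h4]
      exact commutator_mem_commutator hy hn
    exact commutatorElement_eq_one_iff_mul_comm.1 h6
  exact absurd h5 (not_le_of_gt h1)

/-! ### `Y = ⟨A ^ C⟩` and `O₂(C_G(Y))` -/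

/-- `Y = ⟨A ^ C⟩` -/
def YC (A U U' : Subgroup G) : Subgroup G := closure {x | ∃ c ∈ CC U U', ∃ a ∈ A, x = c * a * c⁻¹}

/-- `O₂(C_G(Y))` -/
noncomputable def OO (A U U' : Subgroup G) : Subgroup G := o2 (centralizer (YC A U U' : Set G))

theorem YC_le {A U U' K : Subgroup G} (h : ∀ c ∈ CC U U', ∀ a ∈ A, c * a * c⁻¹ ∈ K) : YC A U U' ≤ K := by
  rw [YC, closure_le]
  rintro _ ⟨c, hc, a, ha, rfl⟩
  exact h c hc a ha

theorem A_YC {A U U' : Subgroup G} : A ≤ YC A U U' := fun a ha =>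
  subset_closure ⟨1, one_mem _, a, ha, by group⟩

theorem conj_YC {A U U' : Subgroup G} {c a : G} (hc : c ∈ CC U U') (ha : a ∈ A) : c * a * c⁻¹ ∈ YC A U U' :=
  subset_closure ⟨c, hc, a, ha, rfl⟩

theorem YC_norm [Finite G] {A U U' : Subgroup G} : CC U U' ≤ normalizer (YC A U U' : Set G) := by
  intro c hc
  refine mem_normalizer_of_conj fun y hy => ?_
  have h1 : YC A U U' ≤ (YC A U U').comap (MulAut.conj c).toMonoidHom := YC_le fun d hd a ha => by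
    change c * (d * a * d⁻¹) * c⁻¹ ∈ YC A U U'
    have e1 : c * (d * a * d⁻¹) * c⁻¹ = (c * d) * a * (c * d)⁻¹ := by group
    rw [e1]
    exact conj_YC (mul_mem hc hd) ha
  exact h1 hy

theorem OO_cen {A U U' : Subgroup G} {o : G} (ho : o ∈ OO A U U') {y : G} (hy : y ∈ YC A U U') : o * y = y * o :=
  (mem_centralizer_iff.1 (o2_le _ ho) y hy).symm

theorem OO_norm [Finite G] {A U U' : Subgroup G} {x : G} (hx : x ∈ normalizer (YC A U U' : Set G)) :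
    x ∈ normalizer (OO A U U' : Set G) := norm_o2 (norm_cent' hx)

/-! ### The group `X` -/

/-- `X = ⟨A' ^ X⟩` induces `SL₂` on `A` -/
structure XS (L A A' U : Subgroup G) (π : G → Fin 2 → F) (X : Subgroup G) : Prop where
  A'X : A' ≤ X
  XU : ∀ x ∈ X, ∀ u ∈ U, x * u = u * x
  XA : ∀ x ∈ X, ∀ a ∈ A, x * a * x⁻¹ ∈ A
  all : ∀ M, ∃ x ∈ X, Like L A U π x M
  gen : ∀ K : Subgroup G, (∀ x ∈ X, ∀ n ∈ A', x * n * x⁻¹ ∈ K) → X ≤ K

/-- `A'` and a conjugate by a Weyl element induce `SL₂` -/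
theorem all_of {L A A' U : Subgroup G} {π : G → Fin 2 → F} (r : Rig L A U π)
    (hn : ∀ β, ∃ n ∈ A', Like L A U π n (lo β)) {X : Subgroup G} (hA : A' ≤ X) {m : G}
    (hm : Like L A U π m (wm 1 one_ne_zero)) (hX : ∀ n ∈ A', m * n * m⁻¹ ∈ X) (M) : ∃ x ∈ X, Like L A U π x M := by
  have hμ := like_mult r
  refine EndL.eq_top_of_up_lo (K := hμ.grp X) (fun β => ?_) (fun β => ?_) M
  · obtain ⟨n, hn1, h1⟩ := hn β
    exact ⟨n, hA hn1, h1⟩
  · obtain ⟨n, hn1, h1⟩ := hn (-β)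
    refine ⟨m * n * m⁻¹, hX n hn1, ?_⟩
    have h3 := hμ.mul _ _ _ _ (hμ.mul _ _ _ _ hm h1) (hμ.inv _ _ hm)
    have h5 : wm (1 : F) one_ne_zero * lo (-β) * (wm 1 one_ne_zero)⁻¹ = up β := by
      rw [wm_lo, one_pow, mul_one, neg_neg, mul_inv_cancel_right]
    rwa [h5] at h3

/-- `X ≤ X₀` with `X = ⟨A' ^ X⟩` -/
theorem stable [Finite G] {L A A' U : Subgroup G} {π : G → Fin 2 → F} (r : Rig L A U π)
    (hn : ∀ β, ∃ n ∈ A', Like L A U π n (lo β)) : ∀ (N : ℕ) (X₀ : Subgroup G), Nat.card X₀ = N → A' ≤ X₀ →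
    (∀ M, ∃ x ∈ X₀, Like L A U π x M) → ∃ X ≤ X₀, A' ≤ X ∧ (∀ M, ∃ x ∈ X, Like L A U π x M) ∧
      ∀ K : Subgroup G, (∀ x ∈ X, ∀ n ∈ A', x * n * x⁻¹ ∈ K) → X ≤ K := by
  intro N
  induction N using Nat.strong_induction_on with
  | _ N ih =>
    intro X₀ hN hA hall
    obtain ⟨X₁, hX₁⟩ : ∃ X₁ : Subgroup G, X₁ = closure {y | ∃ x ∈ X₀, ∃ n ∈ A', y = x * n * x⁻¹} := ⟨_, rfl⟩
    have hle : X₁ ≤ X₀ := by
      rw [hX₁, closure_le]
      rintro _ ⟨x, hx, n, hn, rfl⟩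
      exact mul_mem (mul_mem hx (hA hn)) (inv_mem hx)
    have hmem : ∀ x ∈ X₀, ∀ n ∈ A', x * n * x⁻¹ ∈ X₁ := fun x hx n hn => by
      rw [hX₁]; exact subset_closure ⟨x, hx, n, hn, rfl⟩
    by_cases h : X₁ = X₀
    · refine ⟨X₀, le_rfl, hA, hall, fun K hK => ?_⟩
      rw [← h, hX₁, closure_le]
      rintro _ ⟨x, hx, n, hn, rfl⟩
      exact hK x hx n hn
    have hlt : Nat.card X₁ < N := by
      rw [← hN]
      by_contra hc
      exact h (eq_of_le_of_card_ge hle (not_lt.1 hc))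
    obtain ⟨m, hm, hmL⟩ := hall (wm 1 one_ne_zero)
    have hA1 : A' ≤ X₁ := fun n hn => by
      have := hmem 1 (one_mem _) n hn
      have e1 : 1 * n * 1⁻¹ = n := by group
      rwa [e1] at this
    obtain ⟨X, hX, h1⟩ := ih _ hlt X₁ rfl hA1 (all_of r hn hA1 hmL (hmem m hm))
    exact ⟨X, hX.trans hle, h1⟩

section main

variable {T T' L L' A A' V V' U U' : Subgroup G} {π π' : G → Fin 2 → F} {e f g e' f' g' : F → G} {s s' : G → F}
  (b : BaseV T T' L L' A A' V V' U U' π π' e f g e' f' g')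

include b

theorem likeN [Finite F] (β : F) : ∃ n ∈ A', Like L A U π n (lo β) := by
  obtain ⟨t, rfl⟩ := b.p.sq β
  obtain ⟨n, hn, hI⟩ := b.exists_n t
  exact ⟨n, hn, n, hI, fun _ _ => rfl⟩

theorem like_pi {m : G} (hm : Like L A U π m (wm 1 one_ne_zero)) {v : G} (hv : v ∈ A) :
    m * v * m⁻¹ ∈ A ∧ π (m * v * m⁻¹) = ![π v 1, - π v 0] := by
  obtain ⟨x, hx, h1⟩ := hm
  rw [h1 v hv]
  exact ⟨b.p.s.r.Vn x hx.mem v hv, b.pi_n hx hv⟩

/-- elements of `A` fixed by `X` -/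
theorem fix_pi {X : Subgroup G} (hX : XS L A A' U π X) {v : G} (hv : v ∈ A) (h : ∀ x ∈ X, x * v * x⁻¹ = v) :
    π v = 0 := by
  obtain ⟨m, hm, hmL⟩ := hX.all (wm 1 one_ne_zero)
  have h1 := (like_pi b hmL hv).2
  rw [h m hm] at h1
  obtain ⟨n, hn, y, hy, hyL⟩ := hX.all (lo 1)
  have h2 : π (y * v * y⁻¹) = ap (lo 1) (π v) := hy.act v hv
  rw [← hyL v hv, h n hn, ap_lo] at h2
  have h3 := congrFun h2 1
  simp only [Matrix.cons_val_one, one_mul] at h3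
  have h4 : π v 0 = 0 := left_eq_add.1 (h3.trans (add_comm _ _))
  have h5 := congrFun h1 0
  simp only [Matrix.cons_val_zero] at h5
  exact ext2 h4 (by rw [← h5, h4]; rfl)

theorem YC_UG : YC A U U' ≤ UG V U := YC_le fun c hc a ha => CoreOf.UG_conjM hc.1 (b.A_UG ha)

theorem cenY_le [Finite F] : centralizer (YC A U U' : Set G) ≤ CC U U' := fun x hx =>
  ⟨mem_centralizer_iff.2 fun u hu => mem_centralizer_iff.1 hx u (A_YC (b.UA hu)),
    mem_centralizer_iff.2 fun u hu => mem_centralizer_iff.1 hx u (A_YC (b.U'A hu))⟩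

/-- `O₂(C_G(Y)) ≤ O₂(C)` -/
theorem OO_le [Finite G] [Finite F] : OO A U U' ≤ o2 (CC U U') :=
  le_o2 ((o2_le _).trans (cenY_le b)) (o2_isPGroup _) fun c hc => OO_norm (YC_norm hc)

theorem mem_OO [Finite G] [Finite F] {x : G} (hx : x ∈ o2 (CC U U')) (h : ∀ y ∈ YC A U U', x * y = y * x) :
    x ∈ OO A U U' := by
  have h1 : o2 (CC U U') ⊓ centralizer (YC A U U' : Set G) ≤ OO A U U' := by
    refine le_o2 inf_le_right ((o2_isPGroup _).to_le inf_le_left) fun z hz => mem_normalizer_of_conj fun y hy => ?_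
    exact mem_inf.2 ⟨cjm (le_normalizer_o2 _ (cenY_le b hz)) (mem_inf.1 hy).1,
      mul_mem (mul_mem hz (mem_inf.1 hy).2) (inv_mem hz)⟩
  exact h1 ⟨hx, mem_centralizer_iff.2 fun y hy => (h y hy).symm⟩

theorem A_OO [Finite G] [Finite F] : A ≤ OO A U U' := fun a ha =>
  mem_OO b (b.UG_le_o2 (b.A_UG ha)) fun y hy => b.ab _ (b.A_UG ha) _ (YC_UG b hy)

theorem A'_o2 [Finite G] [Finite F] : A' ≤ o2 (CC U U') := fun n hn => by
  have h1 := b.symm.UG_le_o2 (b.symm.A_UG hn)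
  rwa [EndL.cc_symm] at h1

/-- the action of `o ∈ O₂(C)` on `A'` -/
theorem tau' [Finite G] {x : G} (hx : x ∈ o2 (CC U U')) :
    ∃ t : F, ∀ v ∈ A', x * v * x⁻¹ = e' (t ^ 2 * π' v 0) * g' (t * π' v 0) * v :=
  b.symm.tauO (by rw [EndL.cc_symm]; exact hx)

/-- `a⁻¹ x` centralises `A'` -/
theorem agree {a a₁ x : G} (ha : a ∈ A) (ha₁ : a₁ ∈ A) {t : F} (hI : Is L' A' U' π' a₁ (lo (t ^ 2)))
    (h : π a 0 = π a₁ 0) (hx : ∀ v ∈ A', x * v * x⁻¹ = e' (t ^ 2 * π' v 0) * g' (t * π' v 0) * v) :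
    ∀ n ∈ A', n * (a⁻¹ * x) = a⁻¹ * x * n := by
  have h1 : ∀ n ∈ A', n * (a⁻¹ * a₁) = a⁻¹ * a₁ * n := (b.p.s.cen _ (mul_mem (inv_mem ha) ha₁)).2 (by
    rw [b.p.s.r.mul _ (inv_mem ha) _ ha₁, b.p.s.r.map_inv ha]
    simp [h])
  intro n hn
  have h2 : x * n * x⁻¹ = a₁ * n * a₁⁻¹ := by rw [hx n hn, b.symm.act_n hI hn]
  have h3 : a₁⁻¹ * x * n = n * (a₁⁻¹ * x) := by
    calc a₁⁻¹ * x * n = a₁⁻¹ * (x * n * x⁻¹) * x := by group
      _ = a₁⁻¹ * (a₁ * n * a₁⁻¹) * x := by rw [h2]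
      _ = _ := by group
  calc n * (a⁻¹ * x) = n * (a⁻¹ * a₁) * (a₁⁻¹ * x) := by group
    _ = a⁻¹ * a₁ * n * (a₁⁻¹ * x) := by rw [h1 n hn]
    _ = a⁻¹ * a₁ * (n * (a₁⁻¹ * x)) := by group
    _ = a⁻¹ * a₁ * (a₁⁻¹ * x * n) := by rw [h3]
    _ = _ := by group

/-- **(Y1), (Y2), (Y5)**: the group `X` -/
theorem exists_X [Finite G] [Finite F] (c : CoreV L A A' V U U' π e g s) : ∃ X : Subgroup G, XS L A A' U π X ∧
    (∀ x ∈ X, ∀ o ∈ OO A U U', x * o * x⁻¹ * o⁻¹ ∈ A) ∧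
    ∀ o ∈ OO A U U', ∃ a ∈ A, ∀ x ∈ X, x * (a⁻¹ * o) = a⁻¹ * o * x := by
  have r := b.p.s.r
  obtain ⟨m₀, hm₀⟩ := b.exists_wm
  have hLA : ∀ x ∈ L, x ∈ normalizer (A : Set G) := fun x hx => mem_normalizer_of_conj fun v hv => r.Vn x hx v hv
  have hA'A : ∀ n ∈ A', n ∈ normalizer (A : Set G) := fun n hn => hLA n (b.p.s.SP (b.p.s.AS hn))
  -- `Z₀`
  let Z₀ : Subgroup G :=
    { carrier := {x | x ∈ centralizer (U : Set G) ∧ x ∈ normalizer (A : Set G) ∧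
        ∀ u ∈ UG V U, x * u * x⁻¹ * u⁻¹ ∈ A}
      one_mem' := ⟨one_mem _, one_mem _, fun u _ => by
        have e1 : (1 : G) * u * 1⁻¹ * u⁻¹ = 1 := by group
        rw [e1]; exact one_mem _⟩
      mul_mem' := by
        rintro x y ⟨hx1, hx2, hx3⟩ ⟨hy1, hy2, hy3⟩
        refine ⟨mul_mem hx1 hy1, mul_mem hx2 hy2, fun u hu => ?_⟩
        have e1 : x * y * u * (x * y)⁻¹ * u⁻¹ = (x * (y * u * y⁻¹ * u⁻¹) * x⁻¹) * (x * u * x⁻¹ * u⁻¹) := by group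
        rw [e1]
        exact mul_mem (cjm hx2 (hy3 u hu)) (hx3 u hu)
      inv_mem' := by
        rintro x ⟨hx1, hx2, hx3⟩
        refine ⟨inv_mem hx1, inv_mem hx2, fun u hu => ?_⟩
        have e1 : x⁻¹ * u * x⁻¹⁻¹ * u⁻¹ = x⁻¹ * (x * u * x⁻¹ * u⁻¹)⁻¹ * x := by group
        rw [e1]
        exact cjm' hx2 (inv_mem (hx3 u hu)) }
  have hZA' : A' ≤ Z₀ := by
    intro n hn
    obtain ⟨β, hβ⟩ := b.p.s.typ n hn
    obtain ⟨t, rfl⟩ := b.p.sq β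
    refine ⟨(b.A'C hn).1, hA'A n hn, fun u hu => ?_⟩
    rw [c.s_act t n hn hβ u hu, mul_inv_cancel_right]
    exact mul_mem (b.eA _) (b.gA _)
  have hm₀U : m₀ ∈ centralizer (U : Set G) := mem_centralizer_iff.2 fun u hu => (hm₀.cen u hu).symm
  have hm₀A : m₀ ∈ normalizer (A : Set G) := hLA m₀ hm₀.mem
  obtain ⟨X₀, hX₀⟩ : ∃ X₀ : Subgroup G, X₀ = A' ⊔ cj m₀ A' := ⟨_, rfl⟩
  have hXZ : X₀ ≤ Z₀ := by
    rw [hX₀]
    refine sup_le hZA' ?_
    rintro _ ⟨n, hn, rfl⟩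
    obtain ⟨h1, h2, h3⟩ := hZA' hn
    change m₀ * n * m₀⁻¹ ∈ Z₀
    refine ⟨mul_mem (mul_mem hm₀U h1) (inv_mem hm₀U), mul_mem (mul_mem hm₀A h2) (inv_mem hm₀A), fun u hu => ?_⟩
    have h4 : m₀⁻¹ * u * m₀ ∈ UG V U := by
      have := CoreOf.UG_conjM (inv_mem hm₀U) hu
      rwa [inv_inv] at this
    have h5 := cjm hm₀A (h3 _ h4)
    have e1 : m₀ * (n * (m₀⁻¹ * u * m₀) * n⁻¹ * (m₀⁻¹ * u * m₀)⁻¹) * m₀⁻¹ =
        m₀ * n * m₀⁻¹ * u * (m₀ * n * m₀⁻¹)⁻¹ * u⁻¹ := by group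
    rwa [e1] at h5
  have hXY : ∀ x ∈ X₀, x ∈ normalizer (YC A U U' : Set G) := fun x hx => mem_normalizer_of_conj fun y hy => by
    have h1 := mul_mem (A_YC (U := U) (U' := U') ((hXZ hx).2.2 y (YC_UG b hy))) hy
    rwa [inv_mul_cancel_right] at h1
  have hall₀ : ∀ M, ∃ x ∈ X₀, Like L A U π x M :=
    all_of r (likeN b) (by rw [hX₀]; exact le_sup_left) ⟨m₀, hm₀, fun _ _ => rfl⟩
      (fun n hn => by rw [hX₀]; exact mem_sup_right (conj_mem_cj hn))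
  obtain ⟨m₁, hm₁, hm₁L⟩ := hall₀ (wm 1 one_ne_zero)
  obtain ⟨X₁, hX₁⟩ : ∃ X₁ : Subgroup G, X₁ = A' ⊔ cj m₁ A' := ⟨_, rfl⟩
  have hA'X₀ : A' ≤ X₀ := by rw [hX₀]; exact le_sup_left
  have hX₁₀ : X₁ ≤ X₀ := by
    rw [hX₁]
    refine sup_le hA'X₀ ?_
    rintro _ ⟨n, hn, rfl⟩
    exact mul_mem (mul_mem hm₁ (hA'X₀ hn)) (inv_mem hm₁)
  have hA'X₁ : A' ≤ X₁ := by rw [hX₁]; exact le_sup_left
  obtain ⟨X, hXX₁, hA'X, hall, hgen⟩ := stable r (likeN b) _ X₁ rfl hA'X₁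
    (all_of r (likeN b) hA'X₁ hm₁L (fun n hn => by rw [hX₁]; exact mem_sup_right (conj_mem_cj hn)))
  have hm₁A : m₁ ∈ normalizer (A : Set G) := (hXZ hm₁).2.1
  have hm₁O : m₁ ∈ normalizer (OO A U U' : Set G) := OO_norm (hXY m₁ hm₁)
  -- `[A', O₁] ≤ A`
  have hA'O : ∀ n ∈ A', ∀ o ∈ OO A U U', n * o * n⁻¹ * o⁻¹ ∈ A := by
    intro n hn o ho
    obtain ⟨t, ht⟩ := tau' b (OO_le b ho)
    have e1 : n * o * n⁻¹ * o⁻¹ = n * (o * n * o⁻¹)⁻¹ := by group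
    rw [e1, ht n hn]
    have e2 : n * (e' (t ^ 2 * π' n 0) * g' (t * π' n 0) * n)⁻¹ = (e' (t ^ 2 * π' n 0) * g' (t * π' n 0))⁻¹ := by group
    rw [e2]
    exact inv_mem (mul_mem (b.UA (b.symm.eU' _)) (b.U'A (b.symm.gU _)))
  let ZO : Subgroup G :=
    { carrier := {x | x ∈ normalizer (A : Set G) ∧ ∀ o ∈ OO A U U', x * o * x⁻¹ * o⁻¹ ∈ A}
      one_mem' := ⟨one_mem _, fun u _ => by
        have e1 : (1 : G) * u * 1⁻¹ * u⁻¹ = 1 := by group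
        rw [e1]; exact one_mem _⟩
      mul_mem' := by
        rintro x y ⟨hx2, hx3⟩ ⟨hy2, hy3⟩
        refine ⟨mul_mem hx2 hy2, fun u hu => ?_⟩
        have e1 : x * y * u * (x * y)⁻¹ * u⁻¹ = (x * (y * u * y⁻¹ * u⁻¹) * x⁻¹) * (x * u * x⁻¹ * u⁻¹) := by group
        rw [e1]
        exact mul_mem (cjm hx2 (hy3 u hu)) (hx3 u hu)
      inv_mem' := by
        rintro x ⟨hx2, hx3⟩
        refine ⟨inv_mem hx2, fun u hu => ?_⟩
        have e1 : x⁻¹ * u * x⁻¹⁻¹ * u⁻¹ = x⁻¹ * (x * u * x⁻¹ * u⁻¹)⁻¹ * x := by group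
        rw [e1]
        exact cjm' hx2 (inv_mem (hx3 u hu)) }
  have hXZO : X₁ ≤ ZO := by
    rw [hX₁]
    refine sup_le (fun n hn => ⟨hA'A n hn, hA'O n hn⟩) ?_
    rintro _ ⟨n, hn, rfl⟩
    change m₁ * n * m₁⁻¹ ∈ ZO
    refine ⟨mul_mem (mul_mem hm₁A (hA'A n hn)) (inv_mem hm₁A), fun o ho => ?_⟩
    have h5 := cjm hm₁A (hA'O n hn _ (cjm' hm₁O ho))
    have e1 : m₁ * (n * (m₁⁻¹ * o * m₁) * n⁻¹ * (m₁⁻¹ * o * m₁)⁻¹) * m₁⁻¹ =
        m₁ * n * m₁⁻¹ * o * (m₁ * n * m₁⁻¹)⁻¹ * o⁻¹ := by group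
    rwa [e1] at h5
  refine ⟨X, ⟨hA'X, fun x hx u hu => (mem_centralizer_iff.1 (hXZ (hX₁₀ (hXX₁ hx))).1 u hu).symm,
    fun x hx a ha => cjm (hXZ (hX₁₀ (hXX₁ hx))).2.1 ha, hall, hgen⟩, fun x hx => (hXZO (hXX₁ hx)).2, ?_⟩
  -- the decomposition
  intro o ho
  obtain ⟨t, ht⟩ := tau' b (OO_le b ho)
  obtain ⟨t₂, ht₂⟩ := tau' b (OO_le b (cjm' hm₁O ho))
  obtain ⟨a₁, ha₁, hI₁⟩ := b.symm.exists_n t
  obtain ⟨a₂, ha₂, hI₂⟩ := b.symm.exists_n t₂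
  obtain ⟨a, ha, hπ⟩ := r.surj ![π a₁ 0, - π a₂ 0]
  have h1 := agree b ha ha₁ hI₁ (by rw [hπ]; rfl) ht
  have ham : m₁⁻¹ * a * m₁ ∈ A := cjm' hm₁A ha
  have hπm : π (m₁⁻¹ * a * m₁) 0 = π a₂ 0 := by
    have h2 := (like_pi b hm₁L ham).2
    have e1 : m₁ * (m₁⁻¹ * a * m₁) * m₁⁻¹ = a := by group
    rw [e1, hπ] at h2
    have h3 := congrFun h2 1
    simp only [Matrix.cons_val_one] at h3
    exact (neg_injective h3).symm
  have h2 := agree b ham ha₂ hI₂ hπm ht₂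
  refine ⟨a, ha, fun x hx => ?_⟩
  have h3 : X₁ ≤ centralizer ({a⁻¹ * o} : Set G) := by
    rw [hX₁]
    refine sup_le (fun n hn => ?_) ?_
    · rw [mem_centralizer_singleton_iff]
      exact h1 n hn
    · rintro _ ⟨n, hn, rfl⟩
      change m₁ * n * m₁⁻¹ ∈ _
      rw [mem_centralizer_singleton_iff]
      have h4 := h2 n hn
      calc m₁ * n * m₁⁻¹ * (a⁻¹ * o) = m₁ * (n * ((m₁⁻¹ * a * m₁)⁻¹ * (m₁⁻¹ * o * m₁))) * m₁⁻¹ := by group
        _ = m₁ * ((m₁⁻¹ * a * m₁)⁻¹ * (m₁⁻¹ * o * m₁) * n) * m₁⁻¹ := by rw [h4]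
        _ = _ := by group
  exact mem_centralizer_singleton_iff.1 (h3 (hXX₁ hx))

/-- elements of `U ∩ U'` are trivial -/
theorem inf_one [Finite F] {x : G} (hx : x ∈ U) (hx' : x ∈ U') : x = 1 := by
  obtain ⟨z, rfl⟩ := b.mem_U'_iff.1 hx'
  have h1 := (b.p.s.r.ker _ (b.eA z)).2 hx
  rw [b.p.φ.eπ] at h1
  have h2 : z = 0 := congrFun h1 1
  rw [h2]; exact b.p.φ.e0

/-- **(Y3), KEY**: `o ∈ O₁` acts on all `A' ^ d`, `d ∈ C`, with the same parameter -/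
theorem key [Finite G] [Finite F] (c : CoreV L A A' V U U' π e g s) {X : Subgroup G} (hX : XS L A A' U π X)
    (hXO : ∀ x ∈ X, ∀ o ∈ OO A U U', x * o * x⁻¹ * o⁻¹ ∈ A) {o : G} (ho : o ∈ OO A U U') {t : F}
    (ht : ∀ v ∈ A', o * v * o⁻¹ = e' (t ^ 2 * π' v 0) * g' (t * π' v 0) * v) {d : G} (hd : d ∈ CC U U') :
    ∀ v ∈ A', o * (d * v * d⁻¹) * o⁻¹ = e' (t ^ 2 * π' v 0) * g' (t * π' v 0) * (d * v * d⁻¹) := by
  have r := b.p.s.r
  have r' := b.p.s'.r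
  have hOC := OO_le b
  have hoO := hOC ho
  have hdo : d⁻¹ * o * d ∈ o2 (CC U U') := cjm' (le_normalizer_o2 _ hd) hoO
  obtain ⟨τ, hτ⟩ := tau' b hdo
  -- `U`, `U'` are central in `C`
  have cU : ∀ {x : G}, x ∈ CC U U' → ∀ z, x * e' z = e' z * x := fun hx z => cc_l hx (b.symm.eU' z)
  have cU' : ∀ {x : G}, x ∈ CC U U' → ∀ z, x * g' z = g' z * x := fun hx z => cc_r hx (b.symm.gU z)
  have ceg : ∀ {x : G}, x ∈ CC U U' → ∀ y z, x * (e' y * g' z) = e' y * g' z * x := fun {x} hx y z => by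
    calc x * (e' y * g' z) = (x * e' y) * g' z := by group
      _ = e' y * (x * g' z) := by rw [cU hx]; group
      _ = _ := by rw [cU' hx]; group
  have hform : ∀ v ∈ A', o * (d * v * d⁻¹) * o⁻¹ = e' (τ ^ 2 * π' v 0) * g' (τ * π' v 0) * (d * v * d⁻¹) := by
    intro v hv
    calc o * (d * v * d⁻¹) * o⁻¹ = d * ((d⁻¹ * o * d) * v * (d⁻¹ * o * d)⁻¹) * d⁻¹ := by group
      _ = (d * (e' (τ ^ 2 * π' v 0) * g' (τ * π' v 0))) * v * d⁻¹ := by rw [hτ v hv]; group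
      _ = _ := by rw [ceg hd]; group
  suffices hτt : τ = t by
    rw [hτt] at hform
    exact hform
  obtain ⟨n, hn, hnI⟩ := b.exists_n 1
  obtain ⟨z, hz⟩ : ∃ z, z = π' n 0 := ⟨_, rfl⟩
  have hz0 : z ≠ 0 := by
    intro h0
    rw [hz] at h0
    have h1 := (b.p.s'.cen n hn).2 h0 (f 1) (b.fA 1)
    have h2 := b.act_n hnI (b.fA 1)
    rw [← h1, mul_inv_cancel_right, b.p.φ.fπ] at h2
    simp only [Matrix.cons_val_zero, mul_one, one_pow] at h2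
    have h3 : e 0 * g 0 = e 1 * g 1 := by
      rw [b.p.φ.e0, b.p.φ.g0, mul_one]
      exact (right_eq_mul.1 h2).symm
    exact zero_ne_one (b.p.φ.eg_inj r h3).1
  have hnO : n ∈ o2 (CC U U') := A'_o2 b hn
  have hnC : n ∈ CC U U' := o2_le _ hnO
  have hdnO : d * n * d⁻¹ ∈ o2 (CC U U') := cjm (le_normalizer_o2 _ hd) hnO
  have hdnC : d * n * d⁻¹ ∈ CC U U' := o2_le _ hdnO
  obtain ⟨y, hy⟩ : ∃ y, y = (d * n * d⁻¹)⁻¹ * n := ⟨_, rfl⟩
  have hyO : y ∈ o2 (CC U U') := by rw [hy]; exact mul_mem (inv_mem hdnO) hnO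
  have hyC : y ∈ CC U U' := o2_le _ hyO
  -- `y` centralises `YC`
  have hyY : YC A U U' ≤ centralizer ({y} : Set G) := YC_le fun k hk a ha => by
    rw [mem_centralizer_singleton_iff]
    have hkU : k * a * k⁻¹ ∈ UG V U := CoreOf.UG_conjM hk.1 (b.A_UG ha)
    have hdkU : d⁻¹ * (k * a * k⁻¹) * d ∈ UG V U := by
      have := CoreOf.UG_conjM (inv_mem hd.1) hkU
      rwa [inv_inv] at this
    have h1 := c.s_act 1 n hn hnI _ hkU
    have h2 := c.s_act 1 n hn hnI _ hdkU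
    have h3 := c.s_conj k hk a ha
    have h4 : s (d⁻¹ * (k * a * k⁻¹) * d) = π a 0 := by
      have := c.s_conj (d⁻¹ * k) (mul_mem (inv_mem hd) hk) a ha
      have e1 : d⁻¹ * k * a * (d⁻¹ * k)⁻¹ = d⁻¹ * (k * a * k⁻¹) * d := by group
      rwa [e1] at this
    rw [h3] at h1
    rw [h4] at h2
    have ce : ∀ w, d * e w * d⁻¹ = e w := fun w => fix_of_comm (cc_r hd (b.eU' w))
    have cg : ∀ w, d * g w * d⁻¹ = g w := fun w => fix_of_comm (cc_l hd (b.gU w))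
    have h5 : (d * n * d⁻¹) * (k * a * k⁻¹) * (d * n * d⁻¹)⁻¹ = n * (k * a * k⁻¹) * n⁻¹ := by
      calc (d * n * d⁻¹) * (k * a * k⁻¹) * (d * n * d⁻¹)⁻¹ = d * (n * (d⁻¹ * (k * a * k⁻¹) * d) * n⁻¹) * d⁻¹ := by group
        _ = (d * e (1 ^ 2 * π a 0) * d⁻¹) * (d * g (1 * π a 0) * d⁻¹) * (k * a * k⁻¹) := by rw [h2]; group
        _ = _ := by rw [ce, cg, h1]
    calc k * a * k⁻¹ * y = (d * n * d⁻¹)⁻¹ * ((d * n * d⁻¹) * (k * a * k⁻¹) * (d * n * d⁻¹)⁻¹) * n := by rw [hy]; group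
      _ = (d * n * d⁻¹)⁻¹ * (n * (k * a * k⁻¹) * n⁻¹) * n := by rw [h5]
      _ = y * (k * a * k⁻¹) := by rw [hy]; group
  have hyOO : y ∈ OO A U U' := mem_OO b hyO fun w hw => (mem_centralizer_singleton_iff.1 (hyY hw)).symm
  -- `ρ = [o, y]`
  obtain ⟨ρ, hρ⟩ : ∃ ρ, ρ = (e' (τ ^ 2 * z) * g' (τ * z))⁻¹ * (e' (t ^ 2 * z) * g' (t * z)) := ⟨_, rfl⟩
  have hoy : o * y * o⁻¹ * y⁻¹ = ρ := by
    have h1 := ht n hn
    have h2 := hform n hn
    rw [← hz] at h1 h2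
    have h3 := ceg hyC (t ^ 2 * z) (t * z)
    have h4 := ceg hyC (τ ^ 2 * z) (τ * z)
    have h5 : o * y * o⁻¹ = (o * (d * n * d⁻¹) * o⁻¹)⁻¹ * (o * n * o⁻¹) := by rw [hy]; group
    have h6 := ceg hdnC (τ ^ 2 * z) (τ * z)
    have h7 := ceg hnC (t ^ 2 * z) (t * z)
    obtain ⟨E, hE⟩ : ∃ E, E = e' (t ^ 2 * z) * g' (t * z) := ⟨_, rfl⟩
    obtain ⟨D, hD⟩ : ∃ D, D = e' (τ ^ 2 * z) * g' (τ * z) := ⟨_, rfl⟩
    rw [← hE] at h1 h3 h7
    rw [← hD] at h2 h4 h6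
    rw [h5, h1, h2, hρ, ← hE, ← hD]
    have h8 : (D * (d * n * d⁻¹))⁻¹ * (E * n) * y⁻¹ = D⁻¹ * E := by
      have h9 : (D * (d * n * d⁻¹))⁻¹ = D⁻¹ * (d * n * d⁻¹)⁻¹ := by rw [← h6, mul_inv_rev]
      have h10 : D⁻¹ * (d * n * d⁻¹)⁻¹ * (E * n) * y⁻¹ = D⁻¹ * (d * n * d⁻¹)⁻¹ * E * (n * y⁻¹) := by group
      have h11 : n * y⁻¹ = d * n * d⁻¹ := by rw [hy]; group
      have h12 : (d * n * d⁻¹) * E = E * (d * n * d⁻¹) := by
        rw [hE]; exact ceg hdnC _ _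
      rw [h9, h10, h11]
      calc D⁻¹ * (d * n * d⁻¹)⁻¹ * E * (d * n * d⁻¹) = D⁻¹ * (d * n * d⁻¹)⁻¹ * (E * (d * n * d⁻¹)) := by group
        _ = D⁻¹ * (d * n * d⁻¹)⁻¹ * ((d * n * d⁻¹) * E) := by rw [h12]
        _ = _ := by group
    exact h8
  have hρX : ∀ x ∈ X, x * ρ * x⁻¹ = ρ := by
    intro x hx
    have h1 := hXO x hx o ho
    have h2 := hXO x hx y hyOO
    obtain ⟨a, ha⟩ : ∃ a, a = x * o * x⁻¹ * o⁻¹ := ⟨_, rfl⟩
    obtain ⟨a', ha'⟩ : ∃ a', a' = x * y * x⁻¹ * y⁻¹ := ⟨_, rfl⟩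
    rw [← ha] at h1
    rw [← ha'] at h2
    have e1 : x * o * x⁻¹ = a * o := by rw [ha]; group
    have e2 : x * y * x⁻¹ = a' * y := by rw [ha']; group
    have c1 : Commute a y := (OO_cen hyOO (A_YC h1)).symm
    have c2 : Commute a o := (OO_cen ho (A_YC h1)).symm
    have c3 : Commute a' y := (OO_cen hyOO (A_YC h2)).symm
    have c4 : Commute a' o := (OO_cen ho (A_YC h2)).symm
    have c5 : Commute a a' := b.Ac h1 h2
    rw [← hoy]
    calc x * (o * y * o⁻¹ * y⁻¹) * x⁻¹ = (x * o * x⁻¹) * (x * y * x⁻¹) * (x * o * x⁻¹)⁻¹ * (x * y * x⁻¹)⁻¹ := by group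
      _ = a * o * (a' * y) * (a * o)⁻¹ * (a' * y)⁻¹ := by rw [e1, e2]
      _ = (a * (o * (a' * y) * o⁻¹) * a⁻¹) * (a' * y)⁻¹ := by group
      _ = (a * (a' * (o * y * o⁻¹)) * a⁻¹) * (a' * y)⁻¹ := by
          have : o * (a' * y) * o⁻¹ = a' * (o * y * o⁻¹) := by
            calc o * (a' * y) * o⁻¹ = (o * a') * y * o⁻¹ := by group
              _ = (a' * o) * y * o⁻¹ := by rw [c4.eq]
              _ = _ := by group
          rw [this]
      _ = a' * (o * y * o⁻¹) * (a' * y)⁻¹ := by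
          have c6 : Commute a (a' * (o * y * o⁻¹)) :=
            c5.mul_right ((c2.mul_right c1).mul_right c2.inv_right)
          rw [c6.eq, mul_inv_cancel_right]
      _ = a' * (o * y * o⁻¹ * y⁻¹) * a'⁻¹ := by group
      _ = o * y * o⁻¹ * y⁻¹ := by
          have c7 : Commute a' (o * y * o⁻¹ * y⁻¹) :=
            ((c4.mul_right c3).mul_right c4.inv_right).mul_right c3.inv_right
          rw [c7.eq, mul_inv_cancel_right]
  have hg'U : g' ((t - τ) * z) ∈ U := by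
    have hρA : ρ ∈ A := by
      rw [hρ]
      exact mul_mem (inv_mem (mul_mem (b.UA (b.symm.eU' _)) (b.U'A (b.symm.gU _))))
        (mul_mem (b.UA (b.symm.eU' _)) (b.U'A (b.symm.gU _)))
    have h1 : ρ ∈ U := b.mem_U hρA (fix_pi b hX hρA hρX)
    have h2 : g' (t * z) = g' (τ * z) * g' ((t - τ) * z) := by
      rw [← b.p.φ'.g_add]
      congr 1
      ring
    have h3 := b.A'c (b.symm.gA (τ * z)) (b.symm.eA (t ^ 2 * z))
    have h4 : e' (τ ^ 2 * z) * ρ * (e' (t ^ 2 * z))⁻¹ = g' ((t - τ) * z) := by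
      have h5 : e' (τ ^ 2 * z) * ρ = (g' (τ * z))⁻¹ * (e' (t ^ 2 * z) * g' (t * z)) := by
        rw [hρ]
        have h6 := b.A'c (b.symm.gA (τ * z)) (b.symm.eA (τ ^ 2 * z))
        calc e' (τ ^ 2 * z) * ((e' (τ ^ 2 * z) * g' (τ * z))⁻¹ * (e' (t ^ 2 * z) * g' (t * z)))
            = e' (τ ^ 2 * z) * ((g' (τ * z) * e' (τ ^ 2 * z))⁻¹ * (e' (t ^ 2 * z) * g' (t * z))) := by rw [h6]
          _ = _ := by group
      rw [h5, h2]
      calc (g' (τ * z))⁻¹ * (e' (t ^ 2 * z) * (g' (τ * z) * g' ((t - τ) * z))) * (e' (t ^ 2 * z))⁻¹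
          = (g' (τ * z))⁻¹ * (e' (t ^ 2 * z) * g' (τ * z)) * g' ((t - τ) * z) * (e' (t ^ 2 * z))⁻¹ := by group
        _ = (g' (τ * z))⁻¹ * (g' (τ * z) * e' (t ^ 2 * z)) * g' ((t - τ) * z) * (e' (t ^ 2 * z))⁻¹ := by rw [h3]
        _ = e' (t ^ 2 * z) * g' ((t - τ) * z) * (e' (t ^ 2 * z))⁻¹ := by group
        _ = g' ((t - τ) * z) := fix_of_comm (b.A'c (b.symm.eA _) (b.symm.gA _))
    rw [← h4]
    exact mul_mem (mul_mem (b.symm.eU' _) h1) (inv_mem (b.symm.eU' _))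
  have h1 := b.g1' _ (inf_one b hg'U (b.symm.gU _))
  rcases mul_eq_zero.1 h1 with h2 | h2
  · exact (sub_eq_zero.1 h2).symm
  · exact absurd h2 hz0

/-- **(Y4)** -/
theorem OO_split [Finite G] [Finite F] (c : CoreV L A A' V U U' π e g s) {X : Subgroup G} (hX : XS L A A' U π X)
    (hXO : ∀ x ∈ X, ∀ o ∈ OO A U U', x * o * x⁻¹ * o⁻¹ ∈ A) {o : G} (ho : o ∈ OO A U U')
    (h : ∀ n ∈ A', o * n = n * o) : o ∈ OO A' U' U := by
  obtain ⟨t, ht⟩ := tau' b (OO_le b ho)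
  refine mem_OO b.symm (by rw [EndL.cc_symm]; exact OO_le b ho) ?_
  have h1 : YC A' U' U ≤ centralizer ({o} : Set G) := YC_le fun d hd n hn => by
    rw [mem_centralizer_singleton_iff]
    rw [EndL.cc_symm] at hd
    have h2 := key b c hX hXO ho ht hd n hn
    have h3 := ht n hn
    rw [h n hn, mul_inv_cancel_right] at h3
    rw [right_eq_mul.1 h3, one_mul] at h2
    exact (comm_of_fix h2).symm
  intro y hy
  exact (mem_centralizer_singleton_iff.1 (h1 hy)).symm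

/-- **(Y5)** `O₁ ∩ O₁' = U U' F₀`, `F₀` centralised by `X` and `X'` -/
theorem dec [Finite G] [Finite F] {X X' : Subgroup G} (hX : XS L A A' U π X) (hX' : XS L' A' A U' π' X')
    (hd : ∀ o ∈ OO A U U', ∃ a ∈ A, ∀ x ∈ X, x * (a⁻¹ * o) = a⁻¹ * o * x)
    (hd' : ∀ o ∈ OO A' U' U, ∃ a ∈ A', ∀ x ∈ X', x * (a⁻¹ * o) = a⁻¹ * o * x)
    (hs : ∀ o ∈ OO A U U', (∀ n ∈ A', o * n = n * o) → o ∈ OO A' U' U) {o : G} (ho : o ∈ OO A U U')
    (ho' : o ∈ OO A' U' U) : ∃ u ∈ U, ∃ u' ∈ U', ∃ y ∈ OO A U U' ⊓ OO A' U' U,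
      (∀ x ∈ X, x * y = y * x) ∧ (∀ x ∈ X', x * y = y * x) ∧ o = u * u' * y := by
  have hA'o : ∀ n ∈ A', n * o = o * n := fun n hn => (OO_cen ho' (A_YC hn)).symm
  obtain ⟨a, ha, h1⟩ := hd o ho
  -- `a ∈ U U'`
  have ha0 : π a 0 = 0 := (b.p.s.cen a ha).1 fun n hn => by
    have h2 := h1 n (hX.A'X hn)
    have h3 := hA'o n hn
    have h4 : n * a⁻¹ = a⁻¹ * n := by
      calc n * a⁻¹ = n * (a⁻¹ * o) * o⁻¹ := by group
        _ = a⁻¹ * (o * n) * o⁻¹ := by rw [h2]; group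
        _ = a⁻¹ * (n * o) * o⁻¹ := by rw [h3]
        _ = _ := by group
    calc n * a = a * (a⁻¹ * n) * a := by group
      _ = a * (n * a⁻¹) * a := by rw [h4]
      _ = _ := by group
  obtain ⟨u₁, hu₁, u₁', hu₁', hau⟩ := b.exists_eg ha ha0
  obtain ⟨x, hx⟩ : ∃ x, x = a⁻¹ * o := ⟨_, rfl⟩
  rw [← hx] at h1
  have hxO : x ∈ OO A U U' := by rw [hx]; exact mul_mem (inv_mem (A_OO b ha)) ho
  have hxO' : x ∈ OO A' U' U := hs x hxO fun n hn => (h1 n (hX.A'X hn)).symm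
  obtain ⟨a', ha', h2⟩ := hd' x hxO'
  have hAx : ∀ n ∈ A, n * x = x * n := fun n hn => (OO_cen hxO (A_YC hn)).symm
  have ha0' : π' a' 0 = 0 := (b.p.s'.cen a' ha').1 fun n hn => by
    have h3 := h2 n (hX'.A'X hn)
    have h4 := hAx n hn
    have h5 : n * a'⁻¹ = a'⁻¹ * n := by
      calc n * a'⁻¹ = n * (a'⁻¹ * x) * x⁻¹ := by group
        _ = a'⁻¹ * (x * n) * x⁻¹ := by rw [h3]; group
        _ = a'⁻¹ * (n * x) * x⁻¹ := by rw [h4]
        _ = _ := by group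
    calc n * a' = a' * (a'⁻¹ * n) * a' := by group
      _ = a' * (n * a'⁻¹) * a' := by rw [h5]
      _ = _ := by group
  obtain ⟨u₂', hu₂', u₂, hu₂, hau'⟩ := b.symm.exists_eg ha' ha0'
  -- `y = u₂⁻¹ x = u₂' x'`
  obtain ⟨x', hx'⟩ : ∃ x', x' = a'⁻¹ * x := ⟨_, rfl⟩
  rw [← hx'] at h2
  have hxx : x = u₂ * (u₂' * x') := by
    have h3 := b.A'c (b.symm.UA hu₂') (b.symm.U'A hu₂)
    calc x = a' * x' := by rw [hx']; group
      _ = u₂' * u₂ * x' := by rw [hau']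
      _ = _ := by rw [h3]; group
  have hyy : u₂⁻¹ * x = u₂' * x' := by rw [hxx]; group
  have hu₂O : u₂ ∈ OO A U U' := A_OO b (b.UA hu₂)
  have hu₂'O : u₂' ∈ OO A' U' U := A_OO b.symm (b.symm.UA hu₂')
  have hx'O : x' ∈ OO A' U' U := by rw [hx']; exact mul_mem (inv_mem (A_OO b.symm ha')) hxO'
  have hyX : ∀ w ∈ X, w * (u₂⁻¹ * x) = u₂⁻¹ * x * w := fun w hw => by
    have h3 : w * u₂⁻¹ = u₂⁻¹ * w := hX.XU w hw _ (inv_mem hu₂)
    calc w * (u₂⁻¹ * x) = (w * u₂⁻¹) * x := by group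
      _ = u₂⁻¹ * (w * x) := by rw [h3]; group
      _ = _ := by rw [h1 w hw]; group
  have hyX' : ∀ w ∈ X', w * (u₂' * x') = u₂' * x' * w := fun w hw => by
    have h3 : w * u₂' = u₂' * w := hX'.XU w hw _ hu₂'
    calc w * (u₂' * x') = (w * u₂') * x' := by group
      _ = u₂' * (w * x') := by rw [h3]; group
      _ = _ := by rw [h2 w hw]; group
  refine ⟨u₁ * u₂, mul_mem hu₁ hu₂, u₁', hu₁', u₂⁻¹ * x,
    mem_inf.2 ⟨mul_mem (inv_mem hu₂O) hxO, by rw [hyy]; exact mul_mem hu₂'O hx'O⟩, hyX, by rw [hyy]; exact hyX', ?_⟩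
  have h3 : o = a * x := by rw [hx]; group
  have h4 := b.Ac (b.UA hu₂) (b.U'A hu₁')
  calc o = u₁ * u₁' * x := by rw [h3, hau]
    _ = u₁ * (u₁' * u₂) * (u₂⁻¹ * x) := by group
    _ = u₁ * (u₂ * u₁') * (u₂⁻¹ * x) := by rw [h4]
    _ = _ := by group

/-! ### LEMMA END -/

/-- a subgroup inducing `SL₂` is not a 2-group -/
theorem not_two [Finite G] {Y W : Subgroup G} (hW : IsPGroup 2 W) (hYW : Y ≤ W)
    (hall : ∀ M, ∃ x ∈ Y, Like L A U π x M) : False := by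
  have r := b.p.s.r
  have : CharP F 2 := CharTwo.of_one_ne_zero_of_two_eq_zero one_ne_zero r.two
  obtain ⟨ω, h0, h1⟩ := b.p.ω
  obtain ⟨x, hx, y, hy, hxy⟩ := hall (dg ω h0)
  have h2 : ∀ n : ℕ, ∀ v ∈ A, x ^ n * v * (x ^ n)⁻¹ ∈ A ∧ π (x ^ n * v * (x ^ n)⁻¹) 0 = ω ^ n * π v 0 := by
    intro n
    induction n with
    | zero =>
      intro v hv
      have e1 : x ^ 0 * v * (x ^ 0)⁻¹ = v := by group
      rw [e1, pow_zero, one_mul]
      exact ⟨hv, rfl⟩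
    | succ n ih =>
      intro v hv
      obtain ⟨h3, h4⟩ := ih v hv
      have e1 : x ^ (n + 1) * v * (x ^ (n + 1))⁻¹ = x * (x ^ n * v * (x ^ n)⁻¹) * x⁻¹ := by
        rw [pow_succ']; group
      rw [e1, hxy _ h3]
      refine ⟨r.Vn y hy.mem _ h3, ?_⟩
      rw [hy.act _ h3, ap_dg]
      simp only [Matrix.cons_val_zero]
      rw [h4, pow_succ']; ring
  obtain ⟨k, hk⟩ := hW ⟨x, hYW hx⟩
  have hk' : x ^ 2 ^ k = 1 := by
    have := congrArg Subtype.val hk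
    simpa using this
  have h3 := (h2 (2 ^ k) (f 1) (b.fA 1)).2
  rw [hk', one_mul, inv_one, mul_one, b.p.φ.fπ] at h3
  simp only [Matrix.cons_val_zero, mul_one] at h3
  have h4 : (ω - 1) ^ 2 ^ k = 0 := by
    rw [sub_pow_char_pow, ← h3, one_pow, sub_self]
  exact h1 (sub_eq_zero.1 (pow_eq_zero_iff (by positivity) |>.1 h4))

/-- the torus: a nontrivial action of `W ∩ C` on `A` gives `A ≤ W` -/
theorem A_le_W [Finite G] {X W H : Subgroup G} (hX : XS L A A' U π X) (hXH : X ≤ H) (hAH : A ≤ H)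
    (hWn : ∀ h ∈ H, ∀ w ∈ W, h * w * h⁻¹ ∈ W) (hst : W ⊓ CC U U' ≤ o2 (CC U U')) {w₀ v₀ : G} (hw₀ : w₀ ∈ W)
    (hw₀C : w₀ ∈ CC U U') (hv₀ : v₀ ∈ A) (hne : w₀ * v₀ ≠ v₀ * w₀) [Finite F] : A ≤ W := by
  have r := b.p.s.r
  have two := r.two
  obtain ⟨t₀, ht₀⟩ := b.tauO (hst (mem_inf.2 ⟨hw₀, hw₀C⟩))
  have ht₀0 : t₀ ≠ 0 := by
    rintro rfl
    apply hne
    have h1 := ht₀ v₀ hv₀
    rw [zero_pow two_ne_zero, zero_mul, b.p.φ.e0, b.p.φ.g0, one_mul, one_mul] at h1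
    exact comm_of_fix h1
  have hsqi : ∀ a b : F, a ^ 2 = b ^ 2 → a = b := by
    intro a b hab
    have h1 : (a - b) ^ 2 = 0 := by linear_combination hab + (b ^ 2 - a * b) * two
    exact sub_eq_zero.1 (pow_eq_zero_iff two_ne_zero |>.1 h1)
  -- all parameters occur
  have hall : ∀ t : F, ∃ w ∈ W, ∀ v ∈ A, w * v * w⁻¹ = e (t ^ 2 * π v 0) * g (t * π v 0) * v := by
    intro t
    by_cases ht : t = 0
    · refine ⟨1, one_mem _, fun v hv => ?_⟩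
      rw [ht, zero_pow two_ne_zero, zero_mul, b.p.φ.e0, b.p.φ.g0]
      group
    obtain ⟨h, hh, y, hy, hhy⟩ := hX.all (dg (t₀ / t) (div_ne_zero ht₀0 ht))
    have hhπ : ∀ v ∈ A, h * v * h⁻¹ ∈ A ∧ π (h * v * h⁻¹) = ![(t₀ / t) * π v 0, (t₀ / t)⁻¹ * π v 1] := by
      intro v hv
      rw [hhy v hv]
      exact ⟨r.Vn y hy.mem v hv, by rw [hy.act v hv, ap_dg]⟩
    have hhA : ∀ v ∈ A, h⁻¹ * v * h ∈ A := fun v hv => by
      have := hX.XA h⁻¹ (inv_mem hh) v hv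
      rwa [inv_inv] at this
    have hw1 : h * w₀ * h⁻¹ ∈ W := hWn h (hXH hh) w₀ hw₀
    have hw2 : h * w₀ * h⁻¹ ∈ CC U U' := by
      refine ⟨mem_centralizer_iff.2 fun u hu => ?_, mem_centralizer_iff.2 fun u hu => ?_⟩
      · have h1 := hX.XU h hh u hu
        have h2 := cc_l hw₀C hu
        have h3 : h⁻¹ * u * h = u := fix_of_comm' h1
        calc u * (h * w₀ * h⁻¹) = h * ((h⁻¹ * u * h) * w₀) * h⁻¹ := by group
          _ = h * (w₀ * (h⁻¹ * u * h)) * h⁻¹ := by rw [h3, h2]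
          _ = _ := by group
      · obtain ⟨z, rfl⟩ := b.mem_U'_iff.1 hu
        have h1 : h⁻¹ * e z * h ∈ A := hhA _ (b.eA z)
        have h2 : π (h⁻¹ * e z * h) 0 = 0 := by
          have h3 := (hhπ _ h1).2
          have e1 : h * (h⁻¹ * e z * h) * h⁻¹ = e z := by group
          rw [e1, b.p.φ.eπ] at h3
          have h4 := congrFun h3 0
          simp only [Matrix.cons_val_zero] at h4
          exact (mul_eq_zero.1 h4.symm).resolve_left (div_ne_zero ht₀0 ht)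
        have h3 := b.cc_comm hw₀C h1 h2
        calc e z * (h * w₀ * h⁻¹) = h * ((h⁻¹ * e z * h) * w₀) * h⁻¹ := by group
          _ = h * (w₀ * (h⁻¹ * e z * h)) * h⁻¹ := by rw [h3]
          _ = _ := by group
    obtain ⟨τ, hτ⟩ := b.tauO (hst (mem_inf.2 ⟨hw1, hw2⟩))
    suffices hτt : τ = t by
      subst hτt
      exact ⟨_, hw1, hτ⟩
    -- compare on `f 1`
    have h1 := hτ (f 1) (b.fA 1)
    have h2 := ht₀ _ (hhA _ (b.fA 1))
    have hfA := hhA _ (b.fA 1)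
    have h3 : π (h⁻¹ * f 1 * h) 0 = t / t₀ := by
      have h4 := (hhπ _ hfA).2
      have e1 : h * (h⁻¹ * f 1 * h) * h⁻¹ = f 1 := by group
      rw [e1, b.p.φ.fπ] at h4
      have h5 := congrFun h4 0
      simp only [Matrix.cons_val_zero] at h5
      field_simp at h5 ⊢
      linear_combination -h5
    rw [h3] at h2
    have h4 : (h * w₀ * h⁻¹) * f 1 * (h * w₀ * h⁻¹)⁻¹ =
        (h * e (t₀ ^ 2 * (t / t₀)) * h⁻¹) * (h * g (t₀ * (t / t₀)) * h⁻¹) * f 1 := by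
      calc (h * w₀ * h⁻¹) * f 1 * (h * w₀ * h⁻¹)⁻¹ = h * (w₀ * (h⁻¹ * f 1 * h) * w₀⁻¹) * h⁻¹ := by group
        _ = _ := by rw [h2]; group
    rw [h1, b.p.φ.fπ] at h4
    simp only [Matrix.cons_val_zero, mul_one] at h4
    have h5 := mul_right_cancel h4
    have h6 := congrArg (fun x => π x 1) h5
    beta_reduce at h6
    rw [r.mul _ (b.eA _) _ (b.gA _), r.mul _ (hhπ _ (b.eA _)).1 _ (hhπ _ (b.gA _)).1, (hhπ _ (b.eA _)).2,
      (hhπ _ (b.gA _)).2, b.p.φ.eπ, b.p.φ.gπ r, b.p.φ.eπ, b.p.φ.gπ r] at h6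
    simp only [Pi.add_apply, Pi.zero_apply, Matrix.cons_val_one, mul_zero, add_zero] at h6
    have h7 : τ ^ 2 = (t₀ / t)⁻¹ * (t₀ ^ 2 * (t / t₀)) + 0 := h6
    apply hsqi
    rw [h7, add_zero]
    field_simp
  have hWf : ∀ t z, e (t ^ 2 * z) * g (t * z) ∈ W := by
    intro t z
    obtain ⟨w, hw, h1⟩ := hall t
    have h2 := h1 (f z) (b.fA z)
    rw [b.p.φ.fπ] at h2
    simp only [Matrix.cons_val_zero] at h2
    have h3 : w * (f z * w⁻¹ * (f z)⁻¹) ∈ W := mul_mem hw (hWn _ (hAH (b.fA z)) _ (inv_mem hw))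
    have h4 : w * (f z * w⁻¹ * (f z)⁻¹) = e (t ^ 2 * z) * g (t * z) := by
      calc w * (f z * w⁻¹ * (f z)⁻¹) = w * f z * w⁻¹ * (f z)⁻¹ := by group
        _ = _ := by rw [h2, mul_inv_cancel_right]
    rwa [h4] at h3
  obtain ⟨hWe, hWg⟩ := b.eg_le hWf
  obtain ⟨m, hm, n, hn, hmn⟩ := hX.all (wm 1 one_ne_zero)
  refine b.A_le hn hWe (fun z => ?_) fun u hu => ?_
  · rw [← hmn _ (b.eA z)]
    exact hWn m (hXH hm) _ (hWe z)
  · obtain ⟨y, rfl⟩ := b.mem_U_iff.1 hu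
    exact hWg y

/-- some elements of `A` and `A'` do not commute -/
theorem exists_nc [Finite F] : ∃ a ∈ A, ∃ n ∈ A', a * n ≠ n * a := by
  obtain ⟨n, hn, hI⟩ := b.exists_n 1
  refine ⟨f 1, b.fA 1, n, hn, fun h => ?_⟩
  have h2 := b.act_n hI (b.fA 1)
  rw [← h, mul_inv_cancel_right, b.p.φ.fπ] at h2
  simp only [Matrix.cons_val_zero, mul_one, one_pow] at h2
  have h3 : e 0 * g 0 = e 1 * g 1 := by
    rw [b.p.φ.e0, b.p.φ.g0, mul_one]
    exact (right_eq_mul.1 h2).symm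
  exact zero_ne_one (b.p.φ.eg_inj b.p.s.r h3).1

/-- **LEMMA END** -/
theorem lemma_end [Finite G] [Finite F] {X X' H : Subgroup G} (hX : XS L A A' U π X) (hX' : XS L' A' A U' π' X')
    (hXH : X ≤ H) (hX'H : X' ≤ H) (hH : H ⊓ centralizer (o2 H : Set G) ≤ o2 H)
    (hst : o2 H ⊓ CC U U' ≤ o2 (CC U U')) : False := by
  have r := b.p.s.r
  have hA'H : A' ≤ H := hX.A'X.trans hXH
  have hAH : A ≤ H := hX'.A'X.trans hX'H
  obtain ⟨W, hW⟩ : ∃ W, W = o2 H := ⟨_, rfl⟩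
  rw [← hW] at hH hst
  have hWp : IsPGroup 2 W := by rw [hW]; exact o2_isPGroup H
  have hWH : W ≤ H := by rw [hW]; exact o2_le H
  have hWn : ∀ h ∈ H, ∀ w ∈ W, h * w * h⁻¹ ∈ W := fun h hh w hw => by
    rw [hW] at hw ⊢
    exact cjm (le_normalizer_o2 H hh) hw
  have hWn' : ∀ h ∈ H, ∀ w ∈ W, h⁻¹ * w * h ∈ W := fun h hh w hw => by
    have := hWn h⁻¹ (inv_mem hh) w hw
    rwa [inv_inv] at this
  have hst' : W ⊓ CC U' U ≤ o2 (CC U' U) := by rw [EndL.cc_symm]; exact hst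
  -- `A' ≤ W` is impossible
  have hA'W : ¬ A' ≤ W := fun h => not_two b hWp (Y := X)
    (hX.gen W fun x hx n hn => hWn x (hXH hx) n (h hn)) hX.all
  obtain ⟨a₀, ha₀, n₀, hn₀, hnc⟩ := exists_nc b
  -- `D₀ = W ∩ C` centralises `A'` and `A`
  have hDA' : ∀ w ∈ W, w ∈ CC U U' → ∀ n ∈ A', w * n = n * w := by
    intro w hw hwC n hn
    by_contra hne
    exact hA'W (A_le_W b.symm hX' hX'H hA'H hWn hst' hw (by rw [EndL.cc_symm]; exact hwC) hn hne)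
  have hDA : ∀ w ∈ W, w ∈ CC U U' → ∀ a ∈ A, w * a = a * w := by
    intro w hw hwC a ha
    by_contra hne
    have hAW := A_le_W b hX hXH hAH hWn hst hw hwC ha hne
    exact hnc (hDA' a₀ (hAW ha₀) (b.AC ha₀) n₀ hn₀)
  set D : Subgroup G := W ⊓ CC U U' with hD
  have hDW : D ≤ W := inf_le_left
  have hCA : ∀ x : G, (∀ a ∈ A, x * a = a * x) → x ∈ CC U U' := fun x hx =>
    ⟨mem_centralizer_iff.2 fun u hu => (hx u (b.UA hu)).symm,
      mem_centralizer_iff.2 fun u hu => (hx u (b.U'A hu)).symm⟩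
  -- `X` centralises `D`
  have hXD : ∀ x ∈ X, ∀ d ∈ D, x * d = d * x := by
    have h1 : X ≤ centralizer (D : Set G) := hX.gen _ fun x hx n hn => by
      rw [mem_centralizer_iff]
      intro d hd
      have h2 : x⁻¹ * d * x ∈ D := by
        refine mem_inf.2 ⟨hWn' x (hXH hx) d hd.1, hCA _ fun a ha => ?_⟩
        have h3 := hDA d hd.1 hd.2 _ (hX.XA x hx a ha)
        calc x⁻¹ * d * x * a = x⁻¹ * (d * (x * a * x⁻¹)) * x := by group
          _ = x⁻¹ * ((x * a * x⁻¹) * d) * x := by rw [h3]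
          _ = _ := by group
      have h3 := hDA' _ h2.1 h2.2 n hn
      calc d * (x * n * x⁻¹) = x * (x⁻¹ * d * x * n) * x⁻¹ := by group
        _ = x * (n * (x⁻¹ * d * x)) * x⁻¹ := by rw [h3]
        _ = _ := by group
    exact fun x hx d hd => (mem_centralizer_iff.1 (h1 hx) d hd).symm
  -- `C_W(D) ≤ D`
  have hWD : ∀ w ∈ W, (∀ d ∈ D, w * d = d * w) → w ∈ D := by
    by_contra hcon
    push Not at hcon
    obtain ⟨w₁, hw₁, hw₁D, hw₁n⟩ := hcon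
    set W₅ : Subgroup G := W ⊓ centralizer (D : Set G) with hW₅
    have hW5p : IsPGroup 2 W₅ := hWp.to_le inf_le_left
    have hAW5 : ∀ a ∈ A, ∀ w ∈ W₅, a * w * a⁻¹ ∈ W₅ := fun a ha w hw =>
      mem_inf.2 ⟨hWn a (hAH ha) w hw.1, mem_centralizer_iff.2 fun d hd => by
        have h1 := hDA d hd.1 hd.2 a ha
        have h2 := mem_centralizer_iff.1 hw.2 d hd
        calc d * (a * w * a⁻¹) = (d * a) * w * a⁻¹ := by group
          _ = a * (d * w) * a⁻¹ := by rw [h1]; group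
          _ = a * w * (d * a⁻¹) := by rw [h2]; group
          _ = a * w * (a⁻¹ * d) := by
              have h3 : d * a⁻¹ = a⁻¹ * d := by
                calc d * a⁻¹ = a⁻¹ * (a * d) * a⁻¹ := by group
                  _ = a⁻¹ * (d * a) * a⁻¹ := by rw [h1]
                  _ = _ := by group
              rw [h3]
          _ = _ := by group⟩
    have hAn : A ≤ normalizer (W₅ : Set G) := fun a ha => mem_normalizer_of_conj fun w hw => hAW5 a ha w hw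
    have hAp : IsPGroup 2 A := fun x => ⟨1, Subtype.ext (by rw [pow_one, pow_two]; exact r.Vs _ x.2)⟩
    have hSp : IsPGroup 2 (A ⊔ W₅ : Subgroup G) := hAp.to_sup_of_normal_right' hW5p hAn
    have hZ : D ⊓ W₅ ≤ A ⊔ W₅ := inf_le_right.trans le_sup_right
    obtain ⟨w, hw, hwZ, hwc⟩ := RankTwoClose.UFour.exists_central_mod hSp (U := W₅) (V := D ⊓ W₅) le_sup_right hZ
      (sup_le (fun a ha => mem_normalizer_of_conj fun d hd => by
          have h1 := hDA d hd.1.1 hd.1.2 a ha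
          rw [fix_of_comm h1.symm]
          exact hd)
        (fun w hw => mem_normalizer_of_conj fun d hd => by
          have h1 := mem_centralizer_iff.1 hw.2 d hd.1
          rw [fix_of_comm h1.symm]
          exact hd))
      (sup_le hAn le_normalizer) (fun h => hw₁n (mem_inf.1 (h (mem_inf.2 ⟨hw₁,
        mem_centralizer_iff.2 fun d hd => (hw₁D d hd).symm⟩))).1)
    have hwD : w ∉ D := fun h => hwZ (mem_inf.2 ⟨h, hw⟩)
    have hwA : ∀ a ∈ A, w * a * w⁻¹ * a⁻¹ ∈ D := by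
      intro a ha
      have h1 := (mem_inf.1 (hwc a (mem_sup_left ha))).1
      have e1 : w * a * w⁻¹ * a⁻¹ = (a * w * a⁻¹ * w⁻¹)⁻¹ := by group
      rw [e1]; exact inv_mem h1
    -- `n w n⁻¹ = w d`
    have hwn : ∀ n ∈ A', ∃ d ∈ D, n * w * n⁻¹ = w * d := by
      intro n hn
      refine ⟨w⁻¹ * (n * w * n⁻¹), ?_, by group⟩
      have hk : ∀ k ∈ A, (∀ n ∈ A', n * k = k * n) → w⁻¹ * (n * w * n⁻¹) * k = k * (w⁻¹ * (n * w * n⁻¹)) := by
        intro k hk hkn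
        have h1 := hwA k hk
        have h2 := hDA' _ (mem_inf.1 h1).1 (mem_inf.1 h1).2 n hn
        have h3 : n * (w * k * w⁻¹ * k⁻¹) * n⁻¹ = w * k * w⁻¹ * k⁻¹ := fix_of_comm h2.symm
        have h4 : n * k * n⁻¹ = k := fix_of_comm (hkn n hn)
        have h5 : (n * w * n⁻¹) * k * (n * w * n⁻¹)⁻¹ = w * k * w⁻¹ := by
          have e1 : n * (w * k * w⁻¹ * k⁻¹) * n⁻¹ =
              (n * w * n⁻¹) * (n * k * n⁻¹) * (n * w * n⁻¹)⁻¹ * (n * k * n⁻¹)⁻¹ := by group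
          rw [e1, h4] at h3
          exact mul_right_cancel h3
        calc w⁻¹ * (n * w * n⁻¹) * k = w⁻¹ * ((n * w * n⁻¹) * k * (n * w * n⁻¹)⁻¹) * (n * w * n⁻¹) := by group
          _ = w⁻¹ * (w * k * w⁻¹) * (n * w * n⁻¹) := by rw [h5]
          _ = _ := by group
      have hnA' : ∀ u ∈ A, π u 0 = 0 → ∀ n ∈ A', n * u = u * n := fun u hu h0 => (b.p.s.cen u hu).2 h0
      refine mem_inf.2 ⟨mul_mem (inv_mem hw.1) (hWn n (hA'H hn) w hw.1),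
        mem_centralizer_iff.2 fun u hu => ?_, mem_centralizer_iff.2 fun u hu => ?_⟩
      · exact (hk u (b.UA hu) (hnA' u (b.UA hu) (by rw [(r.ker u (b.UA hu)).2 hu]; rfl))).symm
      · obtain ⟨z, rfl⟩ := b.mem_U'_iff.1 hu
        exact (hk _ (b.eA z) (hnA' _ (b.eA z) (by rw [b.p.φ.eπ]; rfl))).symm
    -- `w` centralises `e (t² z) g (t z)`
    have hK : ∀ t z, e (t ^ 2 * z) * g (t * z) ∈ centralizer ({w} : Set G) := by
      intro t z
      rw [mem_centralizer_singleton_iff]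
      obtain ⟨n, hn, hI⟩ := b.exists_n t
      obtain ⟨d, hd, hnd⟩ := hwn n hn
      obtain ⟨ρ, hρ⟩ : ∃ ρ, ρ = e (t ^ 2 * z) * g (t * z) := ⟨_, rfl⟩
      obtain ⟨a, ha⟩ : ∃ a, a = f z := ⟨_, rfl⟩
      have haA : a ∈ A := by rw [ha]; exact b.fA z
      have h1 := b.act_n hI haA
      have h2 : π a 0 = z := by rw [ha, b.p.φ.fπ]; rfl
      rw [h2, ← hρ] at h1
      rw [← hρ]
      have hρA : ρ ∈ A := by rw [hρ]; exact mul_mem (b.eA _) (b.gA _)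
      -- `k = [w, a]`
      obtain ⟨k, hk⟩ : ∃ k, k = w * a * w⁻¹ * a⁻¹ := ⟨_, rfl⟩
      have hkD : k ∈ D := by rw [hk]; exact hwA a haA
      have h3 : n * k * n⁻¹ = k := fix_of_comm (hDA' _ hkD.1 hkD.2 n hn).symm
      have h4 : n * k * n⁻¹ = w * (ρ * a) * w⁻¹ * (ρ * a)⁻¹ := by
        have h5 : d * (ρ * a) = ρ * a * d := hDA d hd.1 hd.2 _ (mul_mem hρA haA)
        calc n * k * n⁻¹ = (n * w * n⁻¹) * (n * a * n⁻¹) * (n * w * n⁻¹)⁻¹ * (n * a * n⁻¹)⁻¹ := by rw [hk]; group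
          _ = (w * d) * (ρ * a) * (w * d)⁻¹ * (ρ * a)⁻¹ := by rw [hnd, h1]
          _ = w * (d * (ρ * a)) * d⁻¹ * w⁻¹ * (ρ * a)⁻¹ := by group
          _ = w * (ρ * a * d) * d⁻¹ * w⁻¹ * (ρ * a)⁻¹ := by rw [h5]
          _ = _ := by group
      rw [h3] at h4
      have h5 : k * ρ = ρ * k := hDA k hkD.1 hkD.2 ρ hρA
      have h6 : w * ρ * w⁻¹ = ρ := by
        have h7 : w * ρ * w⁻¹ * k = ρ * k := by
          have h8 : w * (ρ * a) * w⁻¹ = k * (ρ * a) := by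
            calc w * (ρ * a) * w⁻¹ = w * (ρ * a) * w⁻¹ * (ρ * a)⁻¹ * (ρ * a) := by group
              _ = _ := by rw [← h4]
          have h9 : w * a * w⁻¹ = k * a := by rw [hk]; group
          have h10 : w * (ρ * a) * w⁻¹ = (w * ρ * w⁻¹) * (w * a * w⁻¹) := by group
          rw [h10, h9] at h8
          have h11 : w * ρ * w⁻¹ * k * a = ρ * k * a := by
            calc w * ρ * w⁻¹ * k * a = w * ρ * w⁻¹ * (k * a) := by group
              _ = k * (ρ * a) := h8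
              _ = k * ρ * a := by group
              _ = _ := by rw [h5]
          exact mul_right_cancel h11
        exact mul_right_cancel h7
      exact (comm_of_fix h6).symm
    obtain ⟨h1, h2⟩ := b.eg_le hK
    apply hwD
    refine mem_inf.2 ⟨hw.1, mem_centralizer_iff.2 fun u hu => ?_, mem_centralizer_iff.2 fun u hu => ?_⟩
    · obtain ⟨y, rfl⟩ := b.mem_U_iff.1 hu
      exact mem_centralizer_singleton_iff.1 (h2 y)
    · obtain ⟨z, rfl⟩ := b.mem_U'_iff.1 hu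
      exact mem_centralizer_singleton_iff.1 (h1 z)
  -- a perfect subgroup of `X`
  have hω : ∃ ω : F, ω ≠ 0 ∧ ω ^ 2 ≠ 1 := by
    obtain ⟨ω, h0, h1⟩ := b.p.ω
    refine ⟨ω, h0, fun h3 => h1 ?_⟩
    have h5 : (ω - 1) ^ 2 = 0 := by linear_combination h3 + (1 - ω) * r.two
    exact sub_eq_zero.1 (pow_eq_zero_iff two_ne_zero |>.1 h5)
  obtain ⟨Y, hYX, hYp, hYall⟩ := EndL.exists_perfect (like_mult r) hω _ X rfl hX.all
  have hYH : Y ≤ H := hYX.trans hXH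
  have hYW := perfect_up hWp hYp (fun y hy w hw => hWn y (hYH hy) w hw) hDW (fun y hy d hd => hXD y (hYX hy) d hd) hWD
  have hYW' : Y ≤ W := fun y hy => hH ⟨hYH hy, mem_centralizer_iff.2 fun w hw => (hYW y hy w hw).symm⟩
  exact not_two b hWp hYW' hYall

/-- **CvNonsplit, all `k, k'`, the end.** -/
theorem _root_.Cfsg.Agent.Omega.IId.Ns.BaseV.false_of [Finite G] [Finite F] (hG : IsCharacteristicTwoType G) {v : G}
    (hv : v ∈ V) (hvR : v ∉ U ⊔ U') (hvA' : ∀ n ∈ A', n * v = v * n) : False := by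
  obtain ⟨s, c⟩ := b.exists_core
  obtain ⟨s', c'⟩ := b.symm.exists_core
  obtain ⟨X, hX, hXO, hXd⟩ := exists_X b c
  obtain ⟨X', hX', hXO', hXd'⟩ := exists_X b.symm c'
  have hs : ∀ o ∈ OO A U U', (∀ n ∈ A', o * n = n * o) → o ∈ OO A' U' U := fun o ho h => OO_split b c hX hXO ho h
  have hdec : ∀ o ∈ OO A U U', o ∈ OO A' U' U → _ := fun o ho ho' => dec b hX hX' hXd hXd' hs ho ho'
  -- `F₀`
  set F₀ : Subgroup G := (OO A U U' ⊓ OO A' U' U) ⊓ (centralizer (X : Set G) ⊓ centralizer (X' : Set G)) with hF₀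
  have hF₀p : IsPGroup 2 F₀ := ((o2_isPGroup _).to_le inf_le_left).to_le inf_le_left
  have hvO : v ∈ OO A U U' := mem_OO b (b.UG_le_o2 (CoreOf.UG_self hv)) fun y hy =>
    b.ab _ (CoreOf.UG_self hv) _ (YC_UG b hy)
  have hvO' : v ∈ OO A' U' U := hs v hvO fun n hn => (hvA' n hn).symm
  have hF₀1 : F₀ ≠ ⊥ := by
    intro h0
    obtain ⟨u, hu, u', hu', y, hy, h1, h2, h3⟩ := hdec v hvO hvO'
    have hyF : y ∈ F₀ := mem_inf.2 ⟨hy, mem_inf.2 ⟨mem_centralizer_iff.2 h1, mem_centralizer_iff.2 h2⟩⟩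
    rw [h0, mem_bot] at hyF
    apply hvR
    rw [h3, hyF, mul_one]
    exact mul_mem (mem_sup_left hu) (mem_sup_right hu')
  -- `H = C_G(F₀)`
  have hH := NOne.LemmaT.char2_centralizer hG hF₀p hF₀1
  set H : Subgroup G := centralizer (F₀ : Set G) with hHd
  have hXH : X ≤ H := fun x hx => mem_centralizer_iff.2 fun y hy =>
    (mem_centralizer_iff.1 (mem_inf.1 (mem_inf.1 hy).2).1 x hx).symm
  have hX'H : X' ≤ H := fun x hx => mem_centralizer_iff.2 fun y hy =>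
    (mem_centralizer_iff.1 (mem_inf.1 (mem_inf.1 hy).2).2 x hx).symm
  -- `O₂(H) ∩ C ≤ O₂(C)`
  refine lemma_end b hX hX' hXH hX'H hH ?_
  set O₀ : Subgroup G := OO A U U' ⊓ OO A' U' U with hO₀
  have hUO : U ≤ O₀ := fun u hu => mem_inf.2 ⟨A_OO b (b.UA hu), A_OO b.symm (b.symm.U'A hu)⟩
  have hU'O : U' ≤ O₀ := fun u hu => mem_inf.2 ⟨A_OO b (b.U'A hu), A_OO b.symm (b.symm.UA hu)⟩
  have hF₀O : F₀ ≤ O₀ := inf_le_left
  set N : Subgroup G := centralizer (O₀ : Set G) with hN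
  have hNH : N ≤ H := fun x hx => mem_centralizer_iff.2 fun y hy => mem_centralizer_iff.1 hx y (hF₀O hy)
  have hNC : N ≤ CC U U' := fun x hx => ⟨mem_centralizer_iff.2 fun y hy => mem_centralizer_iff.1 hx y (hUO hy),
    mem_centralizer_iff.2 fun y hy => mem_centralizer_iff.1 hx y (hU'O hy)⟩
  have hCN : CC U U' ≤ normalizer (N : Set G) := by
    intro c hc
    refine norm_cent' (mem_normalizer_of_conj fun y hy => mem_inf.2 ⟨?_, ?_⟩)
    · exact cjm (OO_norm (YC_norm hc)) (mem_inf.1 hy).1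
    · refine cjm (OO_norm (YC_norm ?_)) (mem_inf.1 hy).2
      rw [EndL.cc_symm]; exact hc
  have h1 : o2 H ⊓ CC U U' ≤ o2 H ⊓ N := by
    intro w hw
    refine mem_inf.2 ⟨(mem_inf.1 hw).1, mem_centralizer_iff.2 fun y hy => ?_⟩
    obtain ⟨u, hu, u', hu', z, hz, hz1, hz2, rfl⟩ := hdec y (mem_inf.1 hy).1 (mem_inf.1 hy).2
    have hwC := (mem_inf.1 hw).2
    have hzF : z ∈ F₀ := mem_inf.2 ⟨hz, mem_inf.2 ⟨mem_centralizer_iff.2 hz1, mem_centralizer_iff.2 hz2⟩⟩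
    have hwz : z * w = w * z := mem_centralizer_iff.1 (o2_le _ (mem_inf.1 hw).1) z hzF
    have hwu := cc_l hwC hu
    have hwu' := cc_r hwC hu'
    calc u * u' * z * w = u * u' * (z * w) := by group
      _ = u * (u' * w) * z := by rw [hwz]; group
      _ = (u * w) * u' * z := by rw [← hwu']; group
      _ = w * (u * u' * z) := by rw [← hwu]; group
  have h2 : o2 H ⊓ N ≤ o2 N := by
    refine le_o2 inf_le_right ((o2_isPGroup _).to_le inf_le_left) fun x hx => mem_normalizer_of_conj fun w hw => ?_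
    exact mem_inf.2 ⟨cjm (le_normalizer_o2 _ (hNH hx)) (mem_inf.1 hw).1,
      mul_mem (mul_mem hx (mem_inf.1 hw).2) (inv_mem hx)⟩
  have h3 : o2 N ≤ o2 (CC U U') := le_o2 ((o2_le _).trans hNC) (o2_isPGroup _) fun c hc => norm_o2 (hCN hc)
  exact h1.trans (h2.trans h3)

end main

end EndV

end Cfsg.Agent.Omega.IId.Ns
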