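import Cfsg.Agent.Omega.IId.Ns.Defs

/-!
# Change of the field of `NatK`

`natKFld σ M : NatK F' S P V D k` for `σ : F ≃+* F'`, `M : NatK F S P V D k`.
-/

set_option autoImplicit false

namespace Cfsg.Agent.Omega.IId.Ns

open Subgroup Cfsg Cfsg.Agent.Omega.FFThm Cfsg.Agent.Lib.SL2Mat
open Cfsg.Agent.Omega.NatPair (ap ap_add ap_mul ap_one ap_inj ext2 ap_zero' ap_one' ap_inv_ap ap_ap_inv)

universe u

variable {G : Type u} [Group G] {F F' : Type} [Field F] [Field F']

/-- the image of a matrix -/
def slm (σ : F ≃+* F') (A : Matrix.SpecialLinearGroup (Fin 2) F) : Matrix.SpecialLinearGroup (Fin 2) F' :=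
  mk (σ (ent A 0 0)) (σ (ent A 0 1)) (σ (ent A 1 0)) (σ (ent A 1 1)) (by
    rw [← map_mul, ← map_mul, ← map_sub, det_eq, map_one])

theorem ap_slm (σ : F ≃+* F') (A : Matrix.SpecialLinearGroup (Fin 2) F) (x : Fin 2 → F) :
    ap (slm σ A) (fun j => σ (x j)) = fun j => σ (ap A x j) := by
  apply ext2
  · rw [ap_zero', ap_zero', map_add, map_mul, map_mul]; rfl
  · rw [ap_one', ap_one', map_add, map_mul, map_mul]; rfl

theorem slm_symm (σ : F ≃+* F') (A : Matrix.SpecialLinearGroup (Fin 2) F') : slm σ (slm σ.symm A) = A := by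
  refine ext_ent ?_ ?_ ?_ ?_ <;> simp [slm]

theorem slm_up (σ : F ≃+* F') (b : F) : slm σ (up b) = up (σ b) := by
  refine ext_ent ?_ ?_ ?_ ?_ <;> simp [slm]

section

variable {k : ℕ} (e : G → Fin k → Fin 2 → F) (V D : Subgroup G)

/-- the coordinates over the other field -/
def efld (σ : F ≃+* F') : G → Fin k → Fin 2 → F' := fun v i j => σ (e v i j)

theorem acts_fld (σ : F ≃+* F') {g : G} {A : Fin k → Matrix.SpecialLinearGroup (Fin 2) F}
    (h : ActsSL e V D g A) : ActsSL (efld e σ) V D g fun i => slm σ (A i) := by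
  refine ⟨fun v hv i => ?_, h.2⟩
  change (fun j => σ (e (g * v * g⁻¹) i j)) = ap _ fun j => σ (e v i j)
  rw [ap_slm, h.1 v hv i]

theorem acts_fld' (σ : F ≃+* F') {g : G} {A : Fin k → Matrix.SpecialLinearGroup (Fin 2) F'}
    (h : ActsSL (efld e σ) V D g A) : ActsSL e V D g fun i => slm σ.symm (A i) := by
  refine ⟨fun v hv i => ?_, h.2⟩
  have h1 := h.1 v hv i
  funext j
  apply σ.injective
  have h2 := congrFun (ap_slm σ (slm σ.symm (A i)) (e v i)) j
  rw [slm_symm] at h2
  rw [← h2]
  exact congrFun h1 j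

end

/-- **Change of the field.** -/
def natKFld (σ : F ≃+* F') {T H V D : Subgroup G} {k : ℕ} (M : NatK F T H V D k) : NatK F' T H V D k where
  e := efld M.e σ
  mul v hv w hw := by
    funext i j
    change σ (M.e (v * w) i j) = _
    rw [M.mul v hv w hw]
    exact map_add σ _ _
  surj x := by
    obtain ⟨v, hv, h⟩ := M.surj fun i j => σ.symm (x i j)
    refine ⟨v, hv, ?_⟩
    funext i j
    change σ (M.e v i j) = _
    rw [h, σ.apply_symm_apply]
  ker v hv := by
    rw [← M.ker v hv]
    constructor
    · intro h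
      funext i j
      apply σ.injective
      have := congrFun (congrFun h i) j
      change σ (M.e v i j) = 0 at this
      rw [this]; simp
    · intro h
      funext i j
      change σ (M.e v i j) = _
      rw [h]; exact map_zero σ
  lift A := by
    obtain ⟨g, hg, h⟩ := M.lift fun i => slm σ.symm (A i)
    refine ⟨g, hg, ?_⟩
    have h1 := acts_fld M.e V D σ h
    have e : (fun i => slm σ (slm σ.symm (A i))) = A := by
      funext i; exact slm_symm σ _
    rwa [e] at h1
  norm g hg h hh A hA := by
    obtain ⟨B, hB⟩ := M.norm g hg h hh (fun i => slm σ.symm (A i)) fun v hv i => by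
      have h1 := hA v hv i
      funext j
      apply σ.injective
      have h2 := congrFun (ap_slm σ (slm σ.symm (A i)) (M.e v i)) j
      rw [slm_symm] at h2
      rw [← h2]
      exact congrFun h1 j
    refine ⟨fun i => slm σ (B i), fun v hv i => ?_⟩
    change (fun j => σ (M.e (g * h * g⁻¹ * v * (g * h * g⁻¹)⁻¹) i j)) = ap _ fun j => σ (M.e v i j)
    rw [ap_slm, hB v hv i]
  perm g hg := by
    obtain ⟨τ, hτ⟩ := M.perm g hg
    refine ⟨τ, fun v hv i => ?_⟩
    have h0 : ∀ w j, efld M.e σ w j = 0 ↔ M.e w j = 0 := fun w j => by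
      constructor
      · intro h
        funext m
        apply σ.injective
        have := congrFun h m
        change σ (M.e w j m) = 0 at this
        rw [this]; simp
      · intro h
        funext m
        change σ (M.e w j m) = _
        rw [h]; exact map_zero σ
    rw [h0, h0]
    exact hτ v hv i
  trans i j := by
    obtain ⟨t, ht, h⟩ := M.trans i j
    refine ⟨t, ht, fun v hv => ?_⟩
    have h0 : ∀ w j, efld M.e σ w j = 0 ↔ M.e w j = 0 := fun w j => by
      constructor
      · intro h
        funext m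
        apply σ.injective
        have := congrFun h m
        change σ (M.e w j m) = 0 at this
        rw [this]; simp
      · intro h
        funext m
        change σ (M.e w j m) = _
        rw [h]; exact map_zero σ
    rw [h0, h0]
    exact h v hv
  line t ht := by
    obtain ⟨τ, hτ⟩ := M.line t ht
    refine ⟨τ, fun v hv i => ?_⟩
    change σ (M.e (t * v * t⁻¹) (τ i) 1) = 0 ↔ σ (M.e v i 1) = 0
    rw [map_eq_zero, map_eq_zero]
    exact hτ v hv i
  unip b := by
    obtain ⟨t, ht, h⟩ := M.unip fun i => σ.symm (b i)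
    refine ⟨t, ht, ?_⟩
    have h1 := acts_fld M.e V D σ h
    have e : (fun i => slm σ (up (σ.symm (b i)))) = fun i => up (b i) := by
      funext i; rw [slm_up, σ.apply_symm_apply]
    rwa [e] at h1
  gen K hK h := M.gen K hK fun x hx A hA => h x hx _ (acts_fld M.e V D σ hA)
  off A hA hoff := by
    obtain ⟨I, h1, h2⟩ := M.off A hA hoff
    refine ⟨I, fun a ha => ?_, fun b hb => ?_⟩
    · obtain ⟨b, hb, h⟩ := h1 a ha
      refine ⟨fun i => σ (b i), fun i hi => by
        change σ (b i) = 0
        rw [hb i hi, map_zero], ?_⟩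
      have h3 := acts_fld M.e V D σ h
      have e : (fun i => slm σ (up (b i))) = fun i => up (σ (b i)) := by
        funext i; exact slm_up σ _
      rwa [e] at h3
    · obtain ⟨a, ha, h⟩ := h2 (fun i => σ.symm (b i)) fun i hi => by rw [hb i hi, map_zero]
      refine ⟨a, ha, ?_⟩
      have h3 := acts_fld M.e V D σ h
      have e : (fun i => slm σ (up (σ.symm (b i)))) = fun i => up (b i) := by
        funext i; rw [slm_up, σ.apply_symm_apply]
      rwa [e] at h3

end Cfsg.Agent.Omega.IId.Ns
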