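import Cfsg.Agent.Omega.IId.Ns.HFac
import Cfsg.Agent.Omega.IId.Two
import Mathlib.FieldTheory.Finite.Basic

/-!
# II.d, `k = 2`, nonsplit: averaging over the tori

`A = Ω₁(Z(O₂(P)))`, `rh M i B : A → A` the action of the `i`-th factor, `eA M i` the average over the torus of the
`i`-th factor.

* `eA_idem`, `eA_comm`, `eA_conj` (`g ∈ S` maps the `i`-th factor to the `j`-th ==> `g (e_i a) = e_j (g a)` for `g a`
  fixed by the `j`-th root group), `eA_V` : `(1 - e_i) (1 - e_j) = 0` on `V`;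
* `claim` : `k = 2`, `f ∈ Ω₁(Z(T_i))` with `e_i f = 1` lies in `V`.
-/

set_option autoImplicit false
set_option linter.unusedSectionVars false

namespace Cfsg.Agent.Omega.IId.Ns

open Subgroup Cfsg Cfsg.Agent.ZN Cfsg.Agent.Omega.MinPar
open Cfsg.Agent.Omega.FrameFF Cfsg.Agent.Omega.FFThm Cfsg.Agent.Lib.SL2Mat
open Cfsg.Agent.Omega.NatPair (ap ap_add ap_mul ap_one ap_inj ext2 ap_zero' ap_one' ap_inv_ap ap_ap_inv)
open Cfsg.Agent.Omega.HOne (cv_le conj_mem_zl conj_mem_cv)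
open Cfsg.Agent.Omega.IId.Cv
open Cfsg.Agent.MinSimple.VModule (zc_comm zc_sq zc_le mem_zc le_normalizer_o2 normalizer_le_normalizer_zc zc_le_zl)

universe u

variable {G : Type u} [Group G] {F : Type} [Field F]

theorem dg_mul_dg (a b : F) (ha : a ≠ 0) (hb : b ≠ 0) : dg a ha * dg b hb = dg (a * b) (mul_ne_zero ha hb) := by
  refine ext_ent ?_ ?_ ?_ ?_ <;> simp [ent_mul]
  rw [mul_comm]

theorem A_mem {P : Subgroup G} {g z : G} (hg : g ∈ P) (hz : z ∈ zc (o2 P)) : g * z * g⁻¹ ∈ zc (o2 P) :=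
  (mem_normalizer_iff.1 (((Cfsg.Agent.MinSimple.VModule.le_normalizer_o2 P).trans (normalizer_le_normalizer_zc _)) hg) z).1 hz

/-- `A` is commutative -/
@[reducible] def aqComm (P : Subgroup G) : CommGroup ↥(zc (o2 P)) :=
  { (inferInstance : Group ↥(zc (o2 P))) with
    mul_comm := fun a b => Subtype.ext (zc_comm _ _ a.2 _ b.2) }

attribute [local instance] aqComm

/-- conjugation on `A` -/
def cA {P : Subgroup G} {x : G} (hx : x ∈ P) : ↥(zc (o2 P)) →* ↥(zc (o2 P)) where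
  toFun a := ⟨x * a * x⁻¹, A_mem hx a.2⟩
  map_one' := Subtype.ext (by show x * 1 * x⁻¹ = 1; group)
  map_mul' a b := Subtype.ext (by show x * (a * b) * x⁻¹ = x * a * x⁻¹ * (x * b * x⁻¹); group)

theorem cA_val {P : Subgroup G} {x : G} (hx : x ∈ P) (a : ↥(zc (o2 P))) : ((cA hx a : ↥(zc (o2 P))) : G) = x * a * x⁻¹ :=
  rfl

theorem A_sq {P : Subgroup G} (a : ↥(zc (o2 P))) : a * a = 1 := by
  apply Subtype.ext
  show (a : G) * a = 1
  rw [← pow_two]; exact zc_sq _ _ a.2

theorem A_inv {P : Subgroup G} (a : ↥(zc (o2 P))) : a⁻¹ = a := inv_eq_of_mul_eq_one_left (A_sq a)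

section avg

variable [Finite G] [CharP F 2] (hG : IsCharacteristicTwoType G) (S : Sylow 2 G) {P : Subgroup G}
  (h : IsParS (S : Subgroup G) P) {k : ℕ} (hk : 0 < k)
  (M : NatK F (S : Subgroup G) P (zl (S : Subgroup G) P) (cv (S : Subgroup G) P) k)

/-- a lift -/
noncomputable def lf (i : Fin k) (B : Matrix.SpecialLinearGroup (Fin 2) F) : G := Classical.choose (exists_Al M i B)

theorem lf_spec (i : Fin k) (B : Matrix.SpecialLinearGroup (Fin 2) F) : Al M i (lf S M i B) B :=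
  Classical.choose_spec (exists_Al M i B)

/-- the action of the `i`-th factor on `A` -/
noncomputable def rh (i : Fin k) (B : Matrix.SpecialLinearGroup (Fin 2) F) : ↥(zc (o2 P)) →* ↥(zc (o2 P)) :=
  cA (lf_spec S M i B).1

include hG h hk in
theorem rh_val {i : Fin k} {x : G} {B : Matrix.SpecialLinearGroup (Fin 2) F} (hx : Al M i x B) (a : ↥(zc (o2 P))) :
    ((rh S M i B a : ↥(zc (o2 P))) : G) = x * a * x⁻¹ :=
  Al.eq_A hG S h hk (lf_spec S M i B) hx a.2

include hG h hk in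
theorem rh_mul (i : Fin k) (B C : Matrix.SpecialLinearGroup (Fin 2) F) (a : ↥(zc (o2 P))) :
    rh S M i (B * C) a = rh S M i B (rh S M i C a) := by
  apply Subtype.ext
  rw [rh_val hG S h hk M ((lf_spec S M i B).mul (lf_spec S M i C)), rh_val hG S h hk M (lf_spec S M i B),
    rh_val hG S h hk M (lf_spec S M i C)]
  group

include hG h hk in
theorem rh_one (i : Fin k) (a : ↥(zc (o2 P))) : rh S M i 1 a = a := by
  apply Subtype.ext
  rw [rh_val hG S h hk M (Al.one i)]
  group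

include hG h hk in
theorem rh_comm {i j : Fin k} (hij : i ≠ j) (B C : Matrix.SpecialLinearGroup (Fin 2) F) (a : ↥(zc (o2 P))) :
    rh S M i B (rh S M j C a) = rh S M j C (rh S M i B a) := by
  apply Subtype.ext
  rw [rh_val hG S h hk M (lf_spec S M i B), rh_val hG S h hk M (lf_spec S M j C),
    rh_val hG S h hk M (lf_spec S M j C), rh_val hG S h hk M (lf_spec S M i B)]
  exact Al.comm_A hG S h hk hij (lf_spec S M i B) (lf_spec S M j C) a.2

/-- `V` as a subgroup of `A` -/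
def VA (P : Subgroup G) : Subgroup ↥(zc (o2 P)) := (zl (S : Subgroup G) P).subgroupOf (zc (o2 P))

theorem mem_VA {a : ↥(zc (o2 P))} : a ∈ VA S P ↔ (a : G) ∈ zl (S : Subgroup G) P := mem_subgroupOf

theorem cA_VA {x : G} (hx : x ∈ P) {a : ↥(zc (o2 P))} (ha : a ∈ VA S P) : cA hx a ∈ VA S P :=
  (mem_VA S).2 (conj_mem_zl hx ((mem_VA S).1 ha))

theorem rh_VA (i : Fin k) (B : Matrix.SpecialLinearGroup (Fin 2) F) {a : ↥(zc (o2 P))} (ha : a ∈ VA S P) :
    rh S M i B a ∈ VA S P := cA_VA S _ ha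

variable [Fintype F] [DecidableEq F]

/-- the average over the torus of the `i`-th factor -/
noncomputable def eA (i : Fin k) : ↥(zc (o2 P)) →* ↥(zc (o2 P)) := ∏ l : Fˣ, rh S M i (dg (l : F) l.ne_zero)

theorem eA_apply (i : Fin k) (a : ↥(zc (o2 P))) : eA S M i a = ∏ l : Fˣ, rh S M i (dg (l : F) l.ne_zero) a := by
  rw [eA, MonoidHom.finsetProd_apply]

omit [Finite G] [CharP F 2] in
theorem odd_units [CharP F 2] : Odd (Fintype.card Fˣ) := by
  have h1 : 2 ∣ Fintype.card F := by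
    rw [← CharP.cast_eq_zero_iff F 2]
    exact FiniteField.cast_card_eq_zero F
  have h2 : 0 < Fintype.card F := Fintype.card_pos
  rw [Fintype.card_units]
  obtain ⟨m, hm⟩ := h1
  rw [Nat.odd_iff]
  omega

omit [Finite G] in
theorem prod_const_A (a : ↥(zc (o2 P))) : ∏ _l : Fˣ, a = a := by
  rw [Finset.prod_const, Finset.card_univ]
  obtain ⟨m, hm⟩ := odd_units (F := F)
  rw [hm, pow_succ, pow_mul, pow_two, A_sq, one_pow, one_mul]

theorem eA_of_fix {i : Fin k} {a : ↥(zc (o2 P))} (ha : ∀ B, rh S M i B a = a) : eA S M i a = a := by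
  rw [eA_apply]
  calc ∏ l : Fˣ, rh S M i (dg (l : F) l.ne_zero) a = ∏ _l : Fˣ, a := Finset.prod_congr rfl fun l _ => ha _
    _ = a := prod_const_A a

theorem eA_VA {i : Fin k} {a : ↥(zc (o2 P))} (ha : a ∈ VA S P) : eA S M i a ∈ VA S P := by
  rw [eA_apply]
  exact Subgroup.prod_mem _ fun l _ => rh_VA S M i _ ha

include hG h hk in
theorem eA_tor (i : Fin k) (m : Fˣ) (a : ↥(zc (o2 P))) : rh S M i (dg (m : F) m.ne_zero) (eA S M i a) = eA S M i a := by
  rw [eA_apply, map_prod]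
  refine Fintype.prod_equiv (Equiv.mulLeft m) _ _ fun l => ?_
  rw [← rh_mul hG S h hk, dg_mul_dg]
  rfl

include hG h hk in
theorem eA_idem (i : Fin k) (a : ↥(zc (o2 P))) : eA S M i (eA S M i a) = eA S M i a := by
  conv_lhs => rw [eA_apply]
  calc ∏ l : Fˣ, rh S M i (dg (l : F) l.ne_zero) (eA S M i a) = ∏ _l : Fˣ, eA S M i a :=
        Finset.prod_congr rfl fun l _ => eA_tor hG S h hk M i l a
    _ = _ := prod_const_A _

include hG h hk in
theorem eA_comm {i j : Fin k} (hij : i ≠ j) (a : ↥(zc (o2 P))) : eA S M i (eA S M j a) = eA S M j (eA S M i a) := by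
  have h1 : eA S M i (eA S M j a) =
      ∏ m : Fˣ, ∏ l : Fˣ, rh S M i (dg (l : F) l.ne_zero) (rh S M j (dg (m : F) m.ne_zero) a) := by
    rw [eA_apply S M j, map_prod]
    exact Finset.prod_congr rfl fun m _ => eA_apply S M i _
  have h2 : eA S M j (eA S M i a) =
      ∏ m : Fˣ, ∏ l : Fˣ, rh S M j (dg (m : F) m.ne_zero) (rh S M i (dg (l : F) l.ne_zero) a) := by
    rw [eA_apply S M j]
    refine Finset.prod_congr rfl fun m _ => ?_
    rw [eA_apply S M i, map_prod]
  rw [h1, h2]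
  exact Finset.prod_congr rfl fun m _ => Finset.prod_congr rfl fun l _ => rh_comm hG S h hk M hij _ _ a

include hG h hk in
/-- `g (e_i a) = e_j (g a)` -/
theorem eA_conj {g : G} (hg : g ∈ (S : Subgroup G)) {i j : Fin k} (hm : Mv M g i j) {a : ↥(zc (o2 P))}
    (ha : ∀ c, rh S M j (up c) (cA (h.le hg) a) = cA (h.le hg) a) :
    cA (h.le hg) (eA S M i a) = eA S M j (cA (h.le hg) a) := by
  have hgP := h.le hg
  have key : ∀ l : Fˣ, ∃ (m : Fˣ) (c : F),
      Al M j (g * lf S M i (dg (l : F) l.ne_zero) * g⁻¹) (dg (m : F) m.ne_zero * up c) := fun l =>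
    conj_Al_line h.le hg hm (by simp) (lf_spec S M i (dg (l : F) l.ne_zero))
  choose μ c hμ using key
  have hinj : Function.Injective μ := by
    intro l l' hll
    set x := lf S M i (dg (l : F) l.ne_zero) with hx
    set x' := lf S M i (dg (l' : F) l'.ne_zero) with hx'
    have hAx : Al M i x (dg (l : F) l.ne_zero) := lf_spec S M i _
    have hAx' : Al M i x' (dg (l' : F) l'.ne_zero) := lf_spec S M i _
    set z := x * x'⁻¹ * (x * x'⁻¹) with hz
    have h1 : Al M i z (dg (l : F) l.ne_zero * (dg (l' : F) l'.ne_zero)⁻¹ *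
        (dg (l : F) l.ne_zero * (dg (l' : F) l'.ne_zero)⁻¹)) :=
      (hAx.mul hAx'.inv).mul (hAx.mul hAx'.inv)
    have h2 : Al M j (g * z * g⁻¹) 1 := by
      have h3 := ((hμ l).mul (hμ l').inv).mul ((hμ l).mul (hμ l').inv)
      have e1 : g * x * g⁻¹ * (g * x' * g⁻¹)⁻¹ * (g * x * g⁻¹ * (g * x' * g⁻¹)⁻¹) = g * z * g⁻¹ := by
        rw [hz]; group
      rw [← hx, ← hx', e1, ← hll] at h3
      refine h3.of_eq ?_
      have e2 : dg (μ l : F) (μ l).ne_zero * up (c l) * (dg (μ l : F) (μ l).ne_zero * up (c l'))⁻¹ =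
          dg (μ l : F) (μ l).ne_zero * up (c l - c l') * (dg (μ l : F) (μ l).ne_zero)⁻¹ := by
        rw [mul_inv_rev, up_inv, sub_eq_add_neg, ← up_mul]
        group
      rw [e2]
      have e3 : up (c l - c l') * up (c l - c l') = 1 := by
        rw [up_mul, CharTwo.add_self_eq_zero, up_zero]
      calc dg (μ l : F) (μ l).ne_zero * up (c l - c l') * (dg (μ l : F) (μ l).ne_zero)⁻¹ *
            (dg (μ l : F) (μ l).ne_zero * up (c l - c l') * (dg (μ l : F) (μ l).ne_zero)⁻¹)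
          = dg (μ l : F) (μ l).ne_zero * (up (c l - c l') * up (c l - c l')) * (dg (μ l : F) (μ l).ne_zero)⁻¹ := by
            group
        _ = 1 := by rw [e3]; group
    obtain ⟨v, hv, hvi, -⟩ := exists_single (M := M) i ![1, 0]
    have h3 := Al.eq_V hG S h hk h2 (Al.one j) (conj_mem_zl hgP hv)
    have h4 : z * v * z⁻¹ = v := by
      calc z * v * z⁻¹ = g⁻¹ * (g * z * g⁻¹ * (g * v * g⁻¹) * (g * z * g⁻¹)⁻¹) * g := by group
        _ = g⁻¹ * (1 * (g * v * g⁻¹) * 1⁻¹) * g := by rw [h3]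
        _ = v := by group
    have h5 := h1.same hv
    rw [h4, hvi, ap_mul, ap_mul, ap_mul] at h5
    have h6 : ∀ (y : Fin 2 → F), ap (dg (l' : F) l'.ne_zero)⁻¹ y = ![(l' : F)⁻¹ * y 0, (l' : F) * y 1] := by
      intro y
      apply ext2
      · rw [ap_zero']; simp [ent_inv]
      · rw [ap_one']; simp [ent_inv]
    have h7 := congrFun h5 0
    rw [ap_zero', h6, ap_zero', h6] at h7
    simp at h7
    have h8 : ((l : F) * (l' : F)⁻¹ + 1) ^ 2 = 0 := by
      have htwo : (2 : F) = 0 := CharTwo.two_eq_zero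
      linear_combination (-h7 + (1 + (l : F) * (l' : F)⁻¹) * htwo)
    have h9 := pow_eq_zero_iff two_ne_zero |>.1 h8
    have h10 : (l : F) * (l' : F)⁻¹ = 1 := by
      have htwo : (2 : F) = 0 := CharTwo.two_eq_zero
      linear_combination h9 - htwo
    apply Units.ext
    have hl' := l'.ne_zero
    field_simp at h10
    exact h10
  rw [eA_apply, eA_apply, map_prod]
  have h1 : ∀ l : Fˣ, cA hgP (rh S M i (dg (l : F) l.ne_zero) a) =
      rh S M j (dg (μ l : F) (μ l).ne_zero) (cA hgP a) := by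
    intro l
    have h2 : cA hgP (rh S M i (dg (l : F) l.ne_zero) a) = rh S M j (dg (μ l : F) (μ l).ne_zero * up (c l)) (cA hgP a) := by
      apply Subtype.ext
      rw [rh_val hG S h hk M (hμ l), cA_val, cA_val, rh_val hG S h hk M (lf_spec S M i _)]
      group
    rw [h2, rh_mul hG S h hk, ha]
  calc ∏ l : Fˣ, cA hgP (rh S M i (dg (l : F) l.ne_zero) a)
      = ∏ l : Fˣ, rh S M j (dg (μ l : F) (μ l).ne_zero) (cA hgP a) := Finset.prod_congr rfl fun l _ => h1 l
    _ = _ := (Finite.injective_iff_bijective.1 hinj).prod_comp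
        (fun m : Fˣ => rh S M j (dg (m : F) m.ne_zero) (cA hgP a))

include hG h hk in
/-- `(1 - e_i) (1 - e_j) = 0` on `V` -/
theorem eA_V (hF : 4 ≤ Nat.card F) {i j : Fin k} (hij : i ≠ j) {v : ↥(zc (o2 P))} (hv : v ∈ VA S P) :
    v * eA S M j v * (eA S M i v * eA S M i (eA S M j v)) = 1 := by
  have h1 : v * eA S M j v = ∏ m : Fˣ, (v * rh S M j (dg (m : F) m.ne_zero) v) := by
    rw [Finset.prod_mul_distrib, prod_const_A, eA_apply]
  have h2 : ∀ m : Fˣ, eA S M i (v * rh S M j (dg (m : F) m.ne_zero) v) = v * rh S M j (dg (m : F) m.ne_zero) v := by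
    intro m
    apply eA_of_fix
    intro B
    have hV : ((v * rh S M j (dg (m : F) m.ne_zero) v : ↥(zc (o2 P))) : G) ∈ zl (S : Subgroup G) P :=
      (mem_VA S).1 (mul_mem hv (rh_VA S M j _ hv))
    apply Subtype.ext
    rw [rh_val hG S h hk M (lf_spec S M i B)]
    refine fix_ker hG S h hk hF (lf_spec S M i B) hV ?_
    show M.e ((v : G) * (rh S M j (dg (m : F) m.ne_zero) v : ↥(zc (o2 P)))) i = 0
    rw [rh_val hG S h hk M (lf_spec S M j _), M.mul _ ((mem_VA S).1 hv) _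
      ((lf_spec S M j _).V ((mem_VA S).1 hv)), Pi.add_apply, (lf_spec S M j _).ne ((mem_VA S).1 hv) hij]
    funext x
    exact CharTwo.add_self_eq_zero _
  have h3 : eA S M i (v * eA S M j v) = v * eA S M j v := by
    rw [h1, map_prod]
    exact Finset.prod_congr rfl fun m _ => h2 m
  rw [← map_mul, h3, A_sq]

end avg

/-! ### Two factors -/

section two

variable [Finite G] [CharP F 2] (hG : IsCharacteristicTwoType G) (S : Sylow 2 G) {P : Subgroup G}
  (h : IsParS (S : Subgroup G) P)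
  (M : NatK F (S : Subgroup G) P (zl (S : Subgroup G) P) (cv (S : Subgroup G) P) 2)

omit [Finite G] [CharP F 2] in
theorem two_cases {i j : Fin 2} (hij : i ≠ j) (m : Fin 2) : m = i ∨ m = j := by
  revert i j m
  decide

include h

theorem mem_Tc_iff {g : G} (hg : g ∈ (S : Subgroup G)) (i : Fin 2) : g ∈ Tc M i ↔ Mv M g i i :=
  ⟨fun h1 => h1.2, fun h1 => ⟨⟨hg, h.le hg⟩, h1⟩⟩

variable {M} {i j : Fin 2} (hij : i ≠ j)

omit h in
include hij in
theorem Mv_other {g : G} (hg : g ∈ P) (h1 : Mv M g i i) : Mv M g j j := by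
  obtain ⟨m, hm⟩ := exists_Mv (M := M) hg j
  rcases two_cases hij m with rfl | rfl
  · exact absurd (h1.unique' hm hg) hij
  · exact hm

omit h in
include hij in
theorem Mv_swap {g : G} (hg : g ∈ P) (h1 : ¬ Mv M g i i) : Mv M g i j ∧ Mv M g j i := by
  obtain ⟨m, hm⟩ := exists_Mv (M := M) hg i
  obtain ⟨n, hn⟩ := exists_Mv (M := M) hg j
  rcases two_cases hij m with rfl | rfl
  · exact absurd hm h1
  refine ⟨hm, ?_⟩
  rcases two_cases hij n with rfl | rfl
  · exact hn
  · exact absurd (hm.unique' hn hg) hij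

include hij in
theorem exists_swap : ∃ s ∈ (S : Subgroup G), s ∉ Tc M i ∧ Mv M s i j ∧ Mv M s j i := by
  obtain ⟨s, hs, h1⟩ := M.trans i j
  have h2 : ¬ Mv M s i i := fun h3 => hij (Mv.unique (M := M) h3 h1 (h.le hs))
  exact ⟨s, hs, fun h3 => h2 h3.2, Mv_swap S hij (h.le hs) h2⟩

include hij in
theorem Tc_eq : Tc M i = Tc M j := by
  ext g
  constructor
  · rintro ⟨⟨h1, h2⟩, h3⟩
    exact ⟨⟨h1, h2⟩, Mv_other S hij h2 h3⟩
  · rintro ⟨⟨h1, h2⟩, h3⟩
    exact ⟨⟨h1, h2⟩, Mv_other S hij.symm h2 h3⟩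

omit h in
theorem Tc_le_S (i : Fin 2) : Tc M i ≤ (S : Subgroup G) := fun _ h => h.1.1

omit h in
theorem Tc_le_P (i : Fin 2) : Tc M i ≤ P := fun _ h => h.1.2

include hij in
theorem Tc_cosets : ∀ a ∈ (S : Subgroup G), ∀ b ∈ (S : Subgroup G), a ∉ Tc M i → b ∉ Tc M i → a⁻¹ * b ∈ Tc M i := by
  intro a ha b hb ha1 hb1
  have h1 := Mv_swap S hij (h.le ha) fun h1 => ha1 ((mem_Tc_iff S h M ha i).2 h1)
  have h2 := Mv_swap S hij (h.le hb) fun h1 => hb1 ((mem_Tc_iff S h M hb i).2 h1)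
  exact (mem_Tc_iff S h M (mul_mem (inv_mem ha) hb) i).2 ((h1.1.inv (h.le ha)).mul h2.1 (h.le hb))

include hij in
theorem card_Tc : Nat.card (S : Subgroup G) = 2 * Nat.card (Tc M i) := by
  obtain ⟨s, hs, hs1, -⟩ := exists_swap S h (M := M) hij
  have hco := Tc_cosets S h (M := M) hij
  have hidx : ((Tc M i).subgroupOf (S : Subgroup G)).index = 2 := by
    rw [Subgroup.index_eq_two_iff]
    refine ⟨⟨s, hs⟩, fun b => ?_⟩
    change Xor ((b : G) * s ∈ Tc M i) ((b : G) ∈ Tc M i)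
    by_cases hb : (b : G) ∈ Tc M i
    · right
      exact ⟨hb, fun h3 => hs1 ((mul_mem_cancel_left hb).1 h3)⟩
    · left
      refine ⟨?_, hb⟩
      have h3 := hco (b : G)⁻¹ (inv_mem b.2) s hs (fun h4 => hb (inv_mem_iff.1 h4)) hs1
      rwa [inv_inv] at h3
  have h1 := Half.card_mul_relIndex (Tc_le_S S (M := M) i)
  rw [relIndex, hidx] at h1
  rw [← h1, mul_comm]

include hij in
theorem S_norm_Tc : (S : Subgroup G) ≤ normalizer (Tc M i : Set G) :=
  Two.le_normalizer_of fun _ hs _ ht => Two.conj_mem_of_two (Tc_le_S S i) (Tc_cosets S h hij) hs ht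

theorem exists_unip (i : Fin 2) (c : F) : ∃ t ∈ Tc M i, Al M i t (up c) := by
  classical
  obtain ⟨t, ht, h1⟩ := M.unip (Function.update 0 i c)
  have e : (fun m => up ((Function.update (0 : Fin 2 → F) i c) m)) = one1 i (up c) := by
    funext m
    by_cases hm : m = i
    · subst hm; rw [Function.update_self, one1_same]
    · rw [Function.update_of_ne hm, one1_ne hm, Pi.zero_apply, up_zero]
  rw [e] at h1
  refine ⟨t, ⟨⟨ht, h.le ht⟩, fun v hv => ?_⟩, h.le ht, h1⟩
  rw [h1.1 v hv i, ap_eq_zero]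

include hG in
theorem V_le_Tc (i : Fin 2) : zl (S : Subgroup G) P ≤ Tc M i := by
  intro x hx
  have hxS : x ∈ (S : Subgroup G) := (h.isLoc.o2_le S) (zc_le _ (zl_le_A hG S h hx))
  refine ⟨⟨hxS, h.le hxS⟩, fun v hv => ?_⟩
  have h1 : x * v = v * x := zc_comm _ _ (zl_le_A hG S h hx) _ (zl_le_A hG S h hv)
  rw [h1, mul_inv_cancel_right]

include hG in
theorem o2_le_Tc (i : Fin 2) : o2 P ≤ Tc M i := by
  intro x hx
  have hxS : x ∈ (S : Subgroup G) := (h.isLoc.o2_le S) hx
  refine ⟨⟨hxS, h.le hxS⟩, fun v hv => ?_⟩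
  have h1 : x * v = v * x := (mem_zc.1 (zl_le_A hG S h hv)).2.1 x hx
  rw [h1, mul_inv_cancel_right]

include hG in
theorem zc_Tc_le (i : Fin 2) : zc (Tc M i) ≤ zc (o2 P) := by
  intro f hf
  obtain ⟨h1, h2, h3⟩ := mem_zc.1 hf
  have h4 : f ∈ o2 P :=
    h.isLoc.char2 S hG (mem_inf.2 ⟨Tc_le_P S i h1, mem_centralizer_iff.2 fun x hx => h2 x (o2_le_Tc hG S h i hx)⟩)
  exact mem_zc.2 ⟨h4, fun x hx => h2 x (o2_le_Tc hG S h i hx), h3⟩

include hij in
/-- `S = T ∪ s T` -/
theorem S_cases {s : G} (hs : s ∈ (S : Subgroup G)) (hs1 : s ∉ Tc M i) {g : G} (hg : g ∈ (S : Subgroup G)) :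
    g ∈ Tc M i ∨ ∃ t ∈ Tc M i, g = s * t := by
  by_cases h1 : g ∈ Tc M i
  · exact Or.inl h1
  · exact Or.inr ⟨s⁻¹ * g, Tc_cosets S h hij s hs g hg hs1 h1, by group⟩

include hG hij in
theorem unip_fix {f : ↥(zc (o2 P))} (hf : (f : G) ∈ zc (Tc M i)) (m : Fin 2) (c : F) : rh S M m (up c) f = f := by
  have hT : Tc M m = Tc M i := by
    rcases two_cases hij m with rfl | rfl
    · rfl
    · exact (Tc_eq S h hij).symm
  obtain ⟨t, ht, hA⟩ := exists_unip S h (M := M) m c
  apply Subtype.ext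
  rw [rh_val hG S h two_pos M hA, (mem_zc.1 hf).2.1 t (hT ▸ ht), mul_inv_cancel_right]

variable [Fintype F] [DecidableEq F]

include hG hij in
/-- **CLAIM** -/
theorem claim (hF : 4 ≤ Nat.card F) {f : ↥(zc (o2 P))} (hf : (f : G) ∈ zc (Tc M i)) (he : eA S M i f = 1) :
    f ∈ VA S P := by
  obtain ⟨s, hs, hs1, hsij, hsji⟩ := exists_swap S h (M := M) hij
  have hsP := h.le hs
  have hk : 0 < 2 := two_pos
  have hnT := S_norm_Tc S h (M := M) hij
  -- `s f`
  set sf := cA hsP f with hsf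
  have hsfT : (sf : G) ∈ zc (Tc M i) := (mem_normalizer_iff.1 (normalizer_le_normalizer_zc _ (hnT hs)) _).1 hf
  have hfu := unip_fix hG S h hij hf
  have hsu := unip_fix hG S h hij hsfT
  have hcj : cA hsP (eA S M j f) = eA S M i sf := eA_conj hG S h hk M hs hsji (fun c => hsu i c)
  have hci : cA hsP (eA S M i f) = eA S M j sf := eA_conj hG S h hk M hs hsij (fun c => hsu j c)
  rw [he, map_one] at hci
  -- an element of `A` fixed by `T` and `s` lies in `V`
  have hfix : ∀ a : ↥(zc (o2 P)), (∀ t ∈ Tc M i, t * (a : G) = a * t) → cA hsP a = a → a ∈ VA S P := by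
    intro a h1 h2
    rw [mem_VA]
    apply zc_le_zl
    rw [mem_zc]
    refine ⟨(h.isLoc.o2_le S) (zc_le _ a.2), fun g hg => ?_, zc_sq _ _ a.2⟩
    have h3 : s * (a : G) = a * s := by
      have := congrArg Subtype.val h2
      rw [cA_val] at this
      exact mul_inv_eq_iff_eq_mul.1 this
    rcases S_cases S h hij hs hs1 hg with h4 | ⟨t, ht, rfl⟩
    · exact h1 g h4
    · rw [mul_assoc, h1 t ht, ← mul_assoc, h3, mul_assoc]
  have hTf : ∀ t ∈ Tc M i, t * (f : G) = f * t := fun t ht => (mem_zc.1 hf).2.1 t ht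
  have hTsf : ∀ t ∈ Tc M i, t * (sf : G) = sf * t := fun t ht => (mem_zc.1 hsfT).2.1 t ht
  -- `s (s f) = f`
  have hss : cA hsP sf = f := by
    have h1 : s * s ∈ Tc M i := by
      have := Tc_cosets S h hij s⁻¹ (inv_mem hs) s hs (fun h4 => hs1 (inv_mem_iff.1 h4)) hs1
      rwa [inv_inv] at this
    apply Subtype.ext
    rw [cA_val, hsf, cA_val]
    calc s * (s * (f : G) * s⁻¹) * s⁻¹ = (s * s) * f * (s * s)⁻¹ := by group
      _ = f := by rw [hTf _ h1, mul_inv_cancel_right]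
  -- `p = f · s f`
  have hp : f * sf ∈ VA S P := by
    apply hfix
    · intro t ht
      show t * ((f : G) * sf) = (f : G) * sf * t
      rw [← mul_assoc, hTf t ht, mul_assoc, hTsf t ht, ← mul_assoc]
    · rw [map_mul, hss, ← hsf, mul_comm]
  have hpe := eA_V hG S h hk M hF hij hp
  have hejp : eA S M j (f * sf) = eA S M j f := by rw [map_mul, ← hci, mul_one]
  have hij1 : eA S M i (eA S M j f) = 1 := by rw [eA_comm hG S h hk M hij, he, map_one]
  rw [hejp, hij1, mul_one, map_mul, he, one_mul] at hpe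
  -- `c = f · e_j f`
  have hc : f * eA S M j f ∈ VA S P := by
    apply hfix
    · intro t ht
      have htS := Tc_le_S S i ht
      have htf : cA (h.le htS) f = f := by
        apply Subtype.ext
        rw [cA_val, hTf t ht, mul_inv_cancel_right]
      have h1 := eA_conj hG S h hk M htS (Mv_other S hij (h.le htS) ht.2) (a := f) (fun c => by rw [htf]; exact hfu j c)
      rw [htf] at h1
      have h2 : t * ((eA S M j f : ↥(zc (o2 P))) : G) = (eA S M j f : ↥(zc (o2 P))) * t := by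
        have := congrArg Subtype.val h1
        rw [cA_val] at this
        exact mul_inv_eq_iff_eq_mul.1 this
      show t * ((f : G) * (eA S M j f : ↥(zc (o2 P)))) = (f : G) * (eA S M j f : ↥(zc (o2 P))) * t
      rw [← mul_assoc, hTf t ht, mul_assoc, h2, ← mul_assoc]
    · rw [map_mul, hcj, ← hsf]
      -- `(f e_j f) (s f e_i (s f)) = 1`
      have h1 : (f * eA S M j f) * (sf * eA S M i sf) = 1 := by
        rw [← hpe]
        simp only [mul_comm, mul_left_comm]
      rw [← A_inv (f * eA S M j f)]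
      exact eq_inv_of_mul_eq_one_right h1
  have hce := eA_V hG S h hk M hF hij hc
  have hejc : eA S M j (f * eA S M j f) = 1 := by rw [map_mul, eA_idem hG S h hk, A_sq]
  rw [hejc, map_one, mul_one, mul_one, map_mul, he, hij1, mul_one, mul_one] at hce
  -- `f = e_j f`
  have hfe : f = eA S M j f := by
    rw [← A_inv (eA S M j f)]
    exact eq_inv_of_mul_eq_one_left hce
  rw [hfe, ← hejp]
  exact eA_VA S M hp

end two

end Cfsg.Agent.Omega.IId.Ns
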