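import Cfsg.Agent.Omega.IId.Ns.Defs
import Cfsg.Agent.Omega.IId.LFour.CenO2
import Cfsg.Agent.Omega.IId.Cv.HalfGen

/-!
# II.d, `k = 2`, nonsplit: the action of the `i`-th factor

`M : NatK F S P V D k`, `V = zl S P`, `D = cv S P`, `Al M i x B` : `x ∈ P` acts as `B` on the `i`-th factor of `V / D`
only and centralises `D`.

* `same_V`, `same_A` : elements of `P` with the same matrices act in the same way on `V` and on `Ω₁(Z(O₂(P)))`;
* `fix_ker` : `|F| ≥ 4` ==> `Al M i x B` centralises every `v ∈ V` without `i`-th coordinate;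
* `fix_line` : `Al M i x (up c)` centralises every `v ∈ V` whose `i`-th coordinate is on the line;
* `Mv M g i j` : `g` maps the `i`-th factor to the `j`-th; `conj_Al`, `conj_line`.
-/

set_option autoImplicit false
set_option linter.unusedSectionVars false

namespace Cfsg.Agent.Omega.IId.Ns

open Subgroup Cfsg Cfsg.Agent.ZN Cfsg.Agent.ZN.ChoiceSit Cfsg.Agent.ZN.ChoiceBase Cfsg.Agent.Omega.MinPar
open Cfsg.Agent.Omega.FrameFF Cfsg.Agent.Omega.FFThm Cfsg.Agent.Lib.SL2Mat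
open Cfsg.Agent.Omega.NatPair (ap ap_add ap_mul ap_one ap_inj ext2 ap_zero' ap_one' ap_inv_ap ap_ap_inv)
open Cfsg.Agent.Omega.HOne (cv_le conj_mem_zl conj_mem_cv)
open Cfsg.Agent.Omega.IId.Cv
open Cfsg.Agent.MinSimple.VModule (zc_comm zc_sq zc_le mem_zc le_normalizer_o2)

universe u

variable {G : Type u} [Group G] {F : Type} [Field F]

theorem ap_zero2 (A : Matrix.SpecialLinearGroup (Fin 2) F) : ap A (0 : Fin 2 → F) = 0 := by
  apply ext2
  · rw [ap_zero']; simp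
  · rw [ap_one']; simp

theorem ap_up2 (a : F) (x : Fin 2 → F) : ap (up a) x = ![x 0 + a * x 1, x 1] := by
  apply ext2
  · rw [ap_zero']; simp
  · rw [ap_one']; simp

theorem ap_eq_zero {A : Matrix.SpecialLinearGroup (Fin 2) F} {x : Fin 2 → F} : ap A x = 0 ↔ x = 0 := by
  constructor
  · intro h
    rw [← ap_inv_ap A x, h, ap_zero2]
  · rintro rfl
    exact ap_zero2 A

theorem exists_omega [Finite F] (hF : 4 ≤ Nat.card F) : ∃ ω : F, ω ≠ 0 ∧ ω ≠ 1 := by
  classical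
  by_contra hcon
  push Not at hcon
  have h1 : Nat.card F ≤ 2 := by
    have := Fintype.ofFinite F
    rw [Nat.card_eq_fintype_card]
    calc Fintype.card F = (Finset.univ : Finset F).card := rfl
      _ ≤ ({0, 1} : Finset F).card := Finset.card_le_card fun x _ => by
          by_cases h0 : x = 0
          · simp [h0]
          · simp [hcon x h0]
      _ ≤ 2 := Finset.card_le_two
  omega

section gen

variable {S P : Subgroup G} {k : ℕ} (M : NatK F S P (zl S P) (cv S P) k)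

/-- `x` acts as `B` on the `i`-th factor only. -/
def Al (i : Fin k) (x : G) (B : Matrix.SpecialLinearGroup (Fin 2) F) : Prop :=
  x ∈ P ∧ ActsSL M.e (zl S P) (cv S P) x (one1 i B)

theorem exists_Al (i : Fin k) (B : Matrix.SpecialLinearGroup (Fin 2) F) : ∃ x, Al M i x B := by
  obtain ⟨g, hg, h⟩ := M.lift (one1 i B)
  exact ⟨g, hg, h⟩

variable {M}

theorem Al.mem_Fc {i : Fin k} {x : G} {B : Matrix.SpecialLinearGroup (Fin 2) F} (h : Al M i x B) : x ∈ Fc M i :=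
  ⟨h.1, B, h.2⟩

theorem exists_of_Fc {i : Fin k} {x : G} (h : x ∈ Fc M i) : ∃ B, Al M i x B := by
  obtain ⟨h1, B, h2⟩ := h
  exact ⟨B, h1, h2⟩

theorem Al.mul {i : Fin k} {x y : G} {A B : Matrix.SpecialLinearGroup (Fin 2) F} (hx : Al M i x A) (hy : Al M i y B) :
    Al M i (x * y) (A * B) := by
  refine ⟨mul_mem hx.1 hy.1, ?_⟩
  have h := acts_mul M hx.1 hy.1 hx.2 hy.2
  rwa [show (fun j => one1 i A j * one1 i B j) = one1 i (A * B) from funext (one1_mul i A B)] at h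

theorem one1_inv {i : Fin k} (A : Matrix.SpecialLinearGroup (Fin 2) F) : (fun j => (one1 i A j)⁻¹) = one1 i A⁻¹ := by
  funext j
  by_cases h : j = i
  · subst h; rw [one1_same, one1_same]
  · rw [one1_ne h, one1_ne h, inv_one]

theorem Al.inv {i : Fin k} {x : G} {A : Matrix.SpecialLinearGroup (Fin 2) F} (hx : Al M i x A) :
    Al M i x⁻¹ A⁻¹ := by
  refine ⟨inv_mem hx.1, ?_⟩
  have h := acts_inv M hx.1 hx.2
  rwa [one1_inv] at h

theorem Al.one (i : Fin k) : Al M i 1 1 := by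
  refine ⟨one_mem _, ?_⟩
  rw [one1_one]; exact acts_one M

theorem Al.of_eq {i : Fin k} {x : G} {A B : Matrix.SpecialLinearGroup (Fin 2) F} (hx : Al M i x A) (h : A = B) :
    Al M i x B := h ▸ hx

theorem Al.same {i : Fin k} {x : G} {B : Matrix.SpecialLinearGroup (Fin 2) F} (hx : Al M i x B) {v : G}
    (hv : v ∈ zl S P) : M.e (x * v * x⁻¹) i = ap B (M.e v i) := by
  rw [hx.2.1 v hv i, one1_same]

theorem Al.ne {i : Fin k} {x : G} {B : Matrix.SpecialLinearGroup (Fin 2) F} (hx : Al M i x B) {v : G}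
    (hv : v ∈ zl S P) {j : Fin k} (hj : j ≠ i) : M.e (x * v * x⁻¹) j = M.e v j := by
  rw [hx.2.1 v hv j, one1_ne hj, ap_one]

theorem Al.D {i : Fin k} {x : G} {B : Matrix.SpecialLinearGroup (Fin 2) F} (hx : Al M i x B) {d : G}
    (hd : d ∈ cv S P) : x * d = d * x := hx.2.2 d hd

theorem Al.V {i : Fin k} {x : G} {B : Matrix.SpecialLinearGroup (Fin 2) F} (hx : Al M i x B) {v : G}
    (hv : v ∈ zl S P) : x * v * x⁻¹ ∈ zl S P := conj_mem_zl hx.1 hv

/-- `[x, v] ∈ D` if `v` has no `i`-th coordinate -/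
theorem Al.comm_mem {i : Fin k} {x : G} {B : Matrix.SpecialLinearGroup (Fin 2) F} (hx : Al M i x B) {v : G}
    (hv : v ∈ zl S P) (h0 : M.e v i = 0) : x * v * x⁻¹ * v⁻¹ ∈ cv S P := by
  rw [← eq_iff M (hx.V hv) hv]
  funext j
  by_cases hj : j = i
  · rw [hj, hx.same hv, h0, ap_zero2]
  · rw [hx.ne hv hj]

/-- `[x, v]` has no `j`-th coordinate, `j ≠ i` -/
theorem Al.comm_ne {i : Fin k} {x : G} {B : Matrix.SpecialLinearGroup (Fin 2) F} (hx : Al M i x B) {v : G}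
    (hv : v ∈ zl S P) {j : Fin k} (hj : j ≠ i) : M.e (x * v * x⁻¹ * v⁻¹) j = 0 := by
  rw [e_div M (hx.V hv) hv, Pi.sub_apply, hx.ne hv hj, sub_self]

theorem Al.comm_same {i : Fin k} {x : G} {B : Matrix.SpecialLinearGroup (Fin 2) F} (hx : Al M i x B) {v : G}
    (hv : v ∈ zl S P) : M.e (x * v * x⁻¹ * v⁻¹) i = ap B (M.e v i) - M.e v i := by
  rw [e_div M (hx.V hv) hv, Pi.sub_apply, hx.same hv]

/-- a group computation -/
theorem commute_of_two {a b v d₁ d₂ : G} (h1 : a * v * a⁻¹ = d₁ * v) (h2 : b * v * b⁻¹ = d₂ * v)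
    (c1 : a * d₂ = d₂ * a) (c2 : b * d₁ = d₁ * b) (c3 : d₁ * d₂ = d₂ * d₁) :
    a⁻¹ * b⁻¹ * a * b * v = v * (a⁻¹ * b⁻¹ * a * b) := by
  have e1 : a * (b * v * b⁻¹) * a⁻¹ = d₂ * (d₁ * v) := by
    rw [h2, ← h1]
    calc a * (d₂ * v) * a⁻¹ = (a * d₂) * v * a⁻¹ := by group
      _ = _ := by rw [c1]; group
  have e2 : b * (a * v * a⁻¹) * b⁻¹ = d₁ * (d₂ * v) := by
    rw [h1, ← h2]
    calc b * (d₁ * v) * b⁻¹ = (b * d₁) * v * b⁻¹ := by group
      _ = _ := by rw [c2]; group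
  have e3 : a * (b * v * b⁻¹) * a⁻¹ = b * (a * v * a⁻¹) * b⁻¹ := by
    rw [e1, e2, ← mul_assoc, ← mul_assoc, c3]
  have e4 : a⁻¹ * b⁻¹ * a * b * v * (a⁻¹ * b⁻¹ * a * b)⁻¹ = v := by
    calc a⁻¹ * b⁻¹ * a * b * v * (a⁻¹ * b⁻¹ * a * b)⁻¹ = a⁻¹ * b⁻¹ * (a * (b * v * b⁻¹) * a⁻¹) * b * a := by group
      _ = a⁻¹ * b⁻¹ * (b * (a * v * a⁻¹) * b⁻¹) * b * a := by rw [e3]
      _ = v := by group
  exact mul_inv_eq_iff_eq_mul.1 e4

variable (M)

/-- `g` maps the `i`-th factor to the `j`-th. -/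
def Mv (g : G) (i j : Fin k) : Prop := ∀ v ∈ zl S P, M.e (g * v * g⁻¹) j = 0 ↔ M.e v i = 0

variable {M}

theorem Mv.mul {g g' : G} {i j l : Fin k} (h : Mv M g j l) (h' : Mv M g' i j) (hg' : g' ∈ P) : Mv M (g * g') i l := by
  intro v hv
  have e : g * g' * v * (g * g')⁻¹ = g * (g' * v * g'⁻¹) * g⁻¹ := by group
  rw [e, h _ (conj_mem_zl hg' hv), h' v hv]

theorem Mv.inv {g : G} {i j : Fin k} (h : Mv M g i j) (hg : g ∈ P) : Mv M g⁻¹ j i := by
  intro v hv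
  have h1 := h _ (conj_mem_zl (inv_mem hg) hv)
  have e : g * (g⁻¹ * v * g⁻¹⁻¹) * g⁻¹ = v := by group
  rw [e] at h1
  exact h1.symm

theorem exists_single (i : Fin k) (y : Fin 2 → F) : ∃ v ∈ zl S P, M.e v i = y ∧ ∀ j, j ≠ i → M.e v j = 0 := by
  classical
  obtain ⟨v, hv, h⟩ := M.surj (fun j => if j = i then y else 0)
  refine ⟨v, hv, by rw [h]; simp, fun j hj => by rw [h]; simp [hj]⟩

theorem Mv.unique {g : G} {i j j' : Fin k} (h : Mv M g i j) (h' : Mv M g i j') (hg : g ∈ P) : j = j' := by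
  by_contra hne
  obtain ⟨u, hu, h1, h2⟩ := exists_single (M := M) j ![1, 0]
  have hv : g⁻¹ * u * g ∈ zl S P := by
    have := conj_mem_zl (inv_mem hg) hu
    rwa [inv_inv] at this
  have e : g * (g⁻¹ * u * g) * g⁻¹ = u := by group
  have h3 := h _ hv
  have h4 := h' _ hv
  rw [e] at h3 h4
  have h5 := h3.2 (h4.1 (h2 j' (Ne.symm hne)))
  rw [h1] at h5
  have := congrFun h5 0
  simp at this

theorem Mv.unique' {g : G} {i i' j : Fin k} (h : Mv M g i j) (h' : Mv M g i' j) (hg : g ∈ P) : i = i' :=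
  (h.inv hg).unique (h'.inv hg) (inv_mem hg)

theorem exists_Mv {g : G} (hg : g ∈ P) (i : Fin k) : ∃ j, Mv M g i j := by
  obtain ⟨σ, hσ⟩ := M.perm g hg
  exact ⟨σ i, fun v hv => hσ v hv i⟩

theorem exists_Mv' {g : G} (hg : g ∈ P) (j : Fin k) : ∃ i, Mv M g i j := by
  obtain ⟨i, hi⟩ := exists_Mv (M := M) (inv_mem hg) j
  refine ⟨i, ?_⟩
  have := hi.inv (inv_mem hg)
  rwa [inv_inv] at this

/-- `g x g⁻¹` acts on the `j`-th factor only -/
theorem conj_Al {g x : G} {i j : Fin k} (hg : g ∈ P) (hm : Mv M g i j) {B : Matrix.SpecialLinearGroup (Fin 2) F}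
    (hx : Al M i x B) : ∃ B', Al M j (g * x * g⁻¹) B' := by
  obtain ⟨C, hC⟩ := M.norm g hg x hx.1 _ hx.2.1
  refine ⟨C j, mul_mem (mul_mem hg hx.1) (inv_mem hg), fun v hv m => ?_, fun d hd => ?_⟩
  · by_cases hmj : m = j
    · subst hmj; rw [one1_same]; exact hC v hv m
    · rw [one1_ne hmj, ap_one]
      obtain ⟨l, hl⟩ := exists_Mv' (M := M) hg m
      have hli : l ≠ i := by
        rintro rfl
        exact hmj (hl.unique hm hg)
      have hu : g⁻¹ * v * g ∈ zl S P := by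
        have := conj_mem_zl (inv_mem hg) hv
        rwa [inv_inv] at this
      have h1 := hx.comm_ne hu hli
      have h2 := (hl _ (mul_mem (hx.V hu) (inv_mem hu))).2 h1
      have hgx : g * x * g⁻¹ ∈ P := mul_mem (mul_mem hg hx.1) (inv_mem hg)
      have e : g * (x * (g⁻¹ * v * g) * x⁻¹ * (g⁻¹ * v * g)⁻¹) * g⁻¹ =
          (g * x * g⁻¹ * v * (g * x * g⁻¹)⁻¹) * v⁻¹ := by group
      rw [e, e_div M (conj_mem_zl hgx hv) hv, Pi.sub_apply, sub_eq_zero] at h2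
      exact h2
  · have hd' : g⁻¹ * d * g ∈ cv S P := by
      have := conj_mem_cv (inv_mem hg) hd
      rwa [inv_inv] at this
    have h1 := hx.D hd'
    calc g * x * g⁻¹ * d = g * (x * (g⁻¹ * d * g)) * g⁻¹ := by group
      _ = g * ((g⁻¹ * d * g) * x) * g⁻¹ := by rw [h1]
      _ = d * (g * x * g⁻¹) := by group

/-- `S` preserves the lines -/
theorem conj_line (hSP : S ≤ P) {g : G} (hg : g ∈ S) {i j : Fin k} (hm : Mv M g i j) {v : G} (hv : v ∈ zl S P) :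
    M.e (g * v * g⁻¹) j 1 = 0 ↔ M.e v i 1 = 0 := by
  obtain ⟨σ, hσ⟩ := M.line g hg
  have hgP := hSP hg
  have h1 : σ i = j := by
    by_contra hne
    obtain ⟨u, hu, h1, h2⟩ := exists_single (M := M) (σ i) ![0, 1]
    have hv : g⁻¹ * u * g ∈ zl S P := by
      have := conj_mem_zl (inv_mem hgP) hu
      rwa [inv_inv] at this
    have e : g * (g⁻¹ * u * g) * g⁻¹ = u := by group
    have h3 := hm _ hv
    have h4 := hσ _ hv i
    rw [e] at h3 h4
    rw [h3.1 (h2 j (Ne.symm hne)), h1] at h4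
    simp at h4
  rw [← h1]
  exact hσ v hv i

/-- an upper triangular element of `SL₂(F)` -/
theorem exists_dg_up {B : Matrix.SpecialLinearGroup (Fin 2) F} (h : ent B 1 0 = 0) :
    ∃ (m : Fˣ) (c : F), B = dg (m : F) m.ne_zero * up c := by
  have hd := det_eq B
  rw [h, mul_zero, sub_zero] at hd
  have h0 : ent B 0 0 ≠ 0 := fun h0 => by rw [h0, zero_mul] at hd; exact zero_ne_one hd
  have h11 : ent B 1 1 = (ent B 0 0)⁻¹ := by
    field_simp
    rw [mul_comm]; exact hd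
  refine ⟨Units.mk0 _ h0, (ent B 0 0)⁻¹ * ent B 0 1, ext_ent ?_ ?_ ?_ ?_⟩
  · simp [ent_mul]
  · simp [ent_mul, h0]
  · simp [ent_mul, h]
  · simp [ent_mul, h11]

/-- for `g ∈ S` and `B` upper triangular, `g x g⁻¹` acts as an upper triangular matrix -/
theorem conj_Al_line (hSP : S ≤ P) {g x : G} {i j : Fin k} (hg : g ∈ S) (hm : Mv M g i j)
    {B : Matrix.SpecialLinearGroup (Fin 2) F} (hB : ent B 1 0 = 0) (hx : Al M i x B) :
    ∃ (m : Fˣ) (c : F), Al M j (g * x * g⁻¹) (dg (m : F) m.ne_zero * up c) := by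
  have hgP := hSP hg
  obtain ⟨B', hB'⟩ := conj_Al hgP hm hx
  have h1 : ent B' 1 0 = 0 := by
    obtain ⟨u, hu, h1, -⟩ := exists_single (M := M) j ![1, 0]
    have hv : g⁻¹ * u * g ∈ zl S P := by
      have := conj_mem_zl (inv_mem hgP) hu
      rwa [inv_inv] at this
    have e : g * (g⁻¹ * u * g) * g⁻¹ = u := by group
    have h2 := conj_line hSP hg hm hv
    rw [e, h1] at h2
    have h3 : M.e (g⁻¹ * u * g) i 1 = 0 := h2.1 rfl
    have h4 : M.e (x * (g⁻¹ * u * g) * x⁻¹) i 1 = 0 := by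
      rw [hx.same hv, ap_one', hB, h3]; ring
    have h5 := (conj_line hSP hg hm (hx.V hv)).2 h4
    have e2 : g * (x * (g⁻¹ * u * g) * x⁻¹) * g⁻¹ = (g * x * g⁻¹) * u * (g * x * g⁻¹)⁻¹ := by group
    rw [e2, hB'.same hu, h1, ap_one'] at h5
    simpa using h5
  obtain ⟨m, c, h2⟩ := exists_dg_up h1
  exact ⟨m, c, hB'.of_eq h2⟩

end gen

/-! ### Rigidity -/

section rigid

variable [Finite G] [CharP F 2] (hG : IsCharacteristicTwoType G) (S : Sylow 2 G) {P : Subgroup G}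
  (h : IsParS (S : Subgroup G) P) {k : ℕ} (hk : 0 < k)
  (M : NatK F (S : Subgroup G) P (zl (S : Subgroup G) P) (cv (S : Subgroup G) P) k)

include hG h hk

/-- elements with the same matrices act in the same way on `V` -/
theorem same_V {x y : G} (hx : x ∈ P) (hy : y ∈ P) {A : Fin k → Matrix.SpecialLinearGroup (Fin 2) F}
    (hxA : ActsSL M.e (zl (S : Subgroup G) P) (cv (S : Subgroup G) P) x A)
    (hyA : ActsSL M.e (zl (S : Subgroup G) P) (cv (S : Subgroup G) P) y A) :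
    ∀ v ∈ zl (S : Subgroup G) P, x * v * x⁻¹ = y * v * y⁻¹ := by
  intro v hv
  have h1 := acts_mul M (inv_mem hx) hy (acts_inv M hx hxA) hyA
  have h2 : x⁻¹ * y ∈ kern M := by
    refine ⟨mul_mem (inv_mem hx) hy, fun w hw => funext fun i => ?_⟩
    rw [h1.1 w hw i]
    show ap ((A i)⁻¹ * A i) (M.e w i) = _
    rw [inv_mul_cancel, ap_one]
  have h3 := comm_of_kern hG S h M hk h2 h1.2 v hv
  calc x * v * x⁻¹ = x * (v * (x⁻¹ * y)) * y⁻¹ := by group
    _ = x * ((x⁻¹ * y) * v) * y⁻¹ := by rw [h3]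
    _ = _ := by group

omit hk in
/-- elements of `P` which act in the same way on `V` act in the same way on `Ω₁(Z(O₂(P)))` -/
theorem same_of_V {x y : G} (hx : x ∈ P) (hy : y ∈ P)
    (hxy : ∀ v ∈ zl (S : Subgroup G) P, x * v * x⁻¹ = y * v * y⁻¹) {a : G} (ha : a ∈ zc (o2 P)) :
    x * a * x⁻¹ = y * a * y⁻¹ := by
  have h1 : x⁻¹ * y ∈ P ⊓ centralizer (zl (S : Subgroup G) P : Set G) := by
    refine mem_inf.2 ⟨mul_mem (inv_mem hx) hy, mem_centralizer_iff.2 fun v hv => ?_⟩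
    have h2 := hxy v hv
    calc v * (x⁻¹ * y) = x⁻¹ * (x * v * x⁻¹) * y := by group
      _ = x⁻¹ * (y * v * y⁻¹) * y := by rw [h2]
      _ = _ := by group
  have h3 := mem_centralizer_iff.1 (LFour.le_centralizer_zc_o2 hG S h h1) a ha
  calc x * a * x⁻¹ = x * (a * (x⁻¹ * y)) * y⁻¹ := by group
    _ = x * ((x⁻¹ * y) * a) * y⁻¹ := by rw [h3]
    _ = _ := by group

/-- elements with the same matrices act in the same way on `Ω₁(Z(O₂(P)))` -/
theorem same_A {x y : G} (hx : x ∈ P) (hy : y ∈ P) {A : Fin k → Matrix.SpecialLinearGroup (Fin 2) F}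
    (hxA : ActsSL M.e (zl (S : Subgroup G) P) (cv (S : Subgroup G) P) x A)
    (hyA : ActsSL M.e (zl (S : Subgroup G) P) (cv (S : Subgroup G) P) y A) {a : G} (ha : a ∈ zc (o2 P)) :
    x * a * x⁻¹ = y * a * y⁻¹ :=
  same_of_V hG S h hx hy (same_V hG S h hk M hx hy hxA hyA) ha

variable {M}

theorem Al.eq_V {i : Fin k} {x y : G} {B : Matrix.SpecialLinearGroup (Fin 2) F} (hx : Al M i x B) (hy : Al M i y B)
    {v : G} (hv : v ∈ zl (S : Subgroup G) P) : x * v * x⁻¹ = y * v * y⁻¹ :=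
  same_V hG S h hk M hx.1 hy.1 hx.2 hy.2 v hv

theorem Al.eq_A {i : Fin k} {x y : G} {B : Matrix.SpecialLinearGroup (Fin 2) F} (hx : Al M i x B) (hy : Al M i y B)
    {a : G} (ha : a ∈ zc (o2 P)) : x * a * x⁻¹ = y * a * y⁻¹ :=
  same_A hG S h hk M hx.1 hy.1 hx.2 hy.2 ha

/-- factors commute on `Ω₁(Z(O₂(P)))` -/
theorem Al.comm_A {i j : Fin k} (hij : i ≠ j) {x y : G} {A B : Matrix.SpecialLinearGroup (Fin 2) F}
    (hx : Al M i x A) (hy : Al M j y B) {a : G} (ha : a ∈ zc (o2 P)) :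
    x * (y * a * y⁻¹) * x⁻¹ = y * (x * a * x⁻¹) * y⁻¹ := by
  have h1 := acts_mul M hx.1 hy.1 hx.2 hy.2
  have h2 := acts_mul M hy.1 hx.1 hy.2 hx.2
  have e : (fun m => one1 i A m * one1 j B m) = fun m => one1 j B m * one1 i A m := by
    funext m
    by_cases hm : m = i
    · subst hm; rw [one1_ne hij, mul_one, one_mul]
    · rw [one1_ne hm, mul_one, one_mul]
  rw [e] at h1
  have h3 := same_A hG S h hk M (mul_mem hx.1 hy.1) (mul_mem hy.1 hx.1) h1 h2 ha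
  calc x * (y * a * y⁻¹) * x⁻¹ = x * y * a * (x * y)⁻¹ := by group
    _ = y * x * a * (y * x)⁻¹ := h3
    _ = _ := by group

omit hk in
theorem zl_le_A : zl (S : Subgroup G) P ≤ zc (o2 P) := h.isLoc.zl_le S hG

omit hG h hk in
theorem sq_A {a : G} (ha : a ∈ zc (o2 P)) : a * a = 1 := by
  rw [← pow_two]; exact zc_sq _ a ha

variable (M) in
/-- the elements `B` such that the lifts of `one1 i B` centralise the vectors without `i`-th coordinate -/
def Gd (i : Fin k) (B : Matrix.SpecialLinearGroup (Fin 2) F) : Prop :=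
  ∀ x, Al M i x B → ∀ v ∈ zl (S : Subgroup G) P, M.e v i = 0 → x * v = v * x

omit hk in
omit hG h in
theorem Gd.conj {i : Fin k} {B : Matrix.SpecialLinearGroup (Fin 2) F} (hB : Gd S M i B)
    (A : Matrix.SpecialLinearGroup (Fin 2) F) : Gd S M i (A * B * A⁻¹) := by
  intro x hx v hv h0
  obtain ⟨n, hn⟩ := exists_Al M i A
  have h1 : Al M i (n⁻¹ * x * n) B := ((hn.inv.mul hx).mul hn).of_eq (by group)
  have hu : n⁻¹ * v * n⁻¹⁻¹ ∈ zl (S : Subgroup G) P := hn.inv.V hv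
  have h2 : M.e (n⁻¹ * v * n⁻¹⁻¹) i = 0 := by rw [hn.inv.same hv, h0, ap_zero2]
  have h3 := hB _ h1 _ hu h2
  calc x * v = n * (n⁻¹ * x * n * (n⁻¹ * v * n⁻¹⁻¹)) * n⁻¹ := by group
    _ = n * ((n⁻¹ * v * n⁻¹⁻¹) * (n⁻¹ * x * n)) * n⁻¹ := by rw [h3]
    _ = _ := by group

theorem Gd.mul {i : Fin k} {A B : Matrix.SpecialLinearGroup (Fin 2) F} (hA : Gd S M i A) (hB : Gd S M i B) :
    Gd S M i (A * B) := by
  intro x hx v hv h0
  obtain ⟨y, hy⟩ := exists_Al M i A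
  obtain ⟨z, hz⟩ := exists_Al M i B
  have h1 := Al.eq_V hG S h hk hx (hy.mul hz) hv
  have h2 := hA y hy v hv h0
  have h3 := hB z hz v hv h0
  have h4 : y * z * v * (y * z)⁻¹ = v := by
    calc y * z * v * (y * z)⁻¹ = y * (z * v) * z⁻¹ * y⁻¹ := by group
      _ = y * v * y⁻¹ := by rw [h3]; group
      _ = v := by rw [h2]; group
  rw [h4] at h1
  exact mul_inv_eq_iff_eq_mul.1 h1

theorem Gd_up [Finite F] (hF : 4 ≤ Nat.card F) (i : Fin k) (c : F) : Gd S M i (up c) := by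
  obtain ⟨ω, h0, h1⟩ := exists_omega hF
  have htwo : (2 : F) = 0 := CharTwo.two_eq_zero
  have hne : ω⁻¹ ^ 2 + 1 ≠ 0 := by
    intro h2
    have h3 : (ω⁻¹ + 1) ^ 2 = 0 := by linear_combination h2 + ω⁻¹ * htwo
    have h4 := pow_eq_zero_iff two_ne_zero |>.1 h3
    apply h1
    have h5 : ω⁻¹ = 1 := by linear_combination h4 - htwo
    rw [← inv_inv ω, h5, inv_one]
  obtain ⟨c', hc'⟩ : ∃ c', (ω⁻¹ ^ 2 + 1) * c' = c := ⟨c / (ω⁻¹ ^ 2 + 1), mul_div_cancel₀ _ hne⟩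
  have e1 : (dg ω h0)⁻¹ * (up c')⁻¹ * dg ω h0 * up c' = up c := by
    have e2 := dg_up ω (ω⁻¹ ^ 2 * -c') h0
    have e3 : ω ^ 2 * (ω⁻¹ ^ 2 * -c') = -c' := by field_simp
    rw [e3] at e2
    rw [up_inv, mul_assoc (dg ω h0)⁻¹, ← e2, inv_mul_cancel_left, up_mul]
    congr 1
    linear_combination hc' - (ω⁻¹ ^ 2 * c') * htwo
  intro x hx v hv hv0
  obtain ⟨a, ha⟩ := exists_Al M i (dg ω h0)
  obtain ⟨b, hb⟩ := exists_Al M i (up c')
  have h3 : Al M i (a⁻¹ * b⁻¹ * a * b) (up c) := (((ha.inv.mul hb.inv).mul ha).mul hb).of_eq e1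
  have h4 := Al.eq_V hG S h hk hx h3 hv
  have d1 := ha.comm_mem hv hv0
  have d2 := hb.comm_mem hv hv0
  have h5 := commute_of_two (a := a) (b := b) (v := v) (d₁ := a * v * a⁻¹ * v⁻¹) (d₂ := b * v * b⁻¹ * v⁻¹)
    (by group) (by group) (ha.D d2) (hb.D d1)
    (zc_comm _ _ (zl_le_A hG S h (cv_le _ _ d1)) _ (zl_le_A hG S h (cv_le _ _ d2)))
  rw [h5, mul_inv_cancel_right] at h4
  exact mul_inv_eq_iff_eq_mul.1 h4

theorem Gd_all [Finite F] (hF : 4 ≤ Nat.card F) (i : Fin k) (B : Matrix.SpecialLinearGroup (Fin 2) F) :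
    Gd S M i B := by
  have hlo : ∀ c : F, Gd S M i (lo c) := by
    intro c
    have h1 := (Gd_up hG S h hk (M := M) hF i (-c)).conj S (wm 1 one_ne_zero)
    have h2 : wm (1 : F) one_ne_zero * up (-c) * (wm 1 one_ne_zero)⁻¹ = lo c := by
      rw [wm_up, mul_inv_cancel_right]
      congr 1
      simp
    rwa [h2] at h1
  obtain ⟨a, b, c, d, rfl⟩ := exists_up_lo B
  exact Gd.mul hG S h hk (Gd.mul hG S h hk (Gd.mul hG S h hk (Gd_up hG S h hk hF i a) (hlo b))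
    (Gd_up hG S h hk hF i c)) (hlo d)

/-- `Fc i` centralises the vectors without `i`-th coordinate -/
theorem fix_ker [Finite F] (hF : 4 ≤ Nat.card F) {i : Fin k} {x : G} {B : Matrix.SpecialLinearGroup (Fin 2) F}
    (hx : Al M i x B) {v : G} (hv : v ∈ zl (S : Subgroup G) P) (h0 : M.e v i = 0) : x * v * x⁻¹ = v :=
  mul_inv_eq_iff_eq_mul.2 (Gd_all hG S h hk hF i B x hx v hv h0)

/-- an element acting as `up c` centralises the vectors on the line -/
theorem fix_line [Finite F] (hF : 4 ≤ Nat.card F) {i : Fin k} {x : G} {c : F}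
    (hx : Al M i x (up c)) {v : G} (hv : v ∈ zl (S : Subgroup G) P) (h0 : M.e v i 1 = 0) : x * v * x⁻¹ = v := by
  have hsq : Al M i (x * x) 1 := (hx.mul hx).of_eq (by rw [up_mul, CharTwo.add_self_eq_zero, up_zero])
  have hfix : ∀ u ∈ zl (S : Subgroup G) P, x * (x * u * x⁻¹) * x⁻¹ = u := by
    intro u hu
    have h1 := Al.eq_V hG S h hk hsq (Al.one i) hu
    calc x * (x * u * x⁻¹) * x⁻¹ = x * x * u * (x * x)⁻¹ := by group
      _ = 1 * u * 1⁻¹ := h1
      _ = u := by group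
  by_cases hc : c = 0
  · have h1 := Al.eq_V hG S h hk (hx.of_eq (by rw [hc, up_zero])) (Al.one i) hv
    rw [h1]; group
  obtain ⟨u, hu, hui, huj⟩ := exists_single (M := M) i ![0, M.e v i 0 / c]
  set w := x * u * x⁻¹ * u⁻¹ with hw
  have hwV : w ∈ zl (S : Subgroup G) P := mul_mem (hx.V hu) (inv_mem hu)
  have hcomm : ∀ a ∈ zl (S : Subgroup G) P, ∀ b ∈ zl (S : Subgroup G) P, a * b = b * a := fun a ha b hb =>
    zc_comm _ _ (zl_le_A hG S h ha) _ (zl_le_A hG S h hb)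
  have h1 : x * w * x⁻¹ = w := by
    have e1 : x * w * x⁻¹ = (x * (x * u * x⁻¹) * x⁻¹) * (x * u * x⁻¹)⁻¹ := by rw [hw]; group
    have e2 : u * (x * u * x⁻¹)⁻¹ = w⁻¹ := by rw [hw]; group
    rw [e1, hfix u hu, e2]
    exact inv_eq_of_mul_eq_one_left (sq_zl hG S h hwV)
  have h2 : M.e (v * w⁻¹) i = 0 := by
    rw [e_div M hv hwV, Pi.sub_apply, hw, hx.comm_same hu, hui, ap_up2]
    apply ext2
    · simp
      field_simp
      ring
    · simp [h0]
  have h3 := fix_ker hG S h hk hF hx (mul_mem hv (inv_mem hwV)) h2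
  have e : x * v * x⁻¹ = (x * (v * w⁻¹) * x⁻¹) * (x * w * x⁻¹) := by group
  rw [e, h3, h1, inv_mul_cancel_right]

end rigid

end Cfsg.Agent.Omega.IId.Ns
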