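import Cfsg.Agent.Omega.IId.Ns.Defs

/-!
# II.d, nonsplit: `[v, x] = 1` is decided by the coordinates

`M : NatK F S P (zl S P) (cv S P) k`.

* `same_act` : the action on `V` of an element of `P` centralising `D` is determined by its matrices;
* `comm_iff` : `x ∈ P` acting as `up (c i)` (trivially on `D`) commutes with `v` iff `c i * M.e v i 1 = 0` for all `i`.
-/

set_option autoImplicit false
set_option linter.unusedSectionVars false

namespace Cfsg.Agent.Omega.IId.Ns

open Subgroup Cfsg Cfsg.Agent.ZN Cfsg.Agent.ZN.ChoiceSit Cfsg.Agent.ZN.ChoiceBase Cfsg.Agent.Omega.MinPar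
open Cfsg.Agent.Omega.FrameFF Cfsg.Agent.Omega.FFThm Cfsg.Agent.Lib.SL2Mat
open Cfsg.Agent.Omega.NatPair (ap ap_add ap_mul ap_one ap_inj ext2 ap_zero' ap_one' ap_inv_ap ap_ap_inv)
open Cfsg.Agent.Omega.HOne (cv_le conj_mem_zl conj_mem_cv three exists_ap_three_sub)
open Cfsg.Agent.Omega.IId.Cv

universe u

variable {G : Type u} [Group G] [Finite G] (hG : IsCharacteristicTwoType G) (S : Sylow 2 G) {P : Subgroup G}
  (h : IsParS (S : Subgroup G) P) {F : Type} [Field F] [CharP F 2] {k : ℕ}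
  (M : NatK F (S : Subgroup G) P (zl (S : Subgroup G) P) (cv (S : Subgroup G) P) k)

include hG h in
theorem zl_ab {v w : G} (hv : v ∈ zl (S : Subgroup G) P) (hw : w ∈ zl (S : Subgroup G) P) : v * w = w * v :=
  Cfsg.Agent.MinSimple.VModule.zc_comm _ _ (h.isLoc.zl_le S hG hv) _ (h.isLoc.zl_le S hG hw)

include hG h in
/-- two elements of `P` which centralise `D` and act on `V / D` in the same way act on `V` in the same way -/
theorem same_act (hk : 0 < k) {x y : G} (hx : x ∈ P) (hy : y ∈ P)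
    {A : Fin k → Matrix.SpecialLinearGroup (Fin 2) F}
    (hA : ActsSL M.e (zl (S : Subgroup G) P) (cv (S : Subgroup G) P) x A)
    (hB : ActsSL M.e (zl (S : Subgroup G) P) (cv (S : Subgroup G) P) y A) :
    ∀ v ∈ zl (S : Subgroup G) P, x * v * x⁻¹ = y * v * y⁻¹ := by
  have h1 := acts_mul M (inv_mem hy) hx (acts_inv M hy hB) hA
  have h2 : y⁻¹ * x ∈ kern M := by
    refine ⟨mul_mem (inv_mem hy) hx, fun v hv => funext fun i => ?_⟩
    rw [h1.1 v hv i]
    change ap ((A i)⁻¹ * A i) _ = _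
    rw [inv_mul_cancel, ap_one]
  intro v hv
  have h3 := comm_of_kern hG S h M hk h2 h1.2 v hv
  calc x * v * x⁻¹ = y * (y⁻¹ * x * v) * x⁻¹ := by group
    _ = y * (v * (y⁻¹ * x)) * x⁻¹ := by rw [h3]
    _ = _ := by group

/-- an element with given coordinates -/
theorem e_ap_up {c : F} (w : Fin 2 → F) : ap (up c) w = ![w 0 + c * w 1, w 1] := by
  apply ext2
  · rw [ap_zero']; simp
  · rw [ap_one']; simp

include hG h in
/-- part 1 -/
theorem comm_one (hk : 0 < k) {x : G} (hx : x ∈ P) {c : Fin k → F}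
    (hc : ActsSL M.e (zl (S : Subgroup G) P) (cv (S : Subgroup G) P) x fun i => up (c i))
    {v : G} (hv : v ∈ zl (S : Subgroup G) P) (h1 : ∀ i, M.e v i 1 = 0) (h0 : ∀ i, c i = 0 → M.e v i = 0) :
    x * v = v * x := by
  have h2F : (2 : F) = 0 := CharTwo.two_eq_zero
  obtain ⟨w, hw, hwe⟩ := M.surj fun i => ![0, M.e v i 0 / c i]
  set y := x * w * x⁻¹ with hy
  have hyV : y ∈ zl (S : Subgroup G) P := conj_mem_zl hx hw
  -- `x ^ 2` centralises `V`
  have hxx : ActsSL M.e (zl (S : Subgroup G) P) (cv (S : Subgroup G) P) (x * x) fun _ => 1 := by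
    have h3 := acts_mul M hx hx hc hc
    have e : (fun i => up (c i) * up (c i)) = fun _ : Fin k => (1 : Matrix.SpecialLinearGroup (Fin 2) F) := by
      funext i
      refine ext_ent ?_ ?_ ?_ ?_ <;> simp [ent_mul]
      linear_combination (c i) * h2F
    rwa [e] at h3
  have h3 : x * y * x⁻¹ = w := by
    have h4 := same_act hG S h M hk (mul_mem hx hx) (one_mem P) hxx (acts_one M) w hw
    rw [hy]
    calc x * (x * w * x⁻¹) * x⁻¹ = x * x * w * (x * x)⁻¹ := by group
      _ = w := by rw [h4]; group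
  have h4 : x * (y * w) * x⁻¹ = y * w := by
    calc x * (y * w) * x⁻¹ = (x * y * x⁻¹) * (x * w * x⁻¹) := by group
      _ = w * y := by rw [h3]
      _ = y * w := zl_ab hG S h hw hyV
  have h5 : M.e (y * w) = M.e v := by
    rw [M.mul _ hyV _ hw]
    funext i
    rw [Pi.add_apply, hy, hc.1 w hw i, e_ap_up, hwe]
    apply ext2
    · simp only [Pi.add_apply, Matrix.cons_val_zero, Matrix.cons_val_one, zero_add, add_zero]
      by_cases hci : c i = 0
      · rw [h0 i hci]; simp
      · field_simp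
    · simp only [Pi.add_apply, Matrix.cons_val_zero, Matrix.cons_val_one, zero_add, add_zero]
      rw [h1 i]
      linear_combination (M.e v i 0 / c i) * h2F
  have h6 : v * (y * w)⁻¹ ∈ cv (S : Subgroup G) P := (eq_iff M hv (mul_mem hyV hw)).1 h5.symm
  have h7 := hc.2 _ h6
  rw [mul_inv_eq_iff_eq_mul] at h4
  calc x * v = (x * (v * (y * w)⁻¹)) * (y * w) := by group
    _ = (v * (y * w)⁻¹) * (x * (y * w)) := by rw [h7]; group
    _ = (v * (y * w)⁻¹) * ((y * w) * x) := by rw [h4]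
    _ = v * x := by group

open Classical in
include hG h in
/-- an element which acts trivially on the support of `v` commutes with `v` -/
theorem comm_sup (hk : 0 < k) {x : G} (hx : x ∈ P) {A : Fin k → Matrix.SpecialLinearGroup (Fin 2) F}
    (hc : ActsSL M.e (zl (S : Subgroup G) P) (cv (S : Subgroup G) P) x A)
    {v : G} (hv : v ∈ zl (S : Subgroup G) P) (h0 : ∀ i, A i ≠ 1 → M.e v i = 0) :
    x * v = v * x := by
  obtain ⟨y, hy, hyA⟩ := M.lift fun i => if A i = 1 then three F else 1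
  have hD := cv_le (S : Subgroup G) P
  -- `δ w = [x, w] ∈ D` for `w` supported on `A = 1`
  have hδD : ∀ w ∈ zl (S : Subgroup G) P, (∀ i, A i ≠ 1 → M.e w i = 0) → x * w * x⁻¹ * w⁻¹ ∈ cv (S : Subgroup G) P := by
    intro w hw hw0
    rw [← eq_iff M (conj_mem_zl hx hw) hw]
    funext i
    rw [hc.1 w hw i]
    by_cases hci : A i = 1
    · rw [hci, ap_one]
    · rw [hw0 i hci]
      apply ext2
      · rw [ap_zero']; simp
      · rw [ap_one']; simp
  have hconj : ActsSL M.e (zl (S : Subgroup G) P) (cv (S : Subgroup G) P) (y * x * y⁻¹) A := by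
    have h3 := acts_mul M (mul_mem hy hx) (inv_mem hy) (acts_mul M hy hx hyA hc) (acts_inv M hy hyA)
    have e : (fun i => (if A i = 1 then three F else 1) * A i * (if A i = 1 then three F else 1)⁻¹) = A := by
      funext i
      by_cases hi : A i = 1 <;> simp [hi]
    rwa [e] at h3
  have hδ : ∀ w ∈ zl (S : Subgroup G) P, (∀ i, A i ≠ 1 → M.e w i = 0) →
      x * (y * w * y⁻¹) * x⁻¹ * (y * w * y⁻¹)⁻¹ = x * w * x⁻¹ * w⁻¹ := by
    intro w hw hw0
    have h4 := same_act hG S h M hk hx (mul_mem (mul_mem hy hx) (inv_mem hy)) hc hconj _ (conj_mem_zl hy hw)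
    have h5 := hyA.2 _ (hδD w hw hw0)
    rw [h4]
    calc y * x * y⁻¹ * (y * w * y⁻¹) * (y * x * y⁻¹)⁻¹ * (y * w * y⁻¹)⁻¹ = y * (x * w * x⁻¹ * w⁻¹) * y⁻¹ := by group
      _ = _ := by rw [h5]; group
  -- `v = [y, w] d`
  have hex : ∀ i, ∃ z : Fin 2 → F, ap (three F) z - z = M.e v i := fun i => by
    have := exists_ap_three_sub (F := F) 0 (M.e v i)
    simpa using this
  choose z hz using hex
  obtain ⟨w, hw, hwe⟩ := M.surj fun i => if A i = 1 then z i else 0
  have hw0 : ∀ i, A i ≠ 1 → M.e w i = 0 := by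
    intro i hi
    rw [hwe]
    simp [hi]
  set n := y * w * y⁻¹ * w⁻¹ with hn
  have hnV : n ∈ zl (S : Subgroup G) P := mul_mem (conj_mem_zl hy hw) (inv_mem hw)
  have hne : M.e n = M.e v := by
    rw [hn, e_div M (conj_mem_zl hy hw) hw]
    funext i
    rw [Pi.sub_apply, hyA.1 w hw i, hwe]
    by_cases hi : A i = 1
    · simp only [hi, if_true]
      exact hz i
    · simp only [hi, if_false]
      rw [h0 i hi, ap_one, sub_zero]
  have h6 : v * n⁻¹ ∈ cv (S : Subgroup G) P := (eq_iff M hv hnV).1 hne.symm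
  have h7 := hc.2 _ h6
  -- `x` commutes with `n`
  have h8 : x * n = n * x := by
    have h9 := hδ w hw hw0
    have hyw : y * w * y⁻¹ ∈ zl (S : Subgroup G) P := conj_mem_zl hy hw
    have e1 : x * n * x⁻¹ = n := by
      have h11 := zl_ab hG S h (hD (hδD w hw hw0)) hyw
      have e2 : x * (y * w * y⁻¹) * x⁻¹ = (x * w * x⁻¹ * w⁻¹) * (y * w * y⁻¹) := by
        rw [← h9]; group
      calc x * n * x⁻¹ = (x * (y * w * y⁻¹) * x⁻¹) * (x * w * x⁻¹)⁻¹ := by rw [hn]; group
        _ = (x * w * x⁻¹ * w⁻¹) * (y * w * y⁻¹) * (x * w * x⁻¹)⁻¹ := by rw [e2]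
        _ = (y * w * y⁻¹) * (x * w * x⁻¹ * w⁻¹) * (x * w * x⁻¹)⁻¹ := by rw [h11]
        _ = (y * w * y⁻¹) * ((x * w * x⁻¹) * w⁻¹ * (x * w * x⁻¹)⁻¹) := by group
        _ = (y * w * y⁻¹) * (w⁻¹ * (x * w * x⁻¹) * (x * w * x⁻¹)⁻¹) := by
          rw [zl_ab hG S h (conj_mem_zl hx hw) (inv_mem hw)]
        _ = n := by rw [hn]; group
    exact mul_inv_eq_iff_eq_mul.1 e1
  calc x * v = (x * (v * n⁻¹)) * n := by group
    _ = (v * n⁻¹) * (x * n) := by rw [h7]; group
    _ = (v * n⁻¹) * (n * x) := by rw [h8]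
    _ = v * x := by group

omit [Finite G] in
theorem up_eq_one_iff {c : F} : up c = (1 : Matrix.SpecialLinearGroup (Fin 2) F) ↔ c = 0 := by
  constructor
  · intro h1
    have h2 := congrArg (fun A => ent A 0 1) h1
    simpa using h2
  · rintro rfl
    refine ext_ent ?_ ?_ ?_ ?_ <;> simp

open Classical in
include hG h in
/-- **`x` commutes with `v` iff the coordinates say so** -/
theorem comm_iff (hk : 0 < k) {x : G} (hx : x ∈ P) {c : Fin k → F}
    (hc : ActsSL M.e (zl (S : Subgroup G) P) (cv (S : Subgroup G) P) x fun i => up (c i))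
    {v : G} (hv : v ∈ zl (S : Subgroup G) P) : x * v = v * x ↔ ∀ i, c i * M.e v i 1 = 0 := by
  constructor
  · intro hxv i
    have h1 := hc.1 v hv i
    rw [hxv, mul_inv_cancel_right, e_ap_up] at h1
    have h2 := congrFun h1 0
    simp only [Matrix.cons_val_zero] at h2
    linear_combination -h2
  · intro h1
    obtain ⟨v₁, hv₁, he₁⟩ := M.surj fun i => if c i = 0 then M.e v i else 0
    have hv₂ : v * v₁⁻¹ ∈ zl (S : Subgroup G) P := mul_mem hv (inv_mem hv₁)
    have he₂ : ∀ i, M.e (v * v₁⁻¹) i = if c i = 0 then 0 else M.e v i := by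
      intro i
      rw [e_div M hv hv₁, Pi.sub_apply, he₁]
      by_cases hi : c i = 0 <;> simp [hi]
    have h2 : x * v₁ = v₁ * x := by
      refine comm_sup hG S h M hk hx hc hv₁ fun i hi => ?_
      have hi' : c i ≠ 0 := fun h3 => hi (up_eq_one_iff.2 h3)
      rw [he₁]
      simp [hi']
    have h3 : x * (v * v₁⁻¹) = (v * v₁⁻¹) * x := by
      refine comm_one hG S h M hk hx hc hv₂ (fun i => ?_) fun i hi => ?_
      · rw [he₂]
        by_cases hi : c i = 0
        · simp [hi]
        · rw [if_neg hi]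
          exact (mul_eq_zero.1 (h1 i)).resolve_left hi
      · rw [he₂, if_pos hi]
    calc x * v = (x * (v * v₁⁻¹)) * v₁ := by group
      _ = (v * v₁⁻¹) * (x * v₁) := by rw [h3]; group
      _ = (v * v₁⁻¹) * (v₁ * x) := by rw [h2]
      _ = v * x := by group

end Cfsg.Agent.Omega.IId.Ns
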