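import Cfsg.Agent.Omega.IId.Ns.CoreOf

/-!
# II.d, `k = 2`, nonsplit: LEMMA X (5)

`lemX` : `T < S` 2-groups, `s ∈ S` normalises `T`, all 2-groups over `T` have order at most `2|T|`, the 2-group `O` is
normalised by `T`, not contained in `T` and centralises `a` and `s a s⁻¹`, `T` and `s²` centralise `a`: then `s a s⁻¹ = a`.

`o2_CC_le` : `O₂(CC U U') ≤ T`, from `s e(F) s⁻¹ ≤ Ω₁ Z(O₂(N_G(U U')))`.
`o2_CC_le_of_sylow` : the same if `T` is a Sylow 2-subgroup of `G`.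
-/

set_option autoImplicit false
set_option linter.unusedSectionVars false

namespace Cfsg.Agent.Omega.IId.Ns.LemX

open Subgroup Cfsg
open Cfsg.Agent.ZN (zc o2)
open Cfsg.Agent.MinSimple.VModule (mem_zc zc_le zc_sq o2_le o2_isPGroup le_normalizer_o2 le_o2)
open Cfsg.Agent.Omega.HOne.NSMod Cfsg.Agent.Omega.HOne.NSSide Cfsg.Agent.Omega.HOne.NSPair
open Cfsg.Agent.Omega.IId.Ns.CoreOf (le_norm_of conj_cent centralizer_le_norm)

universe u

variable {G : Type u} [Group G] {F : Type} [Field F]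

/-- `T O` is a 2-group -/
theorem isPGroup_sup {T O : Subgroup G} (hT : IsPGroup 2 T) (hO : IsPGroup 2 O) (hn : T ≤ normalizer (O : Set G)) :
    IsPGroup 2 (T ⊔ O : Subgroup G) := hT.to_sup_of_normal_right' hO hn

/-- A 2-subgroup of `C` is conjugate in `C` into a Sylow 2-subgroup of `C`. -/
theorem exists_conj_le [Finite G] {C S X : Subgroup G} (hX : X ≤ C) (hSp : IsPGroup 2 S)
    (hXp : IsPGroup 2 X) (hidx : ¬ 2 ∣ S.relIndex C) : ∃ c ∈ C, ∀ x ∈ X, c * x * c⁻¹ ∈ S := by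
  have : Fact (Nat.Prime 2) := ⟨Nat.prime_two⟩
  have hS' : IsPGroup 2 (S.subgroupOf C) := hSp.comap_of_injective C.subtype Subtype.val_injective
  have hX' : IsPGroup 2 (X.subgroupOf C) := hXp.comap_of_injective C.subtype Subtype.val_injective
  obtain ⟨Q, hQ⟩ := hX'.exists_le_sylow
  obtain ⟨c, hc⟩ := MulAction.exists_smul_eq C Q (hS'.toSylow hidx)
  refine ⟨c, c.2, ?_⟩
  intro y hy
  have h1 : (⟨y, hX hy⟩ : C) ∈ (Q : Subgroup C) := hQ (Subgroup.mem_subgroupOf.2 hy)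
  have h2 : c * ⟨y, hX hy⟩ * c⁻¹ ∈ ((c • Q : Sylow 2 C) : Subgroup C) := by
    have : c * ⟨y, hX hy⟩ * c⁻¹ = (MulAut.conj c) • (⟨y, hX hy⟩ : C) := rfl
    rw [this]
    exact Subgroup.smul_mem_pointwise_smul _ _ _ h1
  rw [hc] at h2
  exact Subgroup.mem_subgroupOf.1 h2

/-- **LEMMA X** -/
theorem lemX [Finite G] {S T O : Subgroup G} {s a : G} (hS : IsPGroup 2 S) (hTS : T ≤ S) (hs : s ∈ S)
    (hsT : ∀ t ∈ T, s⁻¹ * t * s ∈ T)
    (two : ∀ X : Subgroup G, IsPGroup 2 X → T ≤ X → Nat.card X ≤ 2 * Nat.card T)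
    (hO : IsPGroup 2 O) (hTO : T ≤ normalizer (O : Set G)) (hne : ¬ O ≤ T)
    (haT : ∀ t ∈ T, t * a = a * t) (has : s * s * a = a * (s * s))
    (haO : ∀ w ∈ O, w * a = a * w) (hsaO : ∀ w ∈ O, w * (s * a * s⁻¹) = s * a * s⁻¹ * w) : s * a * s⁻¹ = a := by
  have hT : IsPGroup 2 T := hS.to_le hTS
  -- `K = C(a) ∩ C(s a s⁻¹)`
  obtain ⟨K, hK⟩ : ∃ K : Subgroup G, ∀ x, x ∈ K ↔ x * a = a * x ∧ x * (s * a * s⁻¹) = s * a * s⁻¹ * x := by
    refine ⟨centralizer {a} ⊓ centralizer {s * a * s⁻¹}, fun x => ?_⟩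
    rw [mem_inf, mem_centralizer_iff, mem_centralizer_iff]
    constructor
    · rintro ⟨h1, h2⟩
      exact ⟨(h1 a rfl).symm, (h2 _ rfl).symm⟩
    · rintro ⟨h1, h2⟩
      refine ⟨fun y hy => ?_, fun y hy => ?_⟩
      · rw [Set.mem_singleton_iff.1 hy]; exact h1.symm
      · rw [Set.mem_singleton_iff.1 hy]; exact h2.symm
  have hTK : T ≤ K := fun t ht => (hK t).2 ⟨haT t ht, by
    have h1 := haT _ (hsT t ht)
    calc t * (s * a * s⁻¹) = s * (s⁻¹ * t * s * a) * s⁻¹ := by group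
      _ = s * (a * (s⁻¹ * t * s)) * s⁻¹ := by rw [h1]
      _ = _ := by group⟩
  have hOK : O ≤ K := fun w hw => (hK w).2 ⟨haO w hw, hsaO w hw⟩
  -- `s` normalises `K`
  have hsK : ∀ x ∈ K, s * x * s⁻¹ ∈ K := by
    intro x hx
    obtain ⟨h1, h2⟩ := (hK x).1 hx
    refine (hK _).2 ⟨?_, ?_⟩
    · have h3 : s⁻¹ * a * s = s * a * s⁻¹ := by
        calc s⁻¹ * a * s = s⁻¹ * (a * (s * s)) * s⁻¹ := by group
          _ = s⁻¹ * (s * s * a) * s⁻¹ := by rw [has]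
          _ = _ := by group
      calc s * x * s⁻¹ * a = s * (x * (s⁻¹ * a * s)) * s⁻¹ := by group
        _ = s * (s * a * s⁻¹ * x) * s⁻¹ := by rw [h3, h2]
        _ = s * (s⁻¹ * a * s * x) * s⁻¹ := by rw [h3]
        _ = _ := by group
    · calc s * x * s⁻¹ * (s * a * s⁻¹) = s * (x * a) * s⁻¹ := by group
        _ = s * (a * x) * s⁻¹ := by rw [h1]
        _ = _ := by group
  have hsK' : s ∈ normalizer (K : Set G) := MinSimple.VModule.mem_normalizer_of_map_le (by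
    rintro _ ⟨x, hx, rfl⟩
    exact hsK x hx)
  -- `W = T O` is a Sylow 2-subgroup of `H = ⟨S, O⟩`-type groups over `T`
  have hW2 := isPGroup_sup hT hO hTO
  have hWK : T ⊔ O ≤ K := sup_le hTK hOK
  have hcW : Nat.card (T ⊔ O : Subgroup G) = 2 * Nat.card T := by
    refine le_antisymm (two _ hW2 le_sup_left) ?_
    have h1 := Half.card_mul_relIndex (le_sup_left : T ≤ T ⊔ O)
    have h2 : T.relIndex (T ⊔ O) ≠ 1 := fun h => hne (le_sup_right.trans (relIndex_eq_one.1 h))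
    have h3 : T.relIndex (T ⊔ O) ≠ 0 := fun h => by
      rw [h, mul_zero] at h1
      exact Nat.card_pos.ne h1
    rw [← h1, mul_comm]
    exact Nat.mul_le_mul_left _ (by omega)
  let H : Subgroup G := (T ⊔ O) ⊔ zpowers s
  have hHK : H ≤ normalizer (K : Set G) := sup_le (hWK.trans le_normalizer) (by rwa [zpowers_le])
  obtain ⟨W₁, hWW, hWH, hW₁2, hW₁s⟩ := Half.exists_sylow_le (So := T ⊔ O) (H := H) hW2 le_sup_left
  have hWeq : T ⊔ O = W₁ := eq_of_le_of_card_ge hWW (by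
    rw [hcW]
    exact two _ hW₁2 (le_sup_left.trans hWW))
  have hsS : IsPGroup 2 (zpowers s) := hS.to_le (by rwa [zpowers_le])
  obtain ⟨c, hc, hcs⟩ := exists_conj_le (C := H) (S := W₁) (X := zpowers s) le_sup_right hW₁2 hsS
    hW₁s
  have h1 := hcs s (mem_zpowers s)
  rw [← hWeq] at h1
  have h2 := (mem_normalizer_iff.1 (hHK hc) s).2 (hWK h1)
  have h3 := ((hK s).1 h2).1
  rw [h3, mul_inv_cancel_right]

/-- `C_G(U) ∩ C_G(U') = C_G(U U')` -/
theorem CC_eq {U U' : Subgroup G} : CC U U' = centralizer ((U ⊔ U' : Subgroup G) : Set G) := by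
  apply le_antisymm
  · intro x hx
    have h1 : U ⊔ U' ≤ centralizer ({x} : Set G) := sup_le
      (fun u hu => mem_centralizer_iff.2 fun y hy => by
        rw [Set.mem_singleton_iff.1 hy]; exact (mem_centralizer_iff.1 hx.1 u hu).symm)
      (fun u hu => mem_centralizer_iff.2 fun y hy => by
        rw [Set.mem_singleton_iff.1 hy]; exact (mem_centralizer_iff.1 hx.2 u hu).symm)
    exact mem_centralizer_iff.2 fun u hu => (mem_centralizer_iff.1 (h1 hu) x rfl).symm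
  · exact le_inf (centralizer_le (le_sup_left : U ≤ U ⊔ U')) (centralizer_le (le_sup_right : U' ≤ U ⊔ U'))

theorem norm_o2 [Finite G] (L : Subgroup G) : normalizer (L : Set G) ≤ normalizer (o2 L : Set G) := by
  intro x hx
  refine Cfsg.Agent.ZN.ChoiceBase.mem_normalizer_of_cj_le ?_
  rw [← Cfsg.Agent.ZN.ChoiceBase.pCore_cj, Cfsg.Agent.ZN.ChoiceBase.cj_eq_of_mem_normalizer hx]

theorem norm_cent (R : Subgroup G) : normalizer (R : Set G) ≤ normalizer (centralizer (R : Set G) : Set G) :=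
  le_norm_of fun t ht k hk => conj_cent (fun u hu => by
    have := (mem_normalizer_iff.1 (inv_mem ht) u).1 hu
    rwa [inv_inv] at this) hk

theorem o2_CC_le_o2 [Finite G] {U U' : Subgroup G} : o2 (CC U U') ≤ o2 (normalizer ((U ⊔ U' : Subgroup G) : Set G)) := by
  rw [CC_eq]
  exact le_o2 ((o2_le _).trans (centralizer_le_norm _)) (o2_isPGroup _)
    ((norm_cent _).trans (norm_o2 _))

theorem norm_o2_CC [Finite G] {T U U' : Subgroup G} (h : T ≤ normalizer (U : Set G)) (h' : T ≤ normalizer (U' : Set G)) :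
    T ≤ normalizer (o2 (CC U U') : Set G) :=
  (Half.le_normalizer_inf (h.trans (norm_cent U)) (h'.trans (norm_cent U'))).trans (norm_o2 _)

/-- `T` a Sylow 2-subgroup -/
theorem o2_CC_le_of_sylow [Finite G] {T U U' : Subgroup G} (hT : IsPGroup 2 T)
    (hs : ∀ X : Subgroup G, IsPGroup 2 X → T ≤ X → X ≤ T)
    (h : T ≤ normalizer (U : Set G)) (h' : T ≤ normalizer (U' : Set G)) : o2 (CC U U') ≤ T :=
  le_sup_right.trans (hs _ (isPGroup_sup hT (o2_isPGroup _) (norm_o2_CC h h')) le_sup_left)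

/-- **LEMMA X (5)** -/
theorem o2_CC_le [Finite G] {S T U U' : Subgroup G} {s a : G} (hS : IsPGroup 2 S) (hTS : T ≤ S) (hs : s ∈ S)
    (hsT : ∀ t ∈ T, s⁻¹ * t * s ∈ T) (hss : s * s ∈ T)
    (two : ∀ X : Subgroup G, IsPGroup 2 X → T ≤ X → Nat.card X ≤ 2 * Nat.card T)
    (h : T ≤ normalizer (U : Set G)) (h' : T ≤ normalizer (U' : Set G))
    (ha : a ∈ U') (haT : ∀ t ∈ T, t * a = a * t)
    (hZ : s * a * s⁻¹ ∈ zc (o2 (normalizer ((U ⊔ U' : Subgroup G) : Set G)))) (hne : s * a * s⁻¹ ≠ a) :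
    o2 (CC U U') ≤ T := by
  by_contra hcon
  refine hne (lemX hS hTS hs hsT two (o2_isPGroup _) (norm_o2_CC h h') hcon haT (haT _ hss) ?_ ?_)
  · intro w hw
    exact (mem_centralizer_iff.1 (o2_le _ hw).2 a ha).symm
  · intro w hw
    exact (mem_zc.1 hZ).2.1 w (o2_CC_le_o2 hw)

section pair

variable {T T' L L' A A' U U' : Subgroup G} {π π' : G → Fin 2 → F} {e f g e' f' g' : F → G} {N N' : Subgroup G}

/-- an element of `e(F)` centralised by `T` -/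
theorem exists_a [Finite G] [Finite F] (p : PairF T T' L L' A A' U U' π π' e f g e' f' g' N N')
    (hg : ∀ y, g y = 1 → y = 0) (hT : IsPGroup 2 T) : ∃ z, z ≠ 0 ∧ ∀ t ∈ T, t * e z = e z * t := by
  have r := p.s.r
  let E : Subgroup G :=
    { carrier := {x | ∃ y, x = e y}
      one_mem' := ⟨0, p.φ.e0.symm⟩
      mul_mem' := by
        rintro _ _ ⟨y, rfl⟩ ⟨y', rfl⟩
        exact ⟨y + y', (p.φ.e_add y y').symm⟩
      inv_mem' := by
        rintro _ ⟨y, rfl⟩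
        exact ⟨y, r.inv (p.φ.eV y)⟩ }
  have hE : IsPGroup 2 E := by
    rintro ⟨_, y, rfl⟩
    refine ⟨1, ?_⟩
    apply Subtype.ext
    rw [pow_one, pow_two]
    exact r.Vs _ (p.φ.eV y)
  have hE1 : E ≠ ⊥ := by
    intro h
    have h1 : e 1 ∈ E := ⟨1, rfl⟩
    rw [h, mem_bot, ← p.φ.e0] at h1
    exact one_ne_zero (p.φ.e_inj r h1)
  obtain ⟨_, ⟨z, rfl⟩, hz, hzT⟩ := Half.exists_fixed hE hE1 hT (le_norm_of (by
    rintro t ht _ ⟨y, rfl⟩
    obtain ⟨y', hy'⟩ := p.norm_e hg ht y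
    exact ⟨y', hy'⟩))
  refine ⟨z, ?_, fun t ht => mul_inv_eq_iff_eq_mul.1 (hzT t ht)⟩
  rintro rfl
  exact hz p.φ.e0

/-- **LEMMA X for a pair** -/
theorem o2_CC_le_pair [Finite G] [Finite F] (p : PairF T T' L L' A A' U U' π π' e f g e' f' g' N N')
    (hg : ∀ y, g y = 1 → y = 0) (hU' : ∀ x, x ∈ U' ↔ ∃ z, x = e z) {S : Subgroup G} {s : G}
    (hS : IsPGroup 2 S) (hTS : T ≤ S) (hs : s ∈ S) (hsT : ∀ t ∈ T, s⁻¹ * t * s ∈ T) (hss : s * s ∈ T)
    (two : ∀ X : Subgroup G, IsPGroup 2 X → T ≤ X → Nat.card X ≤ 2 * Nat.card T)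
    (hZ : ∀ z, s * e z * s⁻¹ ∈ zc (o2 (normalizer ((U ⊔ U' : Subgroup G) : Set G))))
    (hne : ∀ z, z ≠ 0 → s * e z * s⁻¹ ≠ e z) : o2 (CC U U') ≤ T := by
  have hT : IsPGroup 2 T := hS.to_le hTS
  obtain ⟨z, hz, hzT⟩ := exists_a p hg hT
  refine o2_CC_le hS hTS hs hsT hss two (le_norm_of fun t ht u hu => p.s.r.Dn t (p.s.SP ht) u hu)
    (le_norm_of fun t ht u hu => ?_) ((hU' _).2 ⟨z, rfl⟩) hzT (hZ z) (hne z hz)
  obtain ⟨y, rfl⟩ := (hU' u).1 hu
  obtain ⟨y', hy'⟩ := p.norm_e hg ht y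
  exact (hU' _).2 ⟨y', hy'⟩

end pair

end Cfsg.Agent.Omega.IId.Ns.LemX
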