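import Cfsg.Agent.Omega.IId.Ns.Pair
import Cfsg.Agent.Omega.IId.Ns.Half

/-!
# II.d, nonsplit: the matching of a pair (step (0), (2))

* `Rc M i` : `[N_i, A_i]`, `A_i` the elements acting as `one1 i (up c)`; `Rc_norm`, `Lc_le_Rc` (`k = 2`);
* `MtI b M' i j` : `i`, `j` are matched; `PD.matches`, `MtI.symm`, uniqueness; `PD.card_eq` : `|F| = |F'|`;
* `Mt M M' i j` : `N'_j` induces on `V` exactly the elements `one1 i (up c)`; `C_V(N'_j)` is the set of the `v` with
  `M.e v i 1 = 0`;  `Rc_eq` : `Rc M i = Rc M' j`;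
* `PD.one_of_half` : `k = 2`, `k' = 2`: there is only one matched pair.
-/

set_option autoImplicit false
set_option linter.unusedSectionVars false

namespace Cfsg.Agent.Omega.IId.Ns

open Subgroup Cfsg Cfsg.Agent.ZN Cfsg.Agent.ZN.ChoiceSit Cfsg.Agent.ZN.ChoiceBase Cfsg.Agent.Omega.MinPar
open Cfsg.Agent.Omega.FrameFF Cfsg.Agent.Omega.FFThm Cfsg.Agent.Lib.SL2Mat
open Cfsg.Agent.Omega.NatPair (ap ap_add ap_mul ap_one ap_inj ext2 ap_zero' ap_one' ap_inv_ap ap_ap_inv)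
open Cfsg.Agent.Omega.HOne (cv_le conj_mem_zl conj_mem_cv)
open Cfsg.Agent.Omega.IId.Cv
open Cfsg.Agent.MinSimple.VModule (zc_comm zc_sq zc_le mem_zc le_normalizer_o2)

universe u

/-! ### `Rc M i` -/

section rc

variable {G : Type u} [Group G] {F : Type} [Field F] {S P : Subgroup G} {k : ℕ}
  (M : NatK F S P (zl S P) (cv S P) k)

/-- `[N_i, A_i]` -/
def Rc (i : Fin k) : Subgroup G := closure {y | ∃ x c, Al M i x (up c) ∧ ∃ n ∈ Nc M i, y = x * n * x⁻¹ * n⁻¹}

theorem Rc_le (i : Fin k) : Rc M i ≤ Nc M i := by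
  rw [Rc, closure_le]
  rintro _ ⟨x, c, hx, n, hn, rfl⟩
  exact mem_Nc hx (Nc_le M i hn)

variable {M}

/-- for `g ∈ S`, `x` acting as `up c` in the `i`-th factor, `g x g⁻¹` acts as `up c'` in the `j`-th -/
theorem conj_up [CharP F 2] (hSP : S ≤ P) {g x : G} {i j : Fin k} (hg : g ∈ S) (hm : Mv M g i j) {c : F}
    (hx : Al M i x (up c)) : ∃ c', Al M j (g * x * g⁻¹) (up c') := by
  obtain ⟨m, c', h1⟩ := conj_Al_line hSP hg hm (by simp) hx
  have hgP := hSP hg
  have hsq : Al M i (x * x) 1 := (hx.mul hx).of_eq (by rw [up_mul, CharTwo.add_self_eq_zero, up_zero])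
  have h2 : Al M j (g * x * g⁻¹ * (g * x * g⁻¹)) (dg (m : F) m.ne_zero * up c' * (dg (m : F) m.ne_zero * up c')) :=
    h1.mul h1
  have h3 : ∀ v ∈ zl S P, M.e (g * x * g⁻¹ * (g * x * g⁻¹) * v * (g * x * g⁻¹ * (g * x * g⁻¹))⁻¹) j = M.e v j := by
    intro v hv
    have hu : g⁻¹ * v * g ∈ zl S P := by
      have := conj_mem_zl (inv_mem hgP) hv
      rwa [inv_inv] at this
    have e : g * x * g⁻¹ * (g * x * g⁻¹) * v * (g * x * g⁻¹ * (g * x * g⁻¹))⁻¹ =
      g * ((x * x) * (g⁻¹ * v * g) * (x * x)⁻¹) * g⁻¹ := by group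
    have h5 : M.e ((x * x) * (g⁻¹ * v * g) * (x * x)⁻¹ * (g⁻¹ * v * g)⁻¹) i = 0 := by
      rw [hsq.comm_same hu, ap_one, sub_self]
    have h6 := (hm _ (mul_mem (hsq.V hu) (inv_mem hu))).2 h5
    have e2 : g * ((x * x) * (g⁻¹ * v * g) * (x * x)⁻¹ * (g⁻¹ * v * g)⁻¹) * g⁻¹ =
      (g * ((x * x) * (g⁻¹ * v * g) * (x * x)⁻¹) * g⁻¹) * v⁻¹ := by group
    rw [e2, e_div M (conj_mem_zl hgP (hsq.V hu)) hv, Pi.sub_apply, sub_eq_zero] at h6
    rw [e]; exact h6
  have h4 : dg (m : F) m.ne_zero * up c' * (dg (m : F) m.ne_zero * up c') = 1 := ap_inj fun y => by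
    obtain ⟨v, hv, hvj, -⟩ := exists_single (M := M) j y
    rw [← hvj, ← h2.same hv, h3 v hv, ap_one]
  have h5 := congrArg (fun A => ent A 0 0) h4
  simp only [ent_mul, dg_00, up_00, dg_01, up_10, up_01, dg_10, dg_11, up_11, ent_one_00] at h5
  have h6 : ((m : F) - 1) ^ 2 = 0 := by
    have h2 : (2 : F) = 0 := CharTwo.two_eq_zero
    linear_combination h5 - ((m : F) - 1) * h2
  have h7 : (m : F) = 1 := sub_eq_zero.1 (pow_eq_zero_iff two_ne_zero |>.1 h6)
  refine ⟨c', h1.of_eq ?_⟩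
  refine ext_ent ?_ ?_ ?_ ?_ <;> simp [ent_mul, h7]

/-- the stabiliser of the `i`-th factor in `S` normalises `Rc M i` -/
theorem Rc_norm [CharP F 2] (hSP : S ≤ P) {g : G} {i : Fin k} (hg : g ∈ S) (hm : Mv M g i i) {r : G}
    (hr : r ∈ Rc M i) : g * r * g⁻¹ ∈ Rc M i := by
  induction hr using closure_induction with
  | mem y hy =>
    obtain ⟨x, c, hx, n, hn, rfl⟩ := hy
    obtain ⟨c', hc'⟩ := conj_up hSP hg hm hx
    refine subset_closure ⟨_, c', hc', _, Nc_norm (hSP hg) hm hn, ?_⟩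
    group
  | one => rw [mul_one, mul_inv_cancel]; exact one_mem _
  | mul x y _ _ hx hy =>
    have e : g * (x * y) * g⁻¹ = (g * x * g⁻¹) * (g * y * g⁻¹) := by group
    rw [e]; exact mul_mem hx hy
  | inv x _ hx =>
    have e : g * x⁻¹ * g⁻¹ = (g * x * g⁻¹)⁻¹ := by group
    rw [e]; exact inv_mem hx

end rc

section rcS

variable {G : Type u} [Group G] [Finite G] (hG : IsCharacteristicTwoType G) (S : Sylow 2 G) {P : Subgroup G}
  (h : IsParS (S : Subgroup G) P) {F : Type} [Field F] [CharP F 2] {k : ℕ}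
  (M : NatK F (S : Subgroup G) P (zl (S : Subgroup G) P) (cv (S : Subgroup G) P) k)

/-- for two factors the stabiliser of one factor stabilises the other -/
theorem Mv_of_two {P : Subgroup G} {M : NatK F (S : Subgroup G) P (zl (S : Subgroup G) P) (cv (S : Subgroup G) P) 2}
    {g : G} (hg : g ∈ P) {i l : Fin 2} (hil : i ≠ l) (hm : Mv M g l l) : Mv M g i i := by
  obtain ⟨j, hj⟩ := exists_Mv (M := M) hg i
  have h1 : j ≠ l := by
    rintro rfl
    exact hil (hj.unique' hm hg)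
  have h2 : j = i := by omega
  rwa [h2] at hj

include hG h in
/-- `L_l` normalises `Rc M i`, `i ≠ l` -/
theorem Lc_le_Rc {M : NatK F (S : Subgroup G) P (zl (S : Subgroup G) P) (cv (S : Subgroup G) P) 2}
    {i l : Fin 2} (hil : i ≠ l) : Lc M l ≤ normalizer (Rc M i : Set G) := by
  rw [Lc]
  refine sup_le ?_ ?_
  · refine Two.le_normalizer_of fun t ht r hr => ?_
    exact Rc_norm h.le ht.1.1 (Mv_of_two S ht.1.2 hil ht.2) hr
  · refine Two.le_normalizer_of fun x hx r hr => ?_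
    have h1 := Nc_comm hG S h M (Ne.symm hil) hx.1 (Rc_le M i hr)
    rw [h1, mul_inv_cancel_right]
    exact hr

end rcS

/-! ### Matched factors -/

section mt

variable {G : Type u} [Group G] {F F' : Type} [Field F] [Field F'] {S S' P P' : Subgroup G} {k k' : ℕ}

/-- `N'_j` induces on `V` exactly the elements `one1 i (up c)`; `C_V(N'_j)` is given by `M.e v i 1 = 0`. -/
structure Mt (M : NatK F S P (zl S P) (cv S P) k) (M' : NatK F' S' P' (zl S' P') (cv S' P') k') (i : Fin k)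
    (j : Fin k') : Prop where
  acts : ∀ a ∈ Nc M' j, ∃ c, Al M i a (up c)
  full : ∀ c, ∃ a ∈ Nc M' j, Al M i a (up c)
  cen : ∀ v ∈ zl S P, (∀ a ∈ Nc M' j, a * v = v * a) ↔ M.e v i 1 = 0

theorem Mt.le_Tc {M : NatK F S P (zl S P) (cv S P) k} {M' : NatK F' S' P' (zl S' P') (cv S' P') k'} {i : Fin k}
    {j : Fin k'} (m : Mt M M' i j) (hS : zl S' P' ≤ S) : Nc M' j ≤ Tc M i := by
  intro a ha
  obtain ⟨c, hc⟩ := m.acts a ha
  exact ⟨⟨hS (Nc_le M' j ha), hc.1⟩, hc.mv⟩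

theorem Mt.Rc_le_Rc {S S' : Sylow 2 G} {P P' : Subgroup G} [Finite G] [CharP F 2] (hG : IsCharacteristicTwoType G)
    (h : IsParS (S : Subgroup G) P) (hk : 0 < k)
    {M : NatK F (S : Subgroup G) P (zl (S : Subgroup G) P) (cv (S : Subgroup G) P) k}
    {M' : NatK F' (S' : Subgroup G) P' (zl (S' : Subgroup G) P') (cv (S' : Subgroup G) P') k'} {i : Fin k}
    {j : Fin k'} (m : Mt M M' i j) (m' : Mt M' M j i) : Rc M i ≤ Rc M' j := by
  rw [Rc, closure_le]
  rintro _ ⟨x, c, hx, n, hn, rfl⟩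
  obtain ⟨a, ha, hac⟩ := m.full c
  obtain ⟨c', hc'⟩ := m'.acts n hn
  have e : x * n * x⁻¹ * n⁻¹ = (n * a * n⁻¹ * a⁻¹)⁻¹ := by
    rw [Al.eq_V hG S h hk hx hac (Nc_le M i hn)]; group
  rw [e]
  exact inv_mem (subset_closure ⟨n, c', hc', a, ha, rfl⟩)

end mt

/-! ### The pair -/

theorem card_eq_of_ker {α β γ : Type*} {f : α → β} {g : α → γ} (hf : Function.Surjective f)
    (hg : Function.Surjective g) (h : ∀ x y, f x = f y ↔ g x = g y) : Nat.card β = Nat.card γ := by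
  refine Nat.card_congr (Equiv.ofBijective (fun y => g (Function.surjInv hf y)) ⟨fun x y hxy => ?_, fun z => ?_⟩)
  · have h1 := (h _ _).2 hxy
    rwa [Function.surjInv_eq hf, Function.surjInv_eq hf] at h1
  · obtain ⟨x, rfl⟩ := hg z
    exact ⟨f x, (h _ _).1 (Function.surjInv_eq hf _)⟩

section pair

variable {G : Type u} [Group G] [Finite G] {F F' : Type} [Field F] [Field F'] [CharP F 2] [CharP F' 2]

variable {S S' : Sylow 2 G} {P P' : Subgroup G} {k k' : ℕ}
  {M : NatK F (S : Subgroup G) P (zl (S : Subgroup G) P) (cv (S : Subgroup G) P) k}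
  {M' : NatK F' (S' : Subgroup G) P' (zl (S' : Subgroup G) P') (cv (S' : Subgroup G) P') k'}
  {I : Set (Fin k)} {I' : Set (Fin k')} {b : G → Fin k → F} {c : G → Fin k' → F'}

/-- `i ∈ I` and `j ∈ I'` are matched -/
structure MtI (b : G → Fin k → F) (M' : NatK F' (S' : Subgroup G) P' (zl (S' : Subgroup G) P') (cv (S' : Subgroup G) P') k')
    (I : Set (Fin k)) (I' : Set (Fin k')) (i : Fin k) (j : Fin k') : Prop where
  hi : i ∈ I
  hj : j ∈ I'
  iff : ∀ a ∈ zl (S' : Subgroup G) P', b a i = 0 ↔ M'.e a j 1 = 0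

namespace PD

variable (d : PD S S' P P' M M' I I' b c)

include d

theorem matches_ (hk : 0 < k) (hk' : 0 < k') {i : Fin k} (hi : i ∈ I) : ∃ j, MtI b M' I I' i j := by
  obtain ⟨j, hj, h1, -⟩ := d.exists_match hk hk' hi
  exact ⟨j, hi, hj, h1⟩

open Classical in
theorem msymm (hk : 0 < k) (hk' : 0 < k') {i : Fin k} {j : Fin k'} (m : MtI b M' I I' i j) : MtI c M I' I j i := by
  obtain ⟨i', hi', h1, h2⟩ := d.symm.exists_match hk' hk m.hj
  obtain ⟨a, ha, hae⟩ := M'.surj (Function.update 0 j ![0, 1])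
  have h3 := h2 a ha (by rw [hae, Function.update_self]; exact one_ne_zero) fun l hl => by
    rw [hae, Function.update_of_ne hl]; rfl
  have h4 : i = i' := by
    by_contra hne
    have h5 := h3.2 i hne
    rw [m.iff a ha, hae, Function.update_self] at h5
    exact one_ne_zero h5
  subst h4
  exact ⟨m.hj, hi', h1⟩

omit d in
theorem munique {i : Fin k} {j j' : Fin k'} (m : MtI b M' I I' i j) (m' : MtI b M' I I' i j') : j = j' := by
  classical
  by_contra hne
  obtain ⟨a, ha, hae⟩ := M'.surj (Function.update 0 j ![0, 1])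
  have h1 := (m.iff a ha).1 ((m'.iff a ha).2 (by rw [hae, Function.update_of_ne (Ne.symm hne)]; rfl))
  rw [hae, Function.update_self] at h1
  exact one_ne_zero h1

theorem munique' (hk : 0 < k) (hk' : 0 < k') {i i' : Fin k} {j : Fin k'} (m : MtI b M' I I' i j)
    (m' : MtI b M' I I' i' j) : i = i' := munique (d.msymm hk hk' m) (d.msymm hk hk' m')

theorem card_eq_of (hk : 0 < k) (hk' : 0 < k') {i : Fin k} {j : Fin k'} (m : MtI b M' I I' i j) :
    Nat.card F = Nat.card F' := by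
  classical
  refine card_eq_of_ker (f := fun a : zl (S' : Subgroup G) P' => b a i)
    (g := fun a : zl (S' : Subgroup G) P' => M'.e a j 1) (fun x => ?_) (fun x => ?_) fun x y => ?_
  · obtain ⟨a, ha, h1⟩ := d.i1.ex (Function.update 0 i x) (upd_off m.hi x)
    refine ⟨⟨a, ha⟩, ?_⟩
    change b a i = x
    rw [h1, Function.update_self]
  · obtain ⟨a, ha, h1⟩ := M'.surj fun _ => ![0, x]
    refine ⟨⟨a, ha⟩, ?_⟩
    change M'.e a j 1 = x
    rw [h1]; rfl
  · have h1 := m.iff _ (mul_mem x.2 (inv_mem y.2))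
    rw [d.i1.mul d.VP x.2 (inv_mem y.2), d.i1.inv d.VP y.2, e_div M' x.2 y.2, Pi.add_apply, Pi.neg_apply,
      ← sub_eq_add_neg, sub_eq_zero, Pi.sub_apply, Pi.sub_apply, sub_eq_zero] at h1
    exact h1

theorem I_ne (hk : 0 < k) : I.Nonempty := by
  by_contra h0
  rw [Set.not_nonempty_iff_eq_empty] at h0
  apply d.hp.ne
  rw [commutator_comm, commutator_eq_bot_iff_le_centralizer]
  intro a ha
  refine mem_centralizer_iff.2 fun v hv => ?_
  symm
  rw [d.iff1 hk ha hv]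
  intro i
  rw [d.i1.off a ha i (by rw [h0]; exact Set.notMem_empty i), zero_mul]

/-- `|F| = |F'|` -/
theorem card_eq (hk : 0 < k) (hk' : 0 < k') : Nat.card F = Nat.card F' := by
  obtain ⟨i, hi⟩ := d.I_ne hk
  obtain ⟨j, m⟩ := d.matches_ hk hk' hi
  exact d.card_eq_of hk hk' m

/-- `a ∈ N'_j` acts as `one1 i (up (b a i))` -/
theorem al (hk : 0 < k) (hk' : 0 < k') {i : Fin k} {j : Fin k'} (m : MtI b M' I I' i j) {a : G} (ha : a ∈ Nc M' j) :
    (∀ l, l ≠ i → b a l = 0) ∧ Al M i a (up (b a i)) := by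
  have haV := Nc_le M' j ha
  have h1 : ∀ l, l ≠ i → b a l = 0 := by
    intro l hl
    by_cases hlI : l ∈ I
    · obtain ⟨j', m'⟩ := d.matches_ hk hk' hlI
      have h2 : j' ≠ j := by
        rintro rfl
        exact hl (d.munique' hk hk' m' m)
      rw [m'.iff a haV, Nc_e M' ha j' h2]; rfl
    · exact d.i1.off a haV l hlI
  refine ⟨h1, d.VP haV, ?_⟩
  have h2 := d.i1.act a haV
  have e : (fun l => up (b a l)) = one1 i (up (b a i)) := by
    funext l
    by_cases hl : l = i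
    · subst hl; rw [one1_same]
    · rw [one1_ne hl, h1 l hl, up_zero]
  rwa [e] at h2

theorem mt (hk : 0 < k) (hk' : 0 < k') {i : Fin k} {j : Fin k'} (m : MtI b M' I I' i j) : Mt M M' i j := by
  classical
  have hfull : ∀ x, ∃ a ∈ Nc M' j, b a i = x := by
    intro x
    obtain ⟨a, ha, h1⟩ := d.i1.ex (Function.update 0 i x) (upd_off m.hi x)
    obtain ⟨u, hu, hue⟩ := Nc_ex M' j (M'.e a j)
    have huV := Nc_le M' j hu
    refine ⟨u, hu, ?_⟩
    have h2 : b (u * a⁻¹) i = 0 := by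
      rw [m.iff _ (mul_mem huV (inv_mem ha)), e_div M' huV ha, Pi.sub_apply, hue, sub_self]; rfl
    rw [d.i1.mul d.VP huV (inv_mem ha), d.i1.inv d.VP ha, h1, Pi.add_apply, Pi.neg_apply, Function.update_self,
      ← sub_eq_add_neg, sub_eq_zero] at h2
    exact h2
  refine ⟨fun a ha => ⟨_, (d.al hk hk' m ha).2⟩, fun x => ?_, fun v hv => ?_⟩
  · obtain ⟨a, ha, rfl⟩ := hfull x
    exact ⟨a, ha, (d.al hk hk' m ha).2⟩
  · constructor
    · intro h1
      obtain ⟨a, ha, hx⟩ := hfull 1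
      have h2 := (d.iff1 hk (Nc_le M' j ha) hv).1 (h1 a ha) i
      rwa [hx, one_mul] at h2
    · intro h1 a ha
      rw [d.iff1 hk (Nc_le M' j ha) hv]
      intro l
      by_cases hl : l = i
      · rw [hl, h1, mul_zero]
      · rw [(d.al hk hk' m ha).1 l hl, zero_mul]

/-- a matched pair, both directions -/
theorem exists_mt (hk : 0 < k) (hk' : 0 < k') : ∃ i j, Mt M M' i j ∧ Mt M' M j i := by
  obtain ⟨i, hi⟩ := d.I_ne hk
  obtain ⟨j, m⟩ := d.matches_ hk hk' hi
  exact ⟨i, j, d.mt hk hk' m, d.symm.mt hk' hk (d.msymm hk hk' m)⟩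

end PD

end pair

end Cfsg.Agent.Omega.IId.Ns
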