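import Cfsg.Agent.Omega.IId.Ns.NineT
import Cfsg.Agent.Omega.HOne.NSK.Lin

/-!
# II.d, `k = 2`, nonsplit: the group `GG = ⟨X, w, T ∩ C⟩` on `Y = A (w A w⁻¹) = A B`
-/

set_option autoImplicit false
set_option linter.unusedSectionVars false

namespace Cfsg.Agent.Omega.IId.Ns

open Subgroup Cfsg Cfsg.Agent.ZN Cfsg.Agent.Lib.SL2Mat
open Cfsg.Agent.Omega.HOne.NSMod Cfsg.Agent.Omega.HOne.NSSide Cfsg.Agent.Omega.HOne.NSPair Cfsg.Agent.Omega.HOne.NSDat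
open Cfsg.Agent.Omega.NatPair (ap ap_add ap_mul ap_one ap_inj ext2 ap_zero' ap_one' ap_inv_ap ap_ap_inv)
open Cfsg.Agent.Omega.BTwo (cj mem_cj conj_mem_cj card_cj cj_mul isPGroup_cj mem_normalizer_of_conj)

universe u

variable {G : Type u} [Group G] {F : Type} [Field F]
  {T T' L L' A A' U U' : Subgroup G} {π π' : G → Fin 2 → F} {e f g e' f' g' : F → G} {s : G → F}

/-- The situation of (9): `w ∈ C`, `w ∈ N(T) - T`, `T⟨w⟩` a 2-group. -/
structure NW (T T' L L' A A' U U' : Subgroup G) (π π' : G → Fin 2 → F) (e f g e' f' g' : F → G) (s : G → F)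
    (w n : G) : Prop where
  b : Base T T' L L' A A' U U' π π' e f g e' f' g'
  c : Core T L A A' U U' π e g s
  O' : A' ≤ o2 (CC U U')
  wC : w ∈ CC U U'
  wT : w ∈ normalizer (T : Set G)
  w2 : w * w ∈ T
  tw : IsPGroup 2 ↥(T ⊔ zpowers w)
  nT : w ∉ T
  hn : Is L A U π n (wm 1 one_ne_zero)

namespace NW

variable [Finite G] [Finite F] {w n : G} (h : NW T T' L L' A A' U U' π π' e f g e' f' g' s w n)

/-- `Y = A (w A w⁻¹)` -/
def Y (A : Subgroup G) (w : G) : Subgroup G := A ⊔ cj w A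

/-- `B = C_Y(X)` -/
def B (A A' U : Subgroup G) (w n : G) : Subgroup G := Y A w ⊓ K0 A A' U n

/-- `S₀ = T ∩ C` -/
def S0 (T U U' : Subgroup G) : Subgroup G := T ⊓ CC U U'

/-- `X = ⟨A', n⁻¹ A' n⟩` -/
def X (A' : Subgroup G) (n : G) : Subgroup G := A' ⊔ cj n⁻¹ A'

/-- `GG = ⟨X, T ∩ C, w⟩` -/
def GG (T A' U U' : Subgroup G) (w n : G) : Subgroup G := X A' n ⊔ (S0 T U U' ⊔ zpowers w)

/-- the kernel on `Y` -/
def KK (T A A' U U' : Subgroup G) (w n : G) : Subgroup G := GG T A' U U' w n ⊓ centralizer (Y A w : Set G)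

include h

theorem nM : n ∈ centralizer (U : Set G) := mem_centralizer_iff.2 fun u hu => (h.hn.cen u hu).symm

theorem nM' : n⁻¹ ∈ centralizer (U : Set G) := inv_mem h.nM

theorem AY : A ≤ Y A w := le_sup_left

theorem wAY {a : G} (ha : a ∈ A) : w * a * w⁻¹ ∈ Y A w := le_sup_right (a := A) (conj_mem_cj ha)

theorem Y_le : Y A w ≤ UG A U :=
  sup_le h.c.AU (by rintro _ ⟨a, ha, rfl⟩; exact h.c.MU w h.wC.1 a (h.c.AU ha))

theorem Yc {x y : G} (hx : x ∈ Y A w) (hy : y ∈ Y A w) : x * y = y * x := h.c.ab x (h.Y_le hx) y (h.Y_le hy)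

/-- `T` normalises `C` -/
theorem TC {t : G} (ht : t ∈ T) {x : G} (hx : x ∈ CC U U') : t * x * t⁻¹ ∈ CC U U' := by
  have hU : ∀ y ∈ T, ∀ u ∈ U, y * u * y⁻¹ ∈ U := fun y hy u hu => h.b.p.s.r.Dn y (h.b.TL hy) u hu
  have hU' : ∀ y ∈ T, ∀ u ∈ U', y * u * y⁻¹ ∈ U' := by
    intro y hy u hu
    obtain ⟨z, rfl⟩ := h.b.p.φ'.ND u (h.b.p.s'.r.DV hu) hu
    -- `g'(F) = e(F)`
    have hsurj : ∀ z, ∃ y, g' z = e y := by
      choose θ hθ using h.b.c1
      have hθi : Function.Injective θ := fun x y hxy => h.b.p.φ.e_inj h.b.p.s.r (by rw [hθ, hθ, hxy])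
      intro z
      obtain ⟨x, rfl⟩ := Finite.surjective_of_injective hθi z
      exact ⟨x, (hθ x).symm⟩
    obtain ⟨x, hx⟩ := hsurj z
    rw [hx]
    obtain ⟨z', hz'⟩ := h.b.p.norm_e h.b.g1 hy x
    rw [hz']; exact h.b.eU' z'
  refine ⟨mem_centralizer_iff.2 fun u hu => ?_, mem_centralizer_iff.2 fun u hu => ?_⟩
  · have h1 := hU t⁻¹ (inv_mem ht) u hu
    rw [inv_inv] at h1
    have h2 := cc_l hx h1
    calc u * (t * x * t⁻¹) = t * ((t⁻¹ * u * t) * x) * t⁻¹ := by group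
      _ = t * (x * (t⁻¹ * u * t)) * t⁻¹ := by rw [h2]
      _ = _ := by group
  · have h1 := hU' t⁻¹ (inv_mem ht) u hu
    rw [inv_inv] at h1
    have h2 := cc_r hx h1
    calc u * (t * x * t⁻¹) = t * ((t⁻¹ * u * t) * x) * t⁻¹ := by group
      _ = t * (x * (t⁻¹ * u * t)) * t⁻¹ := by rw [h2]
      _ = _ := by group

/-- `w` normalises `S₀` -/
theorem wS {y : G} (hy : y ∈ S0 T U U') : w * y * w⁻¹ ∈ S0 T U U' :=
  mem_inf.2 ⟨(mem_normalizer_iff.1 h.wT y).1 hy.1, mul_mem (mul_mem h.wC hy.2) (inv_mem h.wC)⟩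

theorem wS' {y : G} (hy : y ∈ S0 T U U') : w⁻¹ * y * w ∈ S0 T U U' := by
  have h1 := (mem_normalizer_iff.1 (inv_mem h.wT) y).1 hy.1
  rw [inv_inv] at h1
  exact mem_inf.2 ⟨h1, mul_mem (mul_mem (inv_mem h.wC) hy.2) h.wC⟩

theorem wwS : w * w ∈ S0 T U U' := ⟨h.w2, mul_mem h.wC h.wC⟩

/-- `C_T(A)` centralises `Y` -/
theorem QY {q : G} (hq : q ∈ T ⊓ centralizer (A : Set G)) {y : G} (hy : y ∈ Y A w) : q * y = y * q := by
  have h1 : Y A w ≤ centralizer ({q} : Set G) := by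
    refine sup_le (fun a ha => ?_) ?_
    · rw [mem_centralizer_iff]
      rintro _ rfl
      exact (mem_centralizer_iff.1 hq.2 a ha).symm
    · rintro _ ⟨a, ha, rfl⟩
      change w * a * w⁻¹ ∈ _
      rw [mem_centralizer_iff]
      rintro _ rfl
      exact comm_Q h.b h.c h.O' h.wC h.wT hq ha
  exact mem_centralizer_iff.1 (h1 hy) q rfl

/-- `S₀` acts on `Y` as `A'` -/
theorem actS {y : G} (hy : y ∈ S0 T U U') : ∃ t : F, (∀ v ∈ A, y * v * y⁻¹ = e (t ^ 2 * π v 0) * g (t * π v 0) * v) ∧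
    ∀ u ∈ Y A w, y * u * y⁻¹ = e (t ^ 2 * s u) * g (t * s u) * u := by
  obtain ⟨t, ht⟩ := h.b.tau hy.1 hy.2
  refine ⟨t, ht, fun u hu => ?_⟩
  obtain ⟨k, hk, hkI⟩ := h.b.exists_n t
  have hq : k⁻¹ * y ∈ T ⊓ centralizer (A : Set G) := by
    refine mem_inf.2 ⟨mul_mem (inv_mem (h.b.A'T hk)) hy.1, mem_centralizer_iff.2 fun v hv => ?_⟩
    have h1 := ht v hv
    have h2 := h.b.act_n hkI hv
    have h3 : k⁻¹ * (y * v * y⁻¹) * k = v := by
      rw [h1, ← h2]; group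
    calc v * (k⁻¹ * y) = (k⁻¹ * (y * v * y⁻¹) * k) * (k⁻¹ * y) := by rw [h3]
      _ = _ := by group
  have h4 := h.QY hq hu
  have h5 := h.c.s_act t k hk hkI u (h.Y_le hu)
  calc y * u * y⁻¹ = k * ((k⁻¹ * y) * u) * (k⁻¹ * y)⁻¹ * k⁻¹ := by group
    _ = k * u * k⁻¹ := by rw [h4]; group
    _ = _ := h5

/-- the parameter is determined -/
theorem t_inj {t t' : F} (h1 : e (t ^ 2 * π (f 1) 0) * g (t * π (f 1) 0) = e (t' ^ 2 * π (f 1) 0) * g (t' * π (f 1) 0)) :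
    t = t' := by
  have hf : π (f 1) 0 = 1 := by rw [h.b.p.φ.fπ]; rfl
  rw [hf, mul_one, mul_one, mul_one, mul_one] at h1
  have h2 := (h.b.p.φ.eg_inj h.b.p.s.r h1).1
  have two := h.b.p.s.r.two
  have h3 : (t - t') ^ 2 = 0 := by linear_combination h2 + (t' ^ 2 - t * t') * two
  exact sub_eq_zero.1 (pow_eq_zero_iff two_ne_zero |>.1 h3)

/-- `Y = A B` -/
theorem Y_dec {u : G} (hu : u ∈ Y A w) : ∃ a ∈ A, ∃ k ∈ B A A' U w n, u = a * k := by
  have hBA : B A A' U w n ≤ normalizer (A : Set G) := by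
    intro k hk
    rw [mem_normalizer_iff]
    intro a
    constructor
    · intro ha
      rw [h.Yc hk.1 (h.AY ha), mul_inv_cancel_right]; exact ha
    · intro ha
      have h1 := h.Yc hk.1 (h.AY ha)
      have h2 : a = k⁻¹ * (k * a * k⁻¹) * k := by group
      have h3 : k⁻¹ * (k * a * k⁻¹) * k = k * a * k⁻¹ := by
        rw [mul_assoc, ← h1, inv_mul_cancel_left]
      rw [h2, h3]; exact ha
  have h1 : Y A w ≤ A ⊔ B A A' U w n := by
    refine sup_le le_sup_left ?_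
    rintro _ ⟨a, ha, rfl⟩
    change w * a * w⁻¹ ∈ _
    have haU := h.c.AU ha
    have hwa : w * a * w⁻¹ ∈ UG A U := h.c.MU w h.wC.1 a haU
    have hd : a⁻¹ * (w * a * w⁻¹) ∈ UG A U := mul_mem (inv_mem haU) hwa
    have hs : s (a⁻¹ * (w * a * w⁻¹)) = 0 := by
      rw [h.c.s_add _ (inv_mem haU) _ hwa, h.c.s_conj w h.wC a ha, h.c.s_A _ (inv_mem ha), h.b.p.s.r.map_inv ha]
      simp
    obtain ⟨z, hz⟩ := dec_ker h.b h.c h.hn hd hs
    have e1 : w * a * w⁻¹ = (a * e z) * ((e z)⁻¹ * (a⁻¹ * (w * a * w⁻¹))) := by group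
    rw [e1]
    refine mul_mem (le_sup_left (a := A) (mul_mem ha (h.b.eA z))) (le_sup_right (a := A) (mem_inf.2 ⟨?_, hz⟩))
    exact mul_mem (inv_mem (h.AY (h.b.eA z))) (mul_mem (inv_mem (h.AY ha)) (h.wAY ha))
  have h2 : u ∈ ((A ⊔ B A A' U w n : Subgroup G) : Set G) := h1 hu
  rw [coe_mul_of_right_le_normalizer_left _ _ hBA] at h2
  obtain ⟨a, ha, k, hk, rfl⟩ := h2
  exact ⟨a, ha, k, hk, rfl⟩

/-- `s = 0` on `B` -/
theorem sB {k : G} (hk : k ∈ B A A' U w n) : s k = 0 :=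
  ((mem_K0_iff h.b h.c h.hn (h.Y_le hk.1)).1 hk.2).1

/-- `X` centralises `B` -/
theorem XB {x : G} (hx : x ∈ X A' n) {k : G} (hk : k ∈ B A A' U w n) : x * k = k * x := by
  have h1 : X A' n ≤ centralizer ({k} : Set G) := by
    refine sup_le (fun a ha => ?_) (fun a ha => ?_)
    · rw [mem_centralizer_iff]
      rintro _ rfl
      exact ((mem_K0.1 hk.2).2.1 a ha).symm
    · rw [mem_centralizer_iff]
      rintro _ rfl
      exact (mem_centralizer_iff.1 hk.2.2 a ha).symm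
  exact (mem_centralizer_iff.1 (h1 hx) k rfl).symm

/-- `X ≤ L` -/
theorem XL : X A' n ≤ L :=
  sup_le (h.b.A'T.trans h.b.TL) (by
    rintro _ ⟨a, ha, rfl⟩
    exact mul_mem (mul_mem (inv_mem h.hn.mem) (h.b.TL (h.b.A'T ha))) (by simpa using h.hn.mem))

/-- `X ≤ C(U)` -/
theorem XM : X A' n ≤ centralizer (U : Set G) :=
  sup_le (fun a ha => (h.b.A'C ha).1) (by
    rintro _ ⟨a, ha, rfl⟩
    exact mul_mem (mul_mem h.nM' (h.b.A'C ha).1) (inv_mem h.nM'))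

/-- `X` normalises `Y` -/
theorem XY {x : G} (hx : x ∈ X A' n) {u : G} (hu : u ∈ Y A w) : x * u * x⁻¹ ∈ Y A w := by
  obtain ⟨a, ha, k, hk, rfl⟩ := h.Y_dec hu
  have h1 : x * a * x⁻¹ ∈ A := h.b.p.s.r.Vn x (h.XL hx) a ha
  have e1 : x * (a * k) * x⁻¹ = (x * a * x⁻¹) * (x * k * x⁻¹) := by group
  rw [e1, fix_of_comm (h.XB hx hk)]
  exact mul_mem (h.AY h1) hk.1

theorem SY {x : G} (hx : x ∈ S0 T U U') {u : G} (hu : u ∈ Y A w) : x * u * x⁻¹ ∈ Y A w := by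
  obtain ⟨t, -, h1⟩ := h.actS hx
  rw [h1 u hu]
  exact mul_mem (mul_mem (h.AY (h.b.eA _)) (h.AY (h.b.gA _))) hu

theorem wY {u : G} (hu : u ∈ Y A w) : w * u * w⁻¹ ∈ Y A w := by
  have h1 : cj w (Y A w) ≤ Y A w := by
    unfold Y
    rw [BTwo.cj_sup]
    refine sup_le le_sup_right ?_
    rintro _ ⟨_, ⟨a, ha, rfl⟩, rfl⟩
    change w * (w * a * w⁻¹) * w⁻¹ ∈ _
    have e1 : w * (w * a * w⁻¹) * w⁻¹ = (w * w) * a * (w * w)⁻¹ := by group
    rw [e1]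
    exact le_sup_left (a := A) (h.b.p.s.r.Vn _ (h.b.TL h.w2) a ha)
  exact h1 (conj_mem_cj hu)

/-- `GG` normalises `Y` -/
theorem GY : GG T A' U U' w n ≤ normalizer (Y A w : Set G) := by
  refine sup_le (fun x hx => mem_normalizer_of_conj fun u hu => h.XY hx hu)
    (sup_le (fun x hx => mem_normalizer_of_conj fun u hu => h.SY hx hu) ?_)
  rw [zpowers_le]
  exact mem_normalizer_of_conj fun u hu => h.wY hu

theorem GY' {x : G} (hx : x ∈ GG T A' U U' w n) {u : G} (hu : u ∈ Y A w) : x * u * x⁻¹ ∈ Y A w :=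
  (mem_normalizer_iff.1 (h.GY hx) u).1 hu

theorem GM : GG T A' U U' w n ≤ centralizer (U : Set G) :=
  sup_le h.XM (sup_le (fun _ hx => hx.2.1) (by rw [zpowers_le]; exact h.wC.1))

theorem XG : X A' n ≤ GG T A' U U' w n := le_sup_left

theorem SG : S0 T U U' ≤ GG T A' U U' w n := le_sup_left.trans le_sup_right

theorem wG : w ∈ GG T A' U U' w n :=
  (le_sup_right.trans (le_sup_right (a := X A' n)) : zpowers w ≤ GG T A' U U' w n) (mem_zpowers w)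

theorem ShG : S0 T U U' ⊔ zpowers w ≤ GG T A' U U' w n := le_sup_right

theorem KG : KK T A A' U U' w n ≤ GG T A' U U' w n := inf_le_left

theorem mem_KK {x : G} : x ∈ KK T A A' U U' w n ↔ x ∈ GG T A' U U' w n ∧ ∀ u ∈ Y A w, x * u = u * x := by
  unfold KK
  rw [mem_inf, mem_centralizer_iff]
  exact ⟨fun ⟨h1, h2⟩ => ⟨h1, fun u hu => (h2 u hu).symm⟩, fun ⟨h1, h2⟩ => ⟨h1, fun u hu => (h2 u hu).symm⟩⟩

/-- `KK` is normal in `GG` -/
theorem GK : GG T A' U U' w n ≤ normalizer (KK T A A' U U' w n : Set G) := by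
  intro x hx
  refine mem_normalizer_of_conj fun k hk => ?_
  rw [h.mem_KK] at hk ⊢
  refine ⟨mul_mem (mul_mem hx hk.1) (inv_mem hx), fun u hu => ?_⟩
  have h1 : x⁻¹ * u * x ∈ Y A w := by
    have := h.GY' (inv_mem hx) hu
    rwa [inv_inv] at this
  have h2 := hk.2 _ h1
  calc x * k * x⁻¹ * u = x * (k * (x⁻¹ * u * x)) * x⁻¹ := by group
    _ = x * (x⁻¹ * u * x * k) * x⁻¹ := by rw [h2]
    _ = _ := by group

/-- `C_T(A) ≤ KK` -/
theorem QK : T ⊓ centralizer (A : Set G) ≤ KK T A A' U U' w n := by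
  intro q hq
  rw [h.mem_KK]
  exact ⟨h.SG ⟨hq.1, h.b.QC hq⟩, fun u hu => h.QY hq hu⟩

end NW

end Cfsg.Agent.Omega.IId.Ns
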