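import Cfsg.Agent.Omega.IId.Ns.NineB
import Cfsg.Agent.Lib.GoldschmidtFusion
import Cfsg.Agent.Lib.EssentialFusion

/-!
# II.d, `k = 2`, nonsplit: (9c) `w² ∈ KK`
-/

set_option autoImplicit false
set_option linter.unusedSectionVars false

namespace Cfsg.Agent.Omega.IId.Ns

open Subgroup Cfsg Cfsg.Agent.ZN Cfsg.Agent.Lib.SL2Mat
open Cfsg.Agent.Omega.HOne.NSMod Cfsg.Agent.Omega.HOne.NSSide Cfsg.Agent.Omega.HOne.NSPair Cfsg.Agent.Omega.HOne.NSDat
open Cfsg.Agent.Omega.NatPair (ap ap_add ap_mul ap_one ap_inj ext2 ap_zero' ap_one' ap_inv_ap ap_ap_inv)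
open Cfsg.Agent.Omega.BTwo (cj mem_cj conj_mem_cj card_cj cj_mul mem_normalizer_of_conj cj_eq_self_iff)

universe u

variable {G : Type u} [Group G] {F : Type} [Field F]
  {T T' L L' A A' U U' : Subgroup G} {π π' : G → Fin 2 → F} {e f g e' f' g' : F → G} {s : G → F}

/-- the elements of `H` commuting with `y` modulo `K` -/
def cenMod (H K : Subgroup G) (hK : H ≤ normalizer (K : Set G)) (y : G) : Subgroup G where
  carrier := {c | c ∈ H ∧ c * y * c⁻¹ * y⁻¹ ∈ K}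
  one_mem' := ⟨one_mem _, by simp⟩
  mul_mem' := by
    rintro c d ⟨hc, hc'⟩ ⟨hd, hd'⟩
    refine ⟨mul_mem hc hd, ?_⟩
    have e1 : c * d * y * (c * d)⁻¹ * y⁻¹ = c * (d * y * d⁻¹ * y⁻¹) * c⁻¹ * (c * y * c⁻¹ * y⁻¹) := by group
    rw [e1]
    exact mul_mem ((mem_normalizer_iff.1 (hK hc) _).1 hd') hc'
  inv_mem' := by
    rintro c ⟨hc, hc'⟩
    refine ⟨inv_mem hc, ?_⟩
    have e1 : c⁻¹ * y * c⁻¹⁻¹ * y⁻¹ = (c⁻¹ * (c * y * c⁻¹ * y⁻¹) * c⁻¹⁻¹)⁻¹ := by group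
    rw [e1]
    exact inv_mem ((mem_normalizer_iff.1 (hK (inv_mem hc)) _).1 hc')

theorem Base.U'_e [Finite F] (b : Base T T' L L' A A' U U' π π' e f g e' f' g') {u : G} (hu : u ∈ U') :
    ∃ z, u = e z := by
  obtain ⟨z, rfl⟩ := b.p.φ'.ND u (b.p.s'.r.DV hu) hu
  choose θ hθ using b.c1
  have hθi : Function.Injective θ := fun x y hxy => b.p.φ.e_inj b.p.s.r (by rw [hθ, hθ, hxy])
  obtain ⟨x, rfl⟩ := Finite.surjective_of_injective hθi z
  exact ⟨x, (hθ x).symm⟩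

theorem Base.U_g (b : Base T T' L L' A A' U U' π π' e f g e' f' g') {u : G} (hu : u ∈ U) :
    ∃ z, u = g z := b.p.φ.ND u (b.p.s.r.DV hu) hu

namespace NW

variable [Finite G] [Finite F] {w n : G} (h : NW T T' L L' A A' U U' π π' e f g e' f' g' s w n)

/-- `Sh = S₀ ⟨w⟩` -/
def Sh (T U U' : Subgroup G) (w : G) : Subgroup G := S0 T U U' ⊔ zpowers w

include h

/-- lifts of `SL₂` in `X` -/
theorem X_lift (M : Matrix.SpecialLinearGroup (Fin 2) F) : ∃ x ∈ X A' n, Is L A U π x M := by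
  have r := h.b.p.s.r
  have h1 : ∀ b : F, ∃ x ∈ X A' n, Is L A U π x (lo b) := fun b => by
    obtain ⟨a, ha, hI⟩ := h.b.p.s.full b
    exact ⟨a, (le_sup_left : A' ≤ X A' n) ha, hI⟩
  have h2 : ∀ b : F, ∃ x ∈ X A' n, Is L A U π x (up b) := fun b => by
    obtain ⟨a, ha, hI⟩ := h.b.p.s.full (-b)
    refine ⟨n⁻¹ * a * n, ?_, ?_⟩
    · have := conj_mem_cj (g := n⁻¹) ha
      rw [inv_inv] at this
      exact (le_sup_right : cj n⁻¹ A' ≤ X A' n) this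
    · have h3 := r.is_mul (r.is_mul (r.is_inv h.hn) hI) h.hn
      have h4 : (wm (1 : F) one_ne_zero)⁻¹ * lo (-b) * wm 1 one_ne_zero = up b := by
        rw [mul_assoc, inv_mul_eq_iff_eq_mul]
        apply ext_ent <;> simp [ent_mul]
      rwa [h4] at h3
  obtain ⟨a, b, c, d, rfl⟩ := exists_up_lo M
  obtain ⟨x1, hx1, i1⟩ := h2 a
  obtain ⟨x2, hx2, i2⟩ := h1 b
  obtain ⟨x3, hx3, i3⟩ := h2 c
  obtain ⟨x4, hx4, i4⟩ := h1 d
  exact ⟨x1 * x2 * x3 * x4, mul_mem (mul_mem (mul_mem hx1 hx2) hx3) hx4,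
    r.is_mul (r.is_mul (r.is_mul i1 i2) i3) i4⟩

/-- `S₀` centralises `B` -/
theorem SB {x : G} (hx : x ∈ S0 T U U') {k : G} (hk : k ∈ B A A' U w n) : x * k = k * x := by
  obtain ⟨t, -, h1⟩ := h.actS hx
  have h2 := h1 k hk.1
  rw [h.sB hk, mul_zero, mul_zero, h.b.p.φ.e0, h.b.p.φ.g0, one_mul, one_mul] at h2
  exact comm_of_fix h2

/-- what centralises `A` and `B` is in `KK` -/
theorem mem_KK' {x : G} (hx : x ∈ GG T A' U U' w n) (hA : ∀ a ∈ A, x * a * x⁻¹ = a)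
    (hB : ∀ k ∈ B A A' U w n, x * k = k * x) : x ∈ KK T A A' U U' w n := by
  rw [h.mem_KK]
  refine ⟨hx, fun u hu => ?_⟩
  obtain ⟨a, ha, k, hk, rfl⟩ := h.Y_dec hu
  rw [← mul_assoc, comm_of_fix (hA a ha), mul_assoc, hB k hk, mul_assoc]

/-- elements of `X` with the same action on `A` agree modulo `KK` -/
theorem X_KK {x y : G} (hx : x ∈ X A' n) (hy : y ∈ X A' n) {M : Matrix.SpecialLinearGroup (Fin 2) F}
    (hxM : Is L A U π x M) (hyM : Is L A U π y M) : x * y⁻¹ ∈ KK T A A' U U' w n := by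
  refine h.mem_KK' (h.XG (mul_mem hx (inv_mem hy))) (fun a ha => ?_) fun k hk => ?_
  · have h1 : y⁻¹ * a * y ∈ A := by
      have := h.b.p.s.r.Vn y⁻¹ (inv_mem hyM.mem) a ha
      rwa [inv_inv] at this
    have h2 := h.b.p.s.r.is_eq hxM hyM _ h1
    calc x * y⁻¹ * a * (x * y⁻¹)⁻¹ = x * (y⁻¹ * a * y) * x⁻¹ := by group
      _ = y * (y⁻¹ * a * y) * y⁻¹ := h2
      _ = a := by group
  · exact h.XB (mul_mem hx (inv_mem hy)) hk

theorem KKn {x k : G} (hx : x ∈ GG T A' U U' w n) (hk : k ∈ KK T A A' U U' w n) :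
    x * k * x⁻¹ ∈ KK T A A' U U' w n := (mem_normalizer_iff.1 (h.GK hx) k).1 hk

theorem ShG' : Sh T U U' w ≤ GG T A' U U' w n := h.ShG

/-- the elements of `Sh` -/
theorem Sh_dec {x : G} (hx : x ∈ Sh T U U' w) : x ∈ S0 T U U' ∨ ∃ y ∈ S0 T U U', x = w * y := by
  have h1 : zpowers w ≤ normalizer (S0 T U U' : Set G) := by
    rw [zpowers_le]
    exact mem_normalizer_of_conj fun y hy => h.wS hy
  have h2 : x ∈ ((zpowers w ⊔ S0 T U U' : Subgroup G) : Set G) := by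
    rw [sup_comm]; exact hx
  rw [coe_mul_of_left_le_normalizer_right _ _ h1] at h2
  obtain ⟨z, ⟨i, rfl⟩, y, hy, rfl⟩ := h2
  change w ^ i * y ∈ _ ∨ _
  rcases Int.even_or_odd' i with ⟨j, hj | hj⟩
  · left
    have e1 : w ^ i = (w * w) ^ j := by rw [hj, zpow_mul, zpow_two]
    rw [e1]
    exact mul_mem (zpow_mem h.wwS j) hy
  · right
    have e1 : w ^ i = w * (w * w) ^ j := by rw [hj, add_comm, zpow_add, zpow_one, zpow_mul, zpow_two]
    refine ⟨(w * w) ^ j * y, mul_mem (zpow_mem h.wwS j) hy, ?_⟩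
    change w ^ i * y = _
    rw [e1, mul_assoc]

theorem Sh_T : Sh T U U' w ≤ T ⊔ zpowers w := sup_le_sup_right inf_le_left _

theorem Sh2 : IsPGroup 2 (Sh T U U' w) := h.tw.to_le h.Sh_T

theorem wSh : w ∈ Sh T U U' w := (le_sup_right : zpowers w ≤ Sh T U U' w) (mem_zpowers w)

theorem SSh : S0 T U U' ≤ Sh T U U' w := le_sup_left

/-- `T ⟨w⟩` is a Sylow 2-subgroup of `G`, `Sh = T ⟨w⟩ ∩ C(U)` is a Sylow 2-subgroup of `C(U)`. -/
theorem sylC : ¬ 2 ∣ (Sh T U U' w).relIndex (centralizer (U : Set G)) := by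
  have : Fact (Nat.Prime 2) := ⟨Nat.prime_two⟩
  set Th : Subgroup G := T ⊔ zpowers w with hTh
  have hwn : zpowers w ≤ normalizer (T : Set G) := by rw [zpowers_le]; exact h.wT
  -- `|Th| = 2 |T|`
  have hlt : T < Th := lt_of_le_of_ne le_sup_left fun he => h.nT (by
    rw [he]; exact (le_sup_right : zpowers w ≤ Th) (mem_zpowers w))
  have hcard : 2 * Nat.card T ≤ Nat.card Th := by
    have h1 := Subgroup.card_dvd_of_le hlt.le
    obtain ⟨m, hm⟩ := h1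
    have h2 : m ≠ 0 := by
      rintro rfl
      rw [mul_zero] at hm
      exact Nat.card_pos.ne' hm
    have h3 : m ≠ 1 := by
      rintro rfl
      rw [mul_one] at hm
      exact hlt.ne (Subgroup.eq_of_le_of_card_ge hlt.le hm.le)
    rw [hm, mul_comm]
    exact Nat.mul_le_mul_left _ (by omega)
  obtain ⟨Q, hQ⟩ := h.tw.exists_le_sylow
  have hQT : (Q : Subgroup G) = Th := by
    have h1 := h.b.two Q Q.isPGroup' (hlt.le.trans hQ)
    exact (Subgroup.eq_of_le_of_card_ge hQ (h1.trans hcard)).symm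
  -- `Th` normalises `U`
  have hN : Th ≤ normalizer (U : Set G) := by
    refine sup_le (fun t ht => mem_normalizer_of_conj fun u hu => h.b.p.s.r.Dn t (h.b.TL ht) u hu) ?_
    rw [zpowers_le]
    exact centralizer_le_normalizer _ h.wC.1
  have h1 : ¬ 2 ∣ ((Q : Subgroup G) ⊓ normalizer (U : Set G)).relIndex (normalizer (U : Set G)) := by
    have e1 : (Q : Subgroup G) ⊓ normalizer (U : Set G) = Q := inf_eq_left.2 (by rw [hQT]; exact hN)
    rw [e1]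
    intro h2
    exact Q.not_dvd_index (h2.trans (relIndex_dvd_index_of_le (by rw [hQT]; exact hN)))
  have h2 := Cfsg.Agent.Lib.GoldschmidtFusion.not_dvd_relIndex_centralizer Q h1
  have h3 : centralizer (U : Set G) ⊓ (Q : Subgroup G) ≤ Sh T U U' w := by
    rintro x ⟨hx1, hx2⟩
    rw [hQT] at hx2
    have h4 : x ∈ ((T ⊔ zpowers w : Subgroup G) : Set G) := hx2
    rw [coe_mul_of_right_le_normalizer_left _ _ hwn] at h4
    obtain ⟨t, ht, z, hz, rfl⟩ := h4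
    have hz' : z ∈ CC U U' := (zpowers_le.2 h.wC) hz
    have ht' : t ∈ centralizer (U : Set G) := by
      have hz1 : z ∈ centralizer (U : Set G) := hz'.1
      have h5 : t * z * z⁻¹ ∈ centralizer (U : Set G) := mul_mem hx1 (inv_mem hz1)
      rwa [mul_inv_cancel_right] at h5
    have ht2 : t ∈ S0 T U U' := by
      refine ⟨ht, ht', mem_centralizer_iff.2 fun u hu => ?_⟩
      obtain ⟨y, rfl⟩ := h.b.U'_e hu
      exact (cen_e h.b ht (fun y => (mem_centralizer_iff.1 ht' _ (h.b.gU y)).symm) y).symm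
    exact mul_mem (h.SSh ht2) ((le_sup_right : zpowers w ≤ Sh T U U' w) hz)
  intro h4
  exact h2 (h4.trans (relIndex_dvd_of_le_left _ h3))

theorem syl : ¬ 2 ∣ (Sh T U U' w).relIndex (GG T A' U U' w n) :=
  Cfsg.Agent.Lib.EssentialFusion.not_dvd_relIndex_of_le h.ShG' h.GM h.sylC

omit h in
/-- `x` acts on `A` as the element of `A'` with parameter `t` -/
def Par (A : Subgroup G) (π : G → Fin 2 → F) (e g : F → G) (x : G) (t : F) : Prop :=
  ∀ v ∈ A, x * v * x⁻¹ = e (t ^ 2 * π v 0) * g (t * π v 0) * v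

theorem par_uniq {x : G} {t t' : F} (h1 : Par A π e g x t) (h2 : Par A π e g x t') : t = t' := by
  have h3 := h1 (f 1) (h.b.p.φ.fV 1)
  rw [h2 (f 1) (h.b.p.φ.fV 1)] at h3
  exact h.t_inj (mul_right_cancel h3).symm

theorem exists_par {x : G} (hx : x ∈ S0 T U U') : ∃ t, Par A π e g x t := h.b.tau hx.1 hx.2

theorem par_Y {x : G} (hx : x ∈ S0 T U U') {t : F} (ht : Par A π e g x t) {u : G} (hu : u ∈ Y A w) :
    x * u * x⁻¹ = e (t ^ 2 * s u) * g (t * s u) * u := by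
  obtain ⟨t', h1, h2⟩ := h.actS hx
  rw [h.par_uniq ht h1]
  exact h2 u hu

theorem par_KK {x y : G} (hx : x ∈ S0 T U U') (hy : y ∈ S0 T U U') {t : F} (h1 : Par A π e g x t)
    (h2 : Par A π e g y t) : x⁻¹ * y ∈ KK T A A' U U' w n := by
  have hx1 : x ∈ T := hx.1
  have hy1 : y ∈ T := hy.1
  refine h.QK (mem_inf.2 ⟨mul_mem (inv_mem hx1) hy1, mem_centralizer_iff.2 fun v hv => ?_⟩)
  have h3 : x * v * x⁻¹ = y * v * y⁻¹ := (h1 v hv).trans (h2 v hv).symm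
  calc v * (x⁻¹ * y) = x⁻¹ * (x * v * x⁻¹) * y := by group
    _ = x⁻¹ * (y * v * y⁻¹) * y := by rw [h3]
    _ = _ := by group

theorem par_KK' {x y : G} (hx : x ∈ S0 T U U') (hy : y ∈ S0 T U U') {t : F} (h1 : Par A π e g x t)
    (h2 : Par A π e g y t) : x * y⁻¹ ∈ KK T A A' U U' w n := by
  have h3 := h.KKn (h.SG hy) (h.par_KK hy hx h2 h1)
  have e1 : y * (y⁻¹ * x) * y⁻¹ = x * y⁻¹ := by group
  rwa [e1] at h3

theorem par_zero {x : G} (hx : x ∈ S0 T U U') (h1 : Par A π e g x 0) : x ∈ KK T A A' U U' w n := by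
  have h2 : Par A π e g (1 : G) 0 := fun v _ => by
    have h0 : (0 : F) ^ 2 = 0 := by norm_num
    rw [h0, zero_mul, h.b.p.φ.e0, h.b.p.φ.g0]; group
  have h3 := h.par_KK (one_mem _) hx h2 h1
  rwa [inv_one, one_mul] at h3

theorem par_mul {x y : G} (hx : x ∈ CC U U') {t t' : F} (h1 : Par A π e g x t)
    (h2 : Par A π e g y t') : Par A π e g (x * y) (t + t') := by
  intro v hv
  have h3 := h2 v hv
  have hex : ∀ z, x * e z = e z * x := fun z => cc_r hx (h.b.eU' z)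
  have hgx : ∀ z, x * g z = g z * x := fun z => cc_l hx (h.b.gU z)
  have two := h.b.p.s.r.two
  have e2 : (t + t') ^ 2 * π v 0 = t' ^ 2 * π v 0 + t ^ 2 * π v 0 := by linear_combination t * t' * π v 0 * two
  have e3 : (t + t') * π v 0 = t' * π v 0 + t * π v 0 := by ring
  have h4 := h1 v hv
  calc x * y * v * (x * y)⁻¹ = x * (y * v * y⁻¹) * x⁻¹ := by group
    _ = x * (e (t' ^ 2 * π v 0) * g (t' * π v 0) * v) * x⁻¹ := by rw [h3]
    _ = (x * e (t' ^ 2 * π v 0)) * g (t' * π v 0) * v * x⁻¹ := by group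
    _ = e (t' ^ 2 * π v 0) * (x * g (t' * π v 0)) * v * x⁻¹ := by rw [hex]; group
    _ = e (t' ^ 2 * π v 0) * g (t' * π v 0) * (x * v * x⁻¹) := by rw [hgx]; group
    _ = e (t' ^ 2 * π v 0) * (g (t' * π v 0) * e (t ^ 2 * π v 0)) * g (t * π v 0) * v := by rw [h4]; group
    _ = e (t' ^ 2 * π v 0) * (e (t ^ 2 * π v 0) * g (t' * π v 0)) * g (t * π v 0) * v := by
      rw [h.b.Ac (h.b.gA _) (h.b.eA _)]
    _ = e ((t + t') ^ 2 * π v 0) * g ((t + t') * π v 0) * v := by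
      rw [e2, e3, h.b.p.φ.e_add, h.b.p.φ.g_add]; group

theorem par_w {x : G} (hx : x ∈ S0 T U U') {t : F} (ht : Par A π e g x t) : Par A π e g (w⁻¹ * x * w) t := by
  intro v hv
  have h1 := h.par_Y hx ht (h.wAY hv)
  rw [h.c.s_conj w h.wC v hv] at h1
  have hew : ∀ z, w * e z = e z * w := fun z => cc_r h.wC (h.b.eU' z)
  have hgw : ∀ z, w * g z = g z * w := fun z => cc_l h.wC (h.b.gU z)
  have e1 : w⁻¹ * x * w * v * (w⁻¹ * x * w)⁻¹ = w⁻¹ * (x * (w * v * w⁻¹) * x⁻¹) * w := by group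
  rw [e1, h1]
  calc w⁻¹ * (e (t ^ 2 * π v 0) * g (t * π v 0) * (w * v * w⁻¹)) * w
      = w⁻¹ * (e (t ^ 2 * π v 0) * (g (t * π v 0) * w)) * v := by group
    _ = w⁻¹ * ((e (t ^ 2 * π v 0) * w) * g (t * π v 0)) * v := by rw [← hgw]; group
    _ = _ := by rw [← hew]; group

/-- squares in `S₀` -/
theorem sq_S {x y : G} (hx : x ∈ S0 T U U') (hy : y ∈ S0 T U U') {t : F} (h1 : Par A π e g x t)
    (h2 : Par A π e g y t) : x * y ∈ KK T A A' U U' w n := by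
  refine h.par_zero (mul_mem hx hy) ?_
  have h3 := h.par_mul hx.2 h1 h2
  have e1 : t + t = 0 := by have := h.b.p.s.r.two; linear_combination t * this
  rwa [e1] at h3

/-- squares in `Sh` -/
theorem sq_Sh {x : G} (hx : x ∈ Sh T U U' w) :
    x * x ∈ KK T A A' U U' w n ∨ x * x * (w * w)⁻¹ ∈ KK T A A' U U' w n := by
  rcases h.Sh_dec hx with hx | ⟨y, hy, rfl⟩
  · obtain ⟨t, ht⟩ := h.exists_par hx
    exact Or.inl (h.sq_S hx hx ht ht)
  · right
    obtain ⟨t, ht⟩ := h.exists_par hy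
    have h1 := h.sq_S (h.wS' hy) hy (h.par_w hy ht) ht
    have h2 := h.KKn (mul_mem h.wG h.wG) h1
    have e1 : w * w * (w⁻¹ * y * w * y) * (w * w)⁻¹ = w * y * (w * y) * (w * w)⁻¹ := by group
    rwa [e1] at h2

/-- `Sh` is abelian modulo `KK` -/
theorem ab_Sh {x y : G} (hx : x ∈ Sh T U U' w) (hy : y ∈ Sh T U U' w) :
    x * y * x⁻¹ * y⁻¹ ∈ KK T A A' U U' w n := by
  have hSS : ∀ x ∈ S0 T U U', ∀ y ∈ S0 T U U', x * y * x⁻¹ * y⁻¹ ∈ KK T A A' U U' w n := by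
    intro x hx y hy
    obtain ⟨t, ht⟩ := h.exists_par hx
    obtain ⟨t', ht'⟩ := h.exists_par hy
    have h1 := h.par_mul hx.2 ht ht'
    have h2 := h.par_mul hy.2 ht' ht
    rw [add_comm] at h2
    have h3 := h.par_KK' (mul_mem hx hy) (mul_mem hy hx) h1 h2
    have e1 : x * y * (y * x)⁻¹ = x * y * x⁻¹ * y⁻¹ := by group
    rwa [e1] at h3
  have hwS : ∀ y ∈ S0 T U U', w * y * w⁻¹ * y⁻¹ ∈ KK T A A' U U' w n := by
    intro y hy
    obtain ⟨t, ht⟩ := h.exists_par hy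
    have h1 := h.par_KK' hy (h.wS' hy) ht (h.par_w hy ht)
    have h2 := h.KKn h.wG h1
    have e1 : w * (y * (w⁻¹ * y * w)⁻¹) * w⁻¹ = w * y * w⁻¹ * y⁻¹ := by group
    rwa [e1] at h2
  have hc : ∀ {x y : G}, x * y * x⁻¹ * y⁻¹ ∈ KK T A A' U U' w n → y * x * y⁻¹ * x⁻¹ ∈ KK T A A' U U' w n := by
    intro x y h1
    have e1 : y * x * y⁻¹ * x⁻¹ = (x * y * x⁻¹ * y⁻¹)⁻¹ := by group
    rw [e1]; exact inv_mem h1
  have h1 : ∀ y ∈ S0 T U U', Sh T U U' w ≤ cenMod (GG T A' U U' w n) (KK T A A' U U' w n) h.GK y := by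
    intro y hy
    refine sup_le (fun x hx => ⟨h.SG hx, hSS x hx y hy⟩) ?_
    rw [zpowers_le]
    exact ⟨h.wG, hwS y hy⟩
  have h2 : Sh T U U' w ≤ cenMod (GG T A' U U' w n) (KK T A A' U U' w n) h.GK w := by
    refine sup_le (fun x hx => ⟨h.SG hx, hc (hwS x hx)⟩) ?_
    rw [zpowers_le]
    refine ⟨h.wG, ?_⟩
    have e1 : w * w * w⁻¹ * w⁻¹ = 1 := by group
    rw [e1]; exact one_mem _
  have h3 : Sh T U U' w ≤ cenMod (GG T A' U U' w n) (KK T A A' U U' w n) h.GK x := by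
    refine sup_le (fun y hy => ⟨h.SG hy, hc (h1 y hy hx).2⟩) ?_
    rw [zpowers_le]
    exact ⟨h.wG, hc (h2 hx).2⟩
  exact hc (h3 hy).2

/-- **(9c)** -/
theorem ww : w * w ∈ KK T A A' U U' w n := by
  by_contra hn
  obtain ⟨t, ht⟩ := h.exists_par h.wwS
  have ht0 : t ≠ 0 := by
    rintro rfl
    exact hn (h.par_zero h.wwS ht)
  obtain ⟨a, ha0, ha1⟩ := h.b.p.ω
  have r := h.b.p.s.r
  obtain ⟨x, hxX, hx⟩ := h.X_lift (dg a⁻¹ (inv_ne_zero ha0))
  obtain ⟨m, hm, hmI⟩ := h.b.exists_n t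
  obtain ⟨m', hm', hm'I⟩ := h.b.exists_n (a * t)
  have hA'S : A' ≤ S0 T U U' := fun y hy => ⟨h.b.A'T hy, h.b.A'C hy⟩
  have hpm : Par A π e g m t := fun v hv => h.b.act_n hmI hv
  have hpm' : Par A π e g m' (a * t) := fun v hv => h.b.act_n hm'I hv
  -- `x m x⁻¹ = m'` modulo `KK`
  have h1 : x * m * x⁻¹ * m'⁻¹ ∈ KK T A A' U U' w n := by
    refine h.X_KK (mul_mem (mul_mem hxX ((le_sup_left : A' ≤ X A' n) hm)) (inv_mem hxX))
      ((le_sup_left : A' ≤ X A' n) hm') (M := lo ((a * t) ^ 2)) ?_ hm'I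
    have h2 := r.is_mul (r.is_mul hx hmI) (r.is_inv hx)
    have h3 : dg a⁻¹ (inv_ne_zero ha0) * lo (t ^ 2) * (dg a⁻¹ (inv_ne_zero ha0))⁻¹ = lo ((a * t) ^ 2) := by
      rw [mul_inv_eq_iff_eq_mul]
      apply ext_ent <;> simp [ent_mul]
      field_simp
    rwa [h3] at h2
  have h2 : w * w * m⁻¹ ∈ KK T A A' U U' w n := h.par_KK' h.wwS (hA'S hm) ht hpm
  have h3 : x * (w * w) * x⁻¹ * m'⁻¹ ∈ KK T A A' U U' w n := by
    have h4 := mul_mem (h.KKn (h.XG hxX) h2) h1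
    have e1 : x * (w * w * m⁻¹) * x⁻¹ * (x * m * x⁻¹ * m'⁻¹) = x * (w * w) * x⁻¹ * m'⁻¹ := by group
    rwa [e1] at h4
  obtain ⟨c, hcG, hcP, hc⟩ := burn h.ShG' h.Sh2 h.syl h.GK (fun x hx y hy => h.ab_Sh hx hy)
    (h.SSh h.wwS) (h.SSh (hA'S hm')) (h.XG hxX) h3
  have h5 := hcP w h.wSh
  have e2 : c * w * c⁻¹ * (c * w * c⁻¹) = c * (w * w) * c⁻¹ := by group
  rcases h.sq_Sh h5 with h6 | h6
  · rw [e2] at h6
    -- `m' ∈ KK`
    have h7 : m' ∈ KK T A A' U U' w n := by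
      have := mul_mem (inv_mem hc) h6
      have e3 : (c * (w * w) * c⁻¹ * m'⁻¹)⁻¹ * (c * (w * w) * c⁻¹) = m' := by group
      rwa [e3] at this
    have h8 : Par A π e g m' 0 := fun v hv => by
      have h0 : (0 : F) ^ 2 = 0 := by norm_num
      rw [h0, zero_mul, h.b.p.φ.e0, h.b.p.φ.g0, one_mul, one_mul]
      exact fix_of_comm ((h.mem_KK.1 h7).2 v (h.AY hv))
    have h9 := h.par_uniq hpm' h8
    exact mul_ne_zero ha0 ht0 h9
  · rw [e2] at h6
    -- `w² m'⁻¹ ∈ KK`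
    have h7 : w * w * m'⁻¹ ∈ KK T A A' U U' w n := by
      have h8 := mul_mem (inv_mem h6) hc
      have e3 : ∀ a b d : G, (a * b⁻¹)⁻¹ * (a * d) = b * d := fun a b d => by group
      rwa [e3] at h8
    have h8 : Par A π e g (w * w) (a * t) := fun v hv => by
      have h9 := (h.mem_KK.1 h7).2 _ (h.AY (show m' * v * m'⁻¹ ∈ A from r.Vn m' (h.b.TL (h.b.A'T hm')) v hv))
      rw [← hpm' v hv]
      calc w * w * v * (w * w)⁻¹ = (w * w * m'⁻¹) * (m' * v * m'⁻¹) * (w * w * m'⁻¹)⁻¹ := by group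
        _ = m' * v * m'⁻¹ := fix_of_comm h9
    have h9 := h.par_uniq ht h8
    apply ha1
    have h10 : a * t = 1 * t := by rw [one_mul]; exact h9.symm
    exact mul_right_cancel₀ ht0 h10

end NW

end Cfsg.Agent.Omega.IId.Ns
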