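import Cfsg.Agent.Omega.IId.Ns.NineC

/-!
# II.d, `k = 2`, nonsplit: (9d) `w` acts on `A` as an element of `A'`
-/

set_option autoImplicit false
set_option linter.unusedSectionVars false

namespace Cfsg.Agent.Omega.IId.Ns

open Subgroup Cfsg Cfsg.Agent.ZN Cfsg.Agent.Lib.SL2Mat
open Cfsg.Agent.Omega.HOne.NSMod Cfsg.Agent.Omega.HOne.NSSide Cfsg.Agent.Omega.HOne.NSPair Cfsg.Agent.Omega.HOne.NSDat
open Cfsg.Agent.Omega.NatPair (ap ap_add ap_mul ap_one ap_inj ext2 ap_zero' ap_one' ap_inv_ap ap_ap_inv)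
open Cfsg.Agent.Omega.BTwo (cj mem_cj conj_mem_cj card_cj cj_mul mem_normalizer_of_conj cj_eq_self_iff)

universe u

variable {G : Type u} [Group G] {F : Type} [Field F]
  {T T' L L' A A' U U' : Subgroup G} {π π' : G → Fin 2 → F} {e f g e' f' g' : F → G} {s : G → F}

/-- coordinates on `Y / B` -/
def pt (s : G → F) (n : G) (u : G) : Fin 2 → F := ![s u, s (n * u * n⁻¹)]

/-- If `D / K` is a 2-group, `K ≤ D` normal in `H`, `S` Sylow in `H`, then `D ≤ K (S ∩ D)`. -/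
theorem le_sup_syl [Finite G] {H D K S : Subgroup G} (hDH : D ≤ H) (hn : H ≤ normalizer (D : Set G))
    (hK : H ≤ normalizer (K : Set G)) (hs : ¬ 2 ∣ S.relIndex H) (hSH : S ≤ H)
    (h2 : ∀ x ∈ D, x * x ∈ K) {x : G} (hx : x ∈ D) : ∃ k ∈ K, ∃ y ∈ S ⊓ D, x = k * y := by
  have hp : Fact (Nat.Prime 2) := ⟨Nat.prime_two⟩
  have hKn : (K.subgroupOf D).Normal := by
    constructor
    intro a ha b
    rw [mem_subgroupOf] at ha ⊢
    exact (mem_normalizer_iff.1 (hK (hDH b.2)) _).1 ha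
  have hq : IsPGroup 2 (D ⧸ K.subgroupOf D) := by
    intro y
    obtain ⟨x, rfl⟩ := QuotientGroup.mk_surjective y
    refine ⟨1, ?_⟩
    rw [← QuotientGroup.mk_pow, QuotientGroup.eq_one_iff, mem_subgroupOf, pow_one, pow_two]
    exact h2 x x.2
  obtain ⟨m, hm⟩ := IsPGroup.iff_card.mp hq
  have h1 : K.relIndex D = 2 ^ m := hm
  have h3 : (K ⊔ (S ⊓ D)).relIndex D ∣ 2 ^ m := by
    rw [← h1]
    exact Subgroup.relIndex_dvd_of_le_left D le_sup_left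
  have hDn : (D.subgroupOf H).Normal := by
    rw [normal_subgroupOf_iff_le_normalizer hDH]; exact hn
  have h4 : S.relIndex D ∣ S.relIndex H := by
    have e1 : S.relIndex D = (S.subgroupOf H).relIndex (D.subgroupOf H) := by rw [relIndex_subgroupOf hDH]
    have e2 : S.relIndex H = (S.subgroupOf H).index := rfl
    rw [e1, e2]
    exact Cfsg.Agent.Lib.GoldschmidtFusion.relIndex_dvd_index_of_normal_right _ _
  have h5 : (K ⊔ (S ⊓ D)).relIndex D ∣ S.relIndex D := by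
    rw [← inf_relIndex_right S D]
    exact Subgroup.relIndex_dvd_of_le_left D le_sup_right
  have h6 : (K ⊔ (S ⊓ D)).relIndex D = 1 := by
    obtain ⟨i, -, hi⟩ := (Nat.dvd_prime_pow Nat.prime_two).1 h3
    rcases Nat.eq_zero_or_pos i with rfl | hi0
    · rw [hi]; rfl
    · exfalso
      apply hs
      refine dvd_trans ?_ (h5.trans h4)
      rw [hi]
      exact dvd_pow_self 2 hi0.ne'
  have h7 : D ≤ K ⊔ (S ⊓ D) := relIndex_eq_one.1 h6
  have h8 : x ∈ ((K ⊔ (S ⊓ D) : Subgroup G) : Set G) := h7 hx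
  rw [coe_mul_of_right_le_normalizer_left _ _ (inf_le_left.trans (hSH.trans hK))] at h8
  obtain ⟨k, hk, y, hy, rfl⟩ := h8
  exact ⟨k, hk, y, hy, rfl⟩

namespace NW

variable [Finite G] [Finite F] {w n : G} (h : NW T T' L L' A A' U U' π π' e f g e' f' g' s w n)

include h

theorem A'S : A' ≤ S0 T U U' := fun _ hy => ⟨h.b.A'T hy, h.b.A'C hy⟩

/-- `|Sh : KK ∩ Sh| ≤ 2 q` -/
theorem card_Sh : (KK T A A' U U' w n).relIndex (Sh T U U' w) ≤ 2 * Nat.card F := by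
  classical
  choose nt hnt hntI using fun t : F => h.b.exists_n t
  have hmem : ∀ p : Bool × F, (if p.1 then w else 1) * nt p.2 ∈ Sh T U U' w := by
    rintro ⟨b, t⟩
    refine mul_mem ?_ (h.SSh (h.A'S (hnt t)))
    cases b
    · simp
    · simpa using h.wSh
  let φ : Bool × F → (Sh T U U' w) ⧸ (KK T A A' U U' w n).subgroupOf (Sh T U U' w) :=
    fun p => QuotientGroup.mk ⟨_, hmem p⟩
  have hS : ∀ y ∈ S0 T U U', ∃ t, (nt t)⁻¹ * y ∈ KK T A A' U U' w n := by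
    intro y hy
    obtain ⟨t, ht⟩ := h.exists_par hy
    exact ⟨t, h.par_KK (h.A'S (hnt t)) hy (fun v hv => h.b.act_n (hntI t) hv) ht⟩
  have hφ : Function.Surjective φ := by
    intro q
    obtain ⟨⟨x, hx⟩, rfl⟩ := QuotientGroup.mk_surjective q
    rcases h.Sh_dec hx with h1 | ⟨y, hy, rfl⟩
    · obtain ⟨t, ht⟩ := hS x h1
      refine ⟨(false, t), ?_⟩
      rw [QuotientGroup.eq, mem_subgroupOf]
      simpa using ht
    · obtain ⟨t, ht⟩ := hS y hy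
      refine ⟨(true, t), ?_⟩
      rw [QuotientGroup.eq, mem_subgroupOf]
      have e1 : (w * nt t)⁻¹ * (w * y) = (nt t)⁻¹ * y := by group
      simpa [e1] using ht
  have h1 := Nat.card_le_card_of_surjective φ hφ
  rw [Nat.card_prod] at h1
  have h2 : Nat.card Bool = 2 := by simp
  rw [h2] at h1
  exact h1

theorem into_Sh {R : Subgroup G} (hR : R ≤ GG T A' U U' w n) (hp : IsPGroup 2 R) :
    ∃ c ∈ GG T A' U U' w n, cj c R ≤ Sh T U U' w := exists_conj_le_syl hR h.Sh2 hp h.syl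

theorem card_2 {R : Subgroup G} (hR : R ≤ GG T A' U U' w n) (hp : IsPGroup 2 R) :
    (KK T A A' U U' w n).relIndex R ≤ 2 * Nat.card F := by
  obtain ⟨c, hc, hcR⟩ := h.into_Sh hR hp
  have h1 : (cj c (KK T A A' U U' w n)).relIndex (cj c R) = (KK T A A' U U' w n).relIndex R :=
    Subgroup.relIndex_map_map_of_injective _ _ (MulAut.conj c).injective
  rw [← h1, cj_eq_self_iff.2 (h.GK hc)]
  exact (relIndex_le_of_le_right hcR (Nat.pos_iff_ne_zero.1 (Nat.pos_of_ne_zero (by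
    exact index_ne_zero_of_finite)))).trans h.card_Sh

theorem sq_Sh' {x : G} (hx : x ∈ Sh T U U' w) : x * x ∈ KK T A A' U U' w n := by
  rcases h.sq_Sh hx with h1 | h1
  · exact h1
  · have h2 := mul_mem h1 h.ww
    rwa [inv_mul_cancel_right] at h2

theorem sq_2 {R : Subgroup G} (hR : R ≤ GG T A' U U' w n) (hp : IsPGroup 2 R) {x : G} (hx : x ∈ R) :
    x * x ∈ KK T A A' U U' w n := by
  obtain ⟨c, hc, hcR⟩ := h.into_Sh hR hp
  have h1 := h.sq_Sh' (hcR (conj_mem_cj hx))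
  have h2 := h.KKn (inv_mem hc) h1
  have e1 : c⁻¹ * (c * x * c⁻¹ * (c * x * c⁻¹)) * c⁻¹⁻¹ = x * x := by group
  rwa [e1] at h2

theorem w_eU {a : G} (ha : a ∈ A) (h0 : π a 0 = 0) : w * a = a * w := by
  have h1 : (e (π a 1))⁻¹ * a ∈ U := by
    refine h.b.mem_U (mul_mem (inv_mem (h.b.eA _)) ha) ?_
    rw [h.b.p.s.r.mul _ (inv_mem (h.b.eA _)) _ ha, h.b.p.s.r.map_inv (h.b.eA _), h.b.p.φ.eπ]
    apply ext2
    · simp [h0]
    · simp
  have h2 := cc_l h.wC h1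
  have h3 := cc_r h.wC (h.b.eU' (π a 1))
  calc w * a = w * e (π a 1) * ((e (π a 1))⁻¹ * a) := by group
    _ = e (π a 1) * (w * ((e (π a 1))⁻¹ * a)) := by rw [h3]; group
    _ = _ := by rw [h2]; group

/-- `w` centralises `B` -/
theorem wB {k : G} (hk : k ∈ B A A' U w n) : w * k = k * w := by
  have h1 : k ∈ ((A ⊔ cj w A : Subgroup G) : Set G) := hk.1
  have hn1 : cj w A ≤ normalizer (A : Set G) := by
    rintro _ ⟨a, ha, rfl⟩
    change w * a * w⁻¹ ∈ _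
    refine mem_normalizer_of_conj fun b hb => ?_
    rw [h.Yc (h.wAY ha) (h.AY hb), mul_inv_cancel_right]; exact hb
  rw [coe_mul_of_right_le_normalizer_left _ _ hn1] at h1
  obtain ⟨a, ha, x, ⟨c, hc, rfl⟩, hk'⟩ := h1
  have hk'' : k = a * (w * c * w⁻¹) := hk'.symm
  have haU := h.c.AU ha
  have hcU := h.c.AU hc
  have hwc : w * c * w⁻¹ ∈ UG A U := h.c.MU w h.wC.1 c hcU
  have h0 := h.sB hk
  rw [hk'', h.c.s_add _ haU _ hwc, h.c.s_A a ha, h.c.s_conj w h.wC c hc] at h0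
  have h2 : w * (a * c) = a * c * w := h.w_eU (mul_mem ha hc) (by
    rw [h.b.p.s.r.mul a ha c hc]; exact h0)
  -- `k = (a c) (c⁻¹ (w c w⁻¹))`
  have h3 : w * (c⁻¹ * (w * c * w⁻¹)) * w⁻¹ = c⁻¹ * (w * c * w⁻¹) := by
    have h4 := fix_of_comm ((h.mem_KK.1 h.ww).2 c (h.AY hc))
    have h5 : (w * c * w⁻¹)⁻¹ = w * c * w⁻¹ := inv_eq_of_mul_eq_one_left (h.c.sq _ hwc)
    have h6 : c⁻¹ = c := h.b.Ai hc
    calc w * (c⁻¹ * (w * c * w⁻¹)) * w⁻¹ = (w * c * w⁻¹)⁻¹ * (w * w * c * (w * w)⁻¹) := by group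
      _ = (w * c * w⁻¹) * c := by rw [h4, h5]
      _ = c * (w * c * w⁻¹) := h.c.ab _ hwc _ hcU
      _ = _ := by rw [h6]
  have h7 : k = (a * c) * (c⁻¹ * (w * c * w⁻¹)) := by rw [hk'']; group
  have h8 : w * k * w⁻¹ = k := by
    calc w * k * w⁻¹ = (w * (a * c) * w⁻¹) * (w * (c⁻¹ * (w * c * w⁻¹)) * w⁻¹) := by rw [h7]; group
      _ = k := by rw [fix_of_comm h2, h3, ← h7]
  exact comm_of_fix h8

/-- `GG` centralises `B` -/
theorem GB {x : G} (hx : x ∈ GG T A' U U' w n) {k : G} (hk : k ∈ B A A' U w n) : x * k = k * x := by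
  have h1 : GG T A' U U' w n ≤ centralizer (B A A' U w n : Set G) := by
    refine sup_le (fun x hx => mem_centralizer_iff.2 fun k hk => (h.XB hx hk).symm)
      (sup_le (fun x hx => mem_centralizer_iff.2 fun k hk => (h.SB hx hk).symm) ?_)
    rw [zpowers_le]
    exact mem_centralizer_iff.2 fun k hk => (h.wB hk).symm
  exact (mem_centralizer_iff.1 (h1 hx) k hk).symm

/-! ### coordinates -/

theorem pt_A {a : G} (ha : a ∈ A) : pt s n a = π a := by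
  have h1 : n * a * n⁻¹ ∈ A := h.b.p.s.r.Vn n h.hn.mem a ha
  unfold pt
  rw [h.c.s_A a ha, h.c.s_A _ h1, h.b.pi_n h.hn ha]
  apply ext2 <;> simp

theorem pt_mul {u v : G} (hu : u ∈ UG A U) (hv : v ∈ UG A U) : pt s n (u * v) = pt s n u + pt s n v := by
  unfold pt
  have e1 : n * (u * v) * n⁻¹ = (n * u * n⁻¹) * (n * v * n⁻¹) := by group
  rw [e1, h.c.s_add u hu v hv, h.c.s_add _ (h.c.MU n h.nM u hu) _ (h.c.MU n h.nM v hv)]
  apply ext2 <;> simp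

theorem pt_B {u : G} (hu : u ∈ Y A w) : pt s n u = 0 ↔ u ∈ B A A' U w n := by
  unfold B
  rw [mem_inf, mem_K0_iff h.b h.c h.hn (h.Y_le hu)]
  unfold pt
  constructor
  · intro h1
    refine ⟨hu, ?_, ?_⟩
    · have := congrFun h1 0; simpa using this
    · have := congrFun h1 1; simpa using this
  · rintro ⟨-, h1, h2⟩
    rw [h1, h2]
    apply ext2 <;> simp

theorem pt_hmul : ∀ y ∈ Y A w, ∀ y' ∈ Y A w, pt s n (y * y') = pt s n y + pt s n y' :=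
  fun _ hy _ hy' => h.pt_mul (h.Y_le hy) (h.Y_le hy')

/-- the action of a lift on `Y / B` -/
theorem pt_X {x : G} (hx : x ∈ X A' n) {M : Matrix.SpecialLinearGroup (Fin 2) F} (hM : Is L A U π x M) {y : G}
    (hy : y ∈ Y A w) : pt s n (x * y * x⁻¹) = ap M (pt s n y) := by
  obtain ⟨a, ha, k, hk, rfl⟩ := h.Y_dec hy
  have h1 : x * a * x⁻¹ ∈ A := h.b.p.s.r.Vn x hM.mem a ha
  have e1 : x * (a * k) * x⁻¹ = (x * a * x⁻¹) * (x * k * x⁻¹) := by group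
  have h2 : pt s n k = 0 := (h.pt_B hk.1).2 hk
  rw [e1, fix_of_comm (h.XB hx hk), h.pt_mul (h.c.AU h1) (h.Y_le hk.1), h.pt_mul (h.c.AU ha) (h.Y_le hk.1), h2,
    add_zero, add_zero, h.pt_A h1, h.pt_A ha, hM.act a ha]

/-- `w` on `Y / B` -/
theorem pt_w {y : G} (hy : y ∈ Y A w) : pt s n (w * y * w⁻¹) =
    ![pt s n y 0, pt s n y 1 + s (n * (w * f (pt s n y 0) * w⁻¹) * n⁻¹)] := by
  set z := pt s n y 0 with hz
  have hfA := h.b.fA z
  have hfU := h.c.AU hfA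
  have hyU := h.Y_le hy
  have hr : (f z)⁻¹ * y ∈ Y A w := mul_mem (inv_mem (h.AY hfA)) hy
  have hf0 : pt s n (f z) = ![z, 0] := by rw [h.pt_A hfA, h.b.p.φ.fπ]
  have hfi : (f z)⁻¹ = f z := h.b.Ai hfA
  have h1 : pt s n ((f z)⁻¹ * y) = ![0, pt s n y 1] := by
    have two := h.b.p.s.r.two
    rw [hfi, h.pt_mul hfU hyU, hf0]
    apply ext2
    · rw [Pi.add_apply, ← hz]
      simp only [Matrix.cons_val_zero]
      linear_combination z * two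
    · simp
  have hs0 : s ((f z)⁻¹ * y) = 0 := congrFun h1 0
  obtain ⟨x, hx⟩ := dec_ker h.b h.c h.hn (h.Y_le hr) hs0
  have hxY : (e x)⁻¹ * ((f z)⁻¹ * y) ∈ Y A w := mul_mem (inv_mem (h.AY (h.b.eA x))) hr
  have hxB : (e x)⁻¹ * ((f z)⁻¹ * y) ∈ B A A' U w n := mem_inf.2 ⟨hxY, hx⟩
  have h2 : w * ((f z)⁻¹ * y) = (f z)⁻¹ * y * w := by
    have h3 := h.wB hxB
    have h4 := cc_r h.wC (h.b.eU' x)
    calc w * ((f z)⁻¹ * y) = w * e x * ((e x)⁻¹ * ((f z)⁻¹ * y)) := by group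
      _ = e x * (w * ((e x)⁻¹ * ((f z)⁻¹ * y))) := by rw [h4]; group
      _ = _ := by rw [h3]; group
  have h5 : w * y * w⁻¹ = (w * f z * w⁻¹) * ((f z)⁻¹ * y) := by
    calc w * y * w⁻¹ = (w * f z * w⁻¹) * (w * ((f z)⁻¹ * y) * w⁻¹) := by group
      _ = _ := by rw [fix_of_comm h2]
  have hwf : w * f z * w⁻¹ ∈ UG A U := h.c.MU w h.wC.1 _ hfU
  rw [h5, h.pt_mul hwf (h.Y_le hr), h1]
  have h6 : s (w * f z * w⁻¹) = z := by
    rw [h.c.s_conj w h.wC _ hfA, h.b.p.φ.fπ]; rfl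
  apply ext2
  · unfold pt
    simp [h6]
  · unfold pt
    simp [add_comm]

/-- **(9d)**: `w` acts on `Y / B` as a scalar -/
theorem exists_l : ∃ l : F, ∀ z, s (n * (w * f z * w⁻¹) * n⁻¹) = l * z := by
  have hchar : CharP F 2 := CharTwo.of_one_ne_zero_of_two_eq_zero one_ne_zero h.b.p.s.r.two
  refine Cfsg.Agent.Omega.HOne.NSK.scalar_of_act (Y := Y A w) (B := B A A' U w n) (X := GG T A' U U' w n)
    (π := pt s n) h.pt_hmul (fun y hy => h.pt_B hy) ?_ (fun x hx y hy => h.GY' hx hy) ?_ ?_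
    (KK T A A' U U' w n) ?_ (fun R hR hp => h.card_2 hR hp) (fun R hR hp x hx => h.sq_2 hR hp hx) h.wG
    (α := fun z => s (n * (w * f z * w⁻¹) * n⁻¹)) (fun y hy => h.pt_w hy)
  · intro v
    obtain ⟨a, ha, hv⟩ := h.b.p.s.r.surj v
    exact ⟨a, h.AY ha, by rw [h.pt_A ha, hv]⟩
  · intro x hx y hy
    rw [fix_of_comm (h.GB hx hy)]; exact hy
  · intro M
    obtain ⟨x, hx, hM⟩ := h.X_lift M
    exact ⟨x, h.XG hx, fun y hy => h.pt_X hx hM hy⟩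
  · intro c hc y hy
    rw [fix_of_comm ((h.mem_KK.1 hc).2 y hy)]

/-! ### the elements trivial on `Y / B` -/

omit h in
/-- the elements of `GG` which are trivial on `Y / B` -/
def D0 (T A A' U U' : Subgroup G) (s : G → F) (w n : G) : Set G :=
  {x | x ∈ GG T A' U U' w n ∧ ∀ y ∈ Y A w, pt s n (x * y * x⁻¹) = pt s n y}

theorem pt_conj {x : G} (hx : x ∈ GG T A' U U' w n) {y y' : G} (hy : y ∈ Y A w) (hy' : y' ∈ Y A w)
    (hyy : pt s n y = pt s n y') : pt s n (x * y * x⁻¹) = pt s n (x * y' * x⁻¹) :=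
  Cfsg.Agent.Omega.HOne.NSK.pi_conj (Y := Y A w) (B := B A A' U w n) h.pt_hmul (fun y hy => h.pt_B hy)
    (fun y hy => h.GY' hx hy) (fun y hy => by rw [fix_of_comm (h.GB hx hy)]; exact hy) hy hy' hyy

omit h in
/-- `D0` as a subgroup -/
def D0' (h : NW T T' L L' A A' U U' π π' e f g e' f' g' s w n) : Subgroup G where
  carrier := D0 T A A' U U' s w n
  one_mem' := ⟨one_mem _, fun y _ => by rw [one_mul, inv_one, mul_one]⟩
  mul_mem' := by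
    rintro x x' ⟨hx, h1⟩ ⟨hx', h2⟩
    refine ⟨mul_mem hx hx', fun y hy => ?_⟩
    have e1 : x * x' * y * (x * x')⁻¹ = x * (x' * y * x'⁻¹) * x⁻¹ := by group
    rw [e1, h1 _ (h.GY' hx' hy), h2 y hy]
  inv_mem' := by
    rintro x ⟨hx, h1⟩
    refine ⟨inv_mem hx, fun y hy => ?_⟩
    have h2 := h1 _ (h.GY' (inv_mem hx) hy)
    have e1 : x * (x⁻¹ * y * x⁻¹⁻¹) * x⁻¹ = y := by group
    rw [e1] at h2
    exact h2.symm

theorem mem_D0 {x : G} : x ∈ h.D0' ↔ x ∈ GG T A' U U' w n ∧ ∀ y ∈ Y A w, pt s n (x * y * x⁻¹) = pt s n y := Iff.rfl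

theorem D0n : GG T A' U U' w n ≤ normalizer (h.D0' : Set G) := by
  intro x hx
  refine mem_normalizer_of_conj fun c hc => ?_
  rw [h.mem_D0] at hc ⊢
  refine ⟨mul_mem (mul_mem hx hc.1) (inv_mem hx), fun y hy => ?_⟩
  have h1 := h.GY' (inv_mem hx) hy
  have h2 := hc.2 _ h1
  have h3 := h.pt_conj hx (h.GY' hc.1 h1) h1 h2
  have e1 : x * c * x⁻¹ * y * (x * c * x⁻¹)⁻¹ = x * (c * (x⁻¹ * y * x⁻¹⁻¹) * c⁻¹) * x⁻¹ := by group
  have e2 : x * (x⁻¹ * y * x⁻¹⁻¹) * x⁻¹ = y := by group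
  rw [e1, h3, e2]

/-- `x y x⁻¹ y⁻¹ ∈ B` for `x` in `D0` -/
theorem D0_b {x : G} (hx : x ∈ h.D0') {y : G} (hy : y ∈ Y A w) : x * y * x⁻¹ * y⁻¹ ∈ B A A' U w n := by
  rw [h.mem_D0] at hx
  have h1 := h.GY' hx.1 hy
  rw [← h.pt_B (mul_mem h1 (inv_mem hy))]
  have h2 := h.pt_hmul (x * y * x⁻¹ * y⁻¹) (mul_mem h1 (inv_mem hy)) y hy
  rw [inv_mul_cancel_right, hx.2 y hy] at h2
  exact right_eq_add.1 h2

theorem D0_sq {x : G} (hx : x ∈ h.D0') : x * x ∈ KK T A A' U U' w n := by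
  have hxG := (h.mem_D0.1 hx).1
  rw [h.mem_KK]
  refine ⟨mul_mem hxG hxG, fun y hy => comm_of_fix ?_⟩
  have hb := h.D0_b hx hy
  have h1 := h.GB hxG hb
  have h2 : (x * y * x⁻¹ * y⁻¹) * (x * y * x⁻¹ * y⁻¹) = 1 := h.c.sq _ (h.Y_le hb.1)
  calc x * x * y * (x * x)⁻¹ = x * (x * y * x⁻¹ * y⁻¹) * x⁻¹ * (x * y * x⁻¹ * y⁻¹) * y := by group
    _ = (x * y * x⁻¹ * y⁻¹) * (x * y * x⁻¹ * y⁻¹) * y := by rw [fix_of_comm h1]
    _ = y := by rw [h2, one_mul]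

theorem S0_D0 {x : G} (hx : x ∈ S0 T U U') (hD : x ∈ h.D0') : x ∈ KK T A A' U U' w n := by
  obtain ⟨t, ht⟩ := h.exists_par hx
  have h1 := (h.mem_D0.1 hD).2 _ (h.AY (h.b.fA 1))
  rw [ht _ (h.b.fA 1), h.pt_mul (mul_mem (h.c.AU (h.b.eA _)) (h.c.AU (h.b.gA _))) (h.c.AU (h.b.fA 1)),
    h.pt_mul (h.c.AU (h.b.eA _)) (h.c.AU (h.b.gA _)), h.pt_A (h.b.eA _), h.pt_A (h.b.gA _), h.b.p.φ.fπ, h.b.p.φ.eπ,
    (h.b.p.s.r.ker _ (h.b.gA _)).2 (h.b.gU _)] at h1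
  have h2 := congrFun h1 1
  have h3 : t ^ 2 = 0 := by simpa using h2
  have h4 : t = 0 := pow_eq_zero_iff two_ne_zero |>.1 h3
  subst h4
  exact h.par_zero hx ht

/-- `|D0 / KK| ≤ 2` -/
theorem D0_two {x x' : G} (hx : x ∈ h.D0') (hx' : x' ∈ h.D0') (h1 : x ∉ KK T A A' U U' w n)
    (h1' : x' ∉ KK T A A' U U' w n) : x⁻¹ * x' ∈ KK T A A' U U' w n := by
  have hDG : h.D0' ≤ GG T A' U U' w n := fun y hy => (h.mem_D0.1 hy).1
  have key : ∀ x ∈ h.D0', x ∉ KK T A A' U U' w n → ∃ k ∈ KK T A A' U U' w n, ∃ y ∈ S0 T U U', x = k * (w * y) := by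
    intro x hx hxK
    obtain ⟨k, hk, y, hy, rfl⟩ := le_sup_syl hDG h.D0n h.GK h.syl h.ShG' (fun x hx => h.D0_sq hx) hx
    rcases h.Sh_dec hy.1 with h2 | ⟨y0, hy0, rfl⟩
    · exact absurd (mul_mem hk (h.S0_D0 h2 hy.2)) hxK
    · exact ⟨k, hk, y0, hy0, rfl⟩
  obtain ⟨k, hk, y, hy, rfl⟩ := key x hx h1
  obtain ⟨k', hk', y', hy', rfl⟩ := key x' hx' h1'
  have h2 : y⁻¹ * (w⁻¹ * (k⁻¹ * k') * w) * y ∈ KK T A A' U U' w n := by
    have h3 := h.KKn (inv_mem (mul_mem h.wG (h.SG hy))) (mul_mem (inv_mem hk) hk')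
    have e1 : (w * y)⁻¹ * (k⁻¹ * k') * (w * y)⁻¹⁻¹ = y⁻¹ * (w⁻¹ * (k⁻¹ * k') * w) * y := by group
    rwa [e1] at h3
  have e2 : (k * (w * y))⁻¹ * (k' * (w * y')) = y⁻¹ * (w⁻¹ * (k⁻¹ * k') * w) * y * (y⁻¹ * y') := by group
  have hKD : KK T A A' U U' w n ≤ h.D0' := by
    intro c hc
    rw [h.mem_D0]
    refine ⟨hc.1, fun u hu => ?_⟩
    rw [fix_of_comm ((h.mem_KK.1 hc).2 u hu)]
  have h4 : y⁻¹ * y' ∈ h.D0' := by
    have h5 := mul_mem (inv_mem hx) hx'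
    rw [e2] at h5
    have h6 := mul_mem (inv_mem (hKD h2)) h5
    rwa [inv_mul_cancel_left] at h6
  rw [e2]
  exact mul_mem h2 (h.S0_D0 (mul_mem (inv_mem hy) hy') h4)

/-- **(9)** `w` acts on `A` as an element of `A'`. -/
theorem main : ∃ n0 ∈ A', ∀ a ∈ A, w * a * w⁻¹ = n0 * a * n0⁻¹ := by
  obtain ⟨l, hl⟩ := h.exists_l
  obtain ⟨n0, hn0, hI⟩ := h.b.p.s.full l
  refine ⟨n0, hn0, ?_⟩
  have r := h.b.p.s.r
  have hX0 : n0 ∈ X A' n := (le_sup_left : A' ≤ X A' n) hn0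
  have hX0i : n0⁻¹ ∈ X A' n := inv_mem hX0
  have hIi := r.is_inv hI
  -- `v = n0⁻¹ w`
  have hvG : n0⁻¹ * w ∈ GG T A' U U' w n := mul_mem (h.XG hX0i) h.wG
  have hvD : n0⁻¹ * w ∈ h.D0' := by
    rw [h.mem_D0]
    refine ⟨hvG, fun y hy => ?_⟩
    have h1 := h.pt_w hy
    rw [hl] at h1
    have h2 := h.pt_X hX0i hIi (h.wY hy)
    have h3 : pt s n (w * y * w⁻¹) = ap (lo l) (pt s n y) := by
      rw [h1, ap_lo]
      apply ext2
      · simp
      · simp [add_comm]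
    have e1 : n0⁻¹ * w * y * (n0⁻¹ * w)⁻¹ = n0⁻¹ * (w * y * w⁻¹) * n0⁻¹⁻¹ := by group
    rw [e1, h2, h3, ap_inv_ap]
  suffices hK : n0⁻¹ * w ∈ KK T A A' U U' w n by
    intro a ha
    have h1 := fix_of_comm ((h.mem_KK.1 hK).2 a (h.AY ha))
    calc w * a * w⁻¹ = n0 * (n0⁻¹ * w * a * (n0⁻¹ * w)⁻¹) * n0⁻¹ := by group
      _ = _ := by rw [h1]
  by_contra hK
  have hvC : n0⁻¹ * w ∈ CC U U' := mul_mem (inv_mem (h.b.A'C hn0)) h.wC
  obtain ⟨v, hv⟩ : ∃ v, v = n0⁻¹ * w := ⟨_, rfl⟩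
  rw [← hv] at hvG hvD hK hvC
  -- `v` commutes with `x a x⁻¹ a⁻¹`
  have key : ∀ x ∈ X A' n, ∀ a ∈ A, v * (x * a * x⁻¹ * a⁻¹) = x * a * x⁻¹ * a⁻¹ * v := by
    intro x hx a ha
    have hxG := h.XG hx
    have haY := h.AY ha
    have hxa : x * a * x⁻¹ ∈ Y A w := h.XY hx haY
    have h1 : x * v * x⁻¹ ∈ h.D0' := (mem_normalizer_iff.1 (h.D0n hxG) v).1 hvD
    have h2 : x * v * x⁻¹ ∉ KK T A A' U U' w n := fun h3 => hK ((mem_normalizer_iff.1 (h.GK hxG) v).2 h3)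
    have h3 := h.D0_two hvD h1 hK h2
    have h4 := (h.mem_KK.1 h3).2 _ hxa
    have h5 : x * (v * a * v⁻¹) * x⁻¹ = v * (x * a * x⁻¹) * v⁻¹ := by
      have h6 := fix_of_comm h4
      calc x * (v * a * v⁻¹) * x⁻¹ = v * ((v⁻¹ * (x * v * x⁻¹)) * (x * a * x⁻¹) * (v⁻¹ * (x * v * x⁻¹))⁻¹) * v⁻¹ := by
            group
        _ = _ := by rw [h6]
    have hb := h.D0_b hvD haY
    obtain ⟨b, hb'⟩ : ∃ b, b = v * a * v⁻¹ * a⁻¹ := ⟨_, rfl⟩
    rw [← hb'] at hb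
    have h7 : v * a * v⁻¹ = b * a := by rw [hb']; group
    have h8 : v * (x * a * x⁻¹) * v⁻¹ = b * (x * a * x⁻¹) := by
      rw [← h5, h7]
      calc x * (b * a) * x⁻¹ = (x * b * x⁻¹) * (x * a * x⁻¹) := by group
        _ = _ := by rw [fix_of_comm (h.XB hx hb)]
    apply comm_of_fix
    have h9 : b * (x * a * x⁻¹ * a⁻¹) = x * a * x⁻¹ * a⁻¹ * b := h.Yc hb.1 (mul_mem hxa (inv_mem haY))
    calc v * (x * a * x⁻¹ * a⁻¹) * v⁻¹ = (v * (x * a * x⁻¹) * v⁻¹) * (v * a * v⁻¹)⁻¹ := by group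
      _ = b * (x * a * x⁻¹ * a⁻¹) * b⁻¹ := by rw [h8, h7]; group
      _ = _ := by rw [h9]; group
  apply hK
  refine h.mem_KK' hvG (fun a ha => fix_of_comm ?_) fun k hk => h.GB hvG hk
  -- `v` centralises `A`
  have hwm : (wm (1 : F) one_ne_zero)⁻¹ = wm 1 one_ne_zero := by
    have two := r.two
    have h1 : (-1 : F) = 1 := by linear_combination (-1 : F) * two
    rw [inv_eq_iff_mul_eq_one]
    apply ext_ent <;> simp [ent_mul, h1]
  have hni : Is L A U π n⁻¹ (wm 1 one_ne_zero) := by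
    have := r.is_inv h.hn
    rwa [hwm] at this
  have hA : A ≤ centralizer ({v} : Set G) := by
    refine h.b.A_le hni (fun z => ?_) (fun z => ?_) fun u hu => ?_
    · rw [mem_centralizer_iff]
      rintro _ rfl
      exact cc_r hvC (h.b.eU' z)
    · rw [mem_centralizer_iff]
      intro v' hv'
      rw [Set.mem_singleton_iff.1 hv']
      obtain ⟨k, hk, hkI⟩ := h.b.exists_n 1
      have hx : n⁻¹ * k * n ∈ X A' n := by
        have := conj_mem_cj (g := n⁻¹) hk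
        rw [inv_inv] at this
        exact (le_sup_right : cj n⁻¹ A' ≤ X A' n) this
      have h1 := key _ hx _ (h.b.eA z)
      have h2 : n * e z * n⁻¹ ∈ A := r.Vn n h.hn.mem _ (h.b.eA z)
      have h3 := h.b.act_n hkI h2
      have h4 : π (n * e z * n⁻¹) 0 = z := by rw [h.b.pi_n h.hn (h.b.eA z), h.b.p.φ.eπ]; simp
      rw [h4, one_pow, one_mul] at h3
      have h5 : n⁻¹ * k * n * e z * (n⁻¹ * k * n)⁻¹ * (e z)⁻¹ = n⁻¹ * e z * n * g z := by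
        have h6 : n⁻¹ * g z * n = g z := fix_of_comm' (h.hn.cen _ (h.b.gU z))
        calc n⁻¹ * k * n * e z * (n⁻¹ * k * n)⁻¹ * (e z)⁻¹
            = n⁻¹ * (k * (n * e z * n⁻¹) * k⁻¹) * (n * e z * n⁻¹)⁻¹ * n := by group
          _ = n⁻¹ * (e z * g z * (n * e z * n⁻¹)) * (n * e z * n⁻¹)⁻¹ * n := by rw [h3]
          _ = n⁻¹ * e z * n * (n⁻¹ * g z * n) := by group
          _ = _ := by rw [h6]
      rw [h5] at h1
      have h7 := cc_l hvC (h.b.gU z)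
      rw [inv_inv]
      have h8 : v * (n⁻¹ * e z * n * g z) = v * (n⁻¹ * e z * n) * g z := by group
      have h9 : n⁻¹ * e z * n * g z * v = n⁻¹ * e z * n * v * g z := by
        rw [mul_assoc, ← h7, mul_assoc, mul_assoc, mul_assoc, mul_assoc, mul_assoc]
      rw [h8, h9] at h1
      exact mul_right_cancel h1
    · rw [mem_centralizer_iff]
      rintro _ rfl
      exact cc_l hvC hu
  exact mem_centralizer_iff.1 (hA ha) v rfl

end NW

end Cfsg.Agent.Omega.IId.Ns
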