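import Cfsg.Agent.Omega.IId.Ns.NineA

/-!
# II.d, `k = 2`, nonsplit: `C_T(U) = C_T(U U')`; Burnside's argument modulo a normal subgroup
-/

set_option autoImplicit false
set_option linter.unusedSectionVars false

namespace Cfsg.Agent.Omega.IId.Ns

open Subgroup Cfsg Cfsg.Agent.ZN Cfsg.Agent.Lib.SL2Mat
open Cfsg.Agent.Omega.HOne.NSMod Cfsg.Agent.Omega.HOne.NSSide Cfsg.Agent.Omega.HOne.NSPair Cfsg.Agent.Omega.HOne.NSDat
open Cfsg.Agent.Omega.NatPair (ap ap_add ap_mul ap_one ap_inj ext2 ap_zero' ap_one' ap_inv_ap ap_ap_inv)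
open Cfsg.Agent.Omega.BTwo (cj mem_cj conj_mem_cj card_cj cj_mul isPGroup_cj)

universe u

variable {G : Type u} [Group G] {F : Type} [Field F]
  {T T' L L' A A' U U' : Subgroup G} {π π' : G → Fin 2 → F} {e f g e' f' g' : F → G} {s : G → F}

/-- `t ∈ T` centralising `g(F)` centralises `e(F)` -/
theorem cen_e [Finite G] [Finite F] (b : Base T T' L L' A A' U U' π π' e f g e' f' g') {t : G} (ht : t ∈ T)
    (hc : ∀ y, t * g y = g y * t) (z : F) : t * e z = e z * t := by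
  have htL := b.TL ht
  have hgi : ∀ y y', g y = g y' → y = y' := by
    intro y y' h
    have h1 := b.p.φ.g_add (y - y') y'
    rw [sub_add_cancel, h] at h1
    exact sub_eq_zero.1 (b.g1 _ (right_eq_mul.1 h1))
  obtain ⟨a, ha, haI⟩ := b.exists_n 1
  -- the conjugate of `a`
  obtain ⟨B, hB⟩ := b.p.s.r.is_conj htL haI
  obtain ⟨b', rfl⟩ := b.p.s.fz _ (mul_mem (mul_mem ht (b.A'T ha)) (inv_mem ht)) B hB
  obtain ⟨κ, rfl⟩ := b.p.sq b'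
  have key : ∀ x : F, ∃ ζ x', t * e x * t⁻¹ = e ζ ∧ ζ = κ ^ 2 * x' ∧ x = κ * x' := by
    intro x
    obtain ⟨ζ, hζ⟩ := b.p.norm_e b.g1 ht x
    have hv : t * f x * t⁻¹ ∈ A := b.p.s.r.Vn t htL _ (b.fA x)
    refine ⟨ζ, π (t * f x * t⁻¹) 0, hζ, ?_⟩
    have h1 := b.act_n haI (b.fA x)
    have h2 := b.act_n hB hv
    have hf : π (f x) 0 = x := by rw [b.p.φ.fπ]; rfl
    rw [hf, one_pow, one_mul] at h1
    have e1 : t * a * t⁻¹ * (t * f x * t⁻¹) * (t * a * t⁻¹)⁻¹ = (t * e x * t⁻¹) * (t * g x * t⁻¹) * (t * f x * t⁻¹) := by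
      calc t * a * t⁻¹ * (t * f x * t⁻¹) * (t * a * t⁻¹)⁻¹ = t * (a * f x * a⁻¹) * t⁻¹ := by group
        _ = _ := by rw [h1]; group
    rw [e1, hζ, fix_of_comm (hc x)] at h2
    obtain ⟨h3, h4⟩ := b.p.φ.eg_inj b.p.s.r (mul_right_cancel h2)
    exact ⟨h3, hgi _ _ h4⟩
  have hκ : κ ≠ 0 := by
    rintro rfl
    obtain ⟨_, x', -, -, h⟩ := key 1
    rw [zero_mul] at h
    exact one_ne_zero h
  have key2 : ∀ x : F, t * e x * t⁻¹ = e (κ * x) := by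
    intro x
    obtain ⟨ζ, x', h1, h2, h3⟩ := key x
    rw [h1, h2, h3]
    congr 1; ring
  have hpow : ∀ (k : ℕ) (x : F), t ^ k * e x * (t ^ k)⁻¹ = e (κ ^ k * x) := by
    intro k
    induction k with
    | zero => intro x; simp
    | succ k ih =>
      intro x
      have e1 : t ^ (k + 1) * e x * (t ^ (k + 1))⁻¹ = t ^ k * (t * e x * t⁻¹) * (t ^ k)⁻¹ := by
        rw [pow_succ]; group
      rw [e1, key2, ih, pow_succ, mul_assoc]
  obtain ⟨k, hk⟩ := b.T2 ⟨t, ht⟩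
  have hk' : t ^ 2 ^ k = 1 := congrArg Subtype.val hk
  have h1 := hpow (2 ^ k) 1
  rw [hk', one_mul, inv_one, mul_one, mul_one] at h1
  have h2 := b.p.φ.e_inj b.p.s.r h1
  have h3 : κ = 1 := by
    have two := b.p.s.r.two
    have : CharP F 2 := CharTwo.of_one_ne_zero_of_two_eq_zero one_ne_zero two
    have h4 : (κ - 1) ^ 2 ^ k = 0 := by
      rw [sub_pow_char_pow, ← h2, one_pow, sub_self]
    exact sub_eq_zero.1 (pow_eq_zero_iff (pow_ne_zero k two_ne_zero) |>.1 h4)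
  have h5 := key2 z
  rw [h3, one_mul] at h5
  exact comm_of_fix h5

/-- A 2-subgroup of `C` is conjugate in `C` into a Sylow 2-subgroup of `C`. -/
theorem exists_conj_le_syl [Finite G] {C T X : Subgroup G} (hX : X ≤ C) (hTp : IsPGroup 2 T)
    (hXp : IsPGroup 2 X) (hidx : ¬ 2 ∣ T.relIndex C) : ∃ c ∈ C, cj c X ≤ T := by
  have : Fact (Nat.Prime 2) := ⟨Nat.prime_two⟩
  have hS' : IsPGroup 2 (T.subgroupOf C) := hTp.comap_of_injective C.subtype Subtype.val_injective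
  have hX' : IsPGroup 2 (X.subgroupOf C) := hXp.comap_of_injective C.subtype Subtype.val_injective
  obtain ⟨Q, hQ⟩ := hX'.exists_le_sylow
  obtain ⟨c, hc⟩ := MulAction.exists_smul_eq C Q (hS'.toSylow hidx)
  refine ⟨c, c.2, ?_⟩
  rintro _ ⟨y, hy, rfl⟩
  have h1 : (⟨y, hX hy⟩ : C) ∈ (Q : Subgroup C) := hQ (Subgroup.mem_subgroupOf.2 hy)
  have h2 : c * ⟨y, hX hy⟩ * c⁻¹ ∈ ((c • Q : Sylow 2 C) : Subgroup C) := by
    rw [Sylow.coe_subgroup_smul, mem_pointwise_smul_iff_inv_smul_mem]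
    have e3 : (MulAut.conj c)⁻¹ • (c * ⟨y, hX hy⟩ * c⁻¹) = ⟨y, hX hy⟩ := by
      rw [← map_inv, MulAut.smul_def, MulAut.conj_apply]
      group
    rw [e3]
    exact h1
  rw [hc] at h2
  exact h2

/-- **Burnside's argument modulo `K`**: `P` Sylow in `H`, abelian modulo `K`, `h x h⁻¹ ≡ y`: then `m x m⁻¹ ≡ y` for some `m ∈ N_H(P)`. -/
theorem burn [Finite G] {H K P : Subgroup G} (hPH : P ≤ H) (hP : IsPGroup 2 P) (hs : ¬ 2 ∣ P.relIndex H)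
    (hKn : H ≤ normalizer (K : Set G)) (hab : ∀ x ∈ P, ∀ y ∈ P, x * y * x⁻¹ * y⁻¹ ∈ K) {x y h : G} (hx : x ∈ P)
    (hy : y ∈ P) (hh : h ∈ H) (hxy : h * x * h⁻¹ * y⁻¹ ∈ K) :
    ∃ m ∈ H, (∀ z ∈ P, m * z * m⁻¹ ∈ P) ∧ m * x * m⁻¹ * y⁻¹ ∈ K := by
  have hcK : ∀ c ∈ H, ∀ k ∈ K, c * k * c⁻¹ ∈ K := fun c hc k hk => (mem_normalizer_iff.1 (hKn hc) k).1 hk
  let C : Subgroup G :=
    { carrier := {c | c ∈ H ∧ c * y * c⁻¹ * y⁻¹ ∈ K}
      one_mem' := ⟨one_mem _, by simp⟩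
      mul_mem' := by
        rintro c d ⟨hc, hc'⟩ ⟨hd, hd'⟩
        refine ⟨mul_mem hc hd, ?_⟩
        have e1 : c * d * y * (c * d)⁻¹ * y⁻¹ = c * (d * y * d⁻¹ * y⁻¹) * c⁻¹ * (c * y * c⁻¹ * y⁻¹) := by group
        rw [e1]
        exact mul_mem (hcK c hc _ hd') hc'
      inv_mem' := by
        rintro c ⟨hc, hc'⟩
        refine ⟨inv_mem hc, ?_⟩
        have h1 := inv_mem (hcK c⁻¹ (inv_mem hc) _ hc')
        have e1 : (c⁻¹ * (c * y * c⁻¹ * y⁻¹) * c⁻¹⁻¹)⁻¹ = c⁻¹ * y * c * y⁻¹ := by group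
        rw [e1] at h1
        rw [inv_inv]; exact h1 }
  have hCH : C ≤ H := fun c hc => hc.1
  have hPC : P ≤ C := fun z hz => ⟨hPH hz, hab z hz y hy⟩
  have hPC' : cj h P ≤ C := by
    rintro _ ⟨z, hz, rfl⟩
    refine ⟨mul_mem (mul_mem hh (hPH hz)) (inv_mem hh), ?_⟩
    change h * z * h⁻¹ * y * (h * z * h⁻¹)⁻¹ * y⁻¹ ∈ K
    -- `y ≡ h x h⁻¹`
    obtain ⟨κ, hκ⟩ : ∃ κ, κ = h * x * h⁻¹ * y⁻¹ := ⟨_, rfl⟩
    have hκK : κ ∈ K := by rw [hκ]; exact hxy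
    have e2 : y = κ⁻¹ * (h * x * h⁻¹) := by rw [hκ]; group
    set d := h * z * h⁻¹ with hd
    have hdH : d ∈ H := mul_mem (mul_mem hh (hPH hz)) (inv_mem hh)
    have e3 : d * y * d⁻¹ * y⁻¹ = (d * κ⁻¹ * d⁻¹) * ((h * (z * x * z⁻¹ * x⁻¹) * h⁻¹) * κ) := by
      rw [e2, hd]; group
    rw [e3]
    exact mul_mem (hcK d hdH _ (inv_mem hκK)) (mul_mem (hcK h hh _ (hab z hz x hx)) hκK)
  have hsC : ¬ 2 ∣ P.relIndex C := by
    intro h1
    apply hs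
    rw [← relIndex_mul_relIndex P C H hPC hCH]
    exact h1.mul_right _
  obtain ⟨c, hc, hcP⟩ := exists_conj_le_syl hPC' hP (isPGroup_cj hP) hsC
  refine ⟨c * h, mul_mem hc.1 hh, fun z hz => ?_, ?_⟩
  · have h1 := hcP (conj_mem_cj (g := c) (conj_mem_cj (g := h) hz))
    have e1 : c * h * z * (c * h)⁻¹ = c * (h * z * h⁻¹) * c⁻¹ := by group
    rw [e1]; exact h1
  · have e1 : c * h * x * (c * h)⁻¹ * y⁻¹ = (c * (h * x * h⁻¹ * y⁻¹) * c⁻¹) * (c * y * c⁻¹ * y⁻¹) := by group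
    rw [e1]
    exact mul_mem (hcK c hc.1 _ hxy) hc.2

end Cfsg.Agent.Omega.IId.Ns
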