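import Cfsg.Agent.Omega.IId.Ns.Key

/-!
# II.d, nonsplit: the pair (step (0))

`M : NatK F S P (zl S P) (cv S P) k`, `M' : NatK F' S' P' (zl S' P') (cv S' P') k'`, `Pair S S' P P'`.

* `Nc M i` : `Nc_le`, `Nc_e`, `Nc_ex`, `Nc_comm` (centralised by `Fc M l`, `l ≠ i`);
* `IndK M A I` : `A` induces on `V` exactly the elements `up (b i)`, `b` supported on `I`, and centralises `D`;
* `exists_match` : for `i ∈ I` there is `i' ∈ I'` such that the elements of `V'` with `b i = 0` are those with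
  `M'.e a i' 1 = 0`; `card_eq` : `|F| = |F'|`;
* `Mt M M' i i'` : `Nc M' i'` induces exactly `one1 i (up b)` on `V`, and vice versa.
-/

set_option autoImplicit false
set_option linter.unusedSectionVars false

namespace Cfsg.Agent.Omega.IId.Ns

open Subgroup Cfsg Cfsg.Agent.ZN Cfsg.Agent.ZN.ChoiceSit Cfsg.Agent.ZN.ChoiceBase Cfsg.Agent.Omega.MinPar
open Cfsg.Agent.Omega.FrameFF Cfsg.Agent.Omega.FFThm Cfsg.Agent.Lib.SL2Mat
open Cfsg.Agent.Omega.NatPair (ap ap_add ap_mul ap_one ap_inj ext2 ap_zero' ap_one' ap_inv_ap ap_ap_inv)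
open Cfsg.Agent.Omega.HOne (cv_le conj_mem_zl conj_mem_cv three exists_ap_three_sub)
open Cfsg.Agent.Omega.IId.Cv

universe u

/-! ### `Nc M i` -/

section nc

variable {G : Type u} [Group G] {F : Type} [Field F] {S P : Subgroup G} {k : ℕ}
  (M : NatK F S P (zl S P) (cv S P) k)

theorem Nc_le (i : Fin k) : Nc M i ≤ zl S P := by
  rw [Nc, closure_le]
  rintro _ ⟨x, hx, v, hv, rfl⟩
  exact mul_mem (conj_mem_zl hx.1 hv) (inv_mem hv)

theorem Nc_e {i : Fin k} {u : G} (hu : u ∈ Nc M i) : ∀ l, l ≠ i → M.e u l = 0 := by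
  have h1 : u ∈ zl S P ∧ ∀ l, l ≠ i → M.e u l = 0 := by
    induction hu using closure_induction with
    | mem x hx =>
      obtain ⟨y, ⟨hy, B, hB⟩, v, hv, rfl⟩ := hx
      refine ⟨mul_mem (conj_mem_zl hy hv) (inv_mem hv), fun l hl => ?_⟩
      rw [e_div M (conj_mem_zl hy hv) hv, Pi.sub_apply, hB.1 v hv l, one1_ne hl, ap_one, sub_self]
    | one => exact ⟨one_mem _, fun l _ => by rw [e_one M]; rfl⟩
    | mul x y _ _ hx hy =>
      refine ⟨mul_mem hx.1 hy.1, fun l hl => ?_⟩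
      rw [M.mul x hx.1 y hy.1, Pi.add_apply, hx.2 l hl, hy.2 l hl, add_zero]
    | inv x _ hx =>
      refine ⟨inv_mem hx.1, fun l hl => ?_⟩
      rw [e_inv M hx.1, Pi.neg_apply, hx.2 l hl, neg_zero]
  exact h1.2

open Classical in
theorem Nc_ex [CharP F 2] (i : Fin k) (x : Fin 2 → F) : ∃ u ∈ Nc M i, M.e u i = x := by
  obtain ⟨y, hy, hB⟩ := M.lift (one1 i (three F))
  obtain ⟨z, hz⟩ := exists_ap_three_sub (F := F) 0 x
  obtain ⟨v, hv, hve⟩ := M.surj fun _ => z
  refine ⟨y * v * y⁻¹ * v⁻¹, subset_closure ⟨y, ⟨hy, three F, hB⟩, v, hv, rfl⟩, ?_⟩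
  rw [e_div M (conj_mem_zl hy hv) hv, Pi.sub_apply, hB.1 v hv i, one1_same, hve]
  simpa using hz

end nc

section ncS

variable {G : Type u} [Group G] [Finite G] (hG : IsCharacteristicTwoType G) (S : Sylow 2 G) {P : Subgroup G}
  (h : IsParS (S : Subgroup G) P) {F : Type} [Field F] [CharP F 2] {k : ℕ}
  (M : NatK F (S : Subgroup G) P (zl (S : Subgroup G) P) (cv (S : Subgroup G) P) k)

include hG h in
/-- `Fc M l` centralises `Nc M i` for `l ≠ i`. -/
theorem Nc_comm {i l : Fin k} (hil : l ≠ i) {x : G} (hx : x ∈ Fc M l) {u : G} (hu : u ∈ Nc M i) : x * u = u * x := by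
  have hk : 0 < k := Nat.pos_of_ne_zero fun h => by subst h; exact i.elim0
  obtain ⟨hxP, C, hC⟩ := hx
  suffices h1 : Nc M i ≤ centralizer {x} by
    exact (mem_centralizer_iff.1 (h1 hu) x rfl)
  rw [Nc, closure_le]
  rintro _ ⟨y, ⟨hy, B, hB⟩, v, hv, rfl⟩
  rw [SetLike.mem_coe, mem_centralizer_iff]
  intro z hz
  rw [Set.mem_singleton_iff] at hz
  rw [hz]
  clear hz z
  have hw := conj_mem_zl hxP hv
  -- `x y x⁻¹` acts as `y`
  have h2 : ActsSL M.e (zl (S : Subgroup G) P) (cv (S : Subgroup G) P) (x * y * x⁻¹) (one1 i B) := by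
    have h3 := acts_mul M (mul_mem hxP hy) (inv_mem hxP) (acts_mul M hxP hy hC hB) (acts_inv M hxP hC)
    have e : (fun j => one1 l C j * one1 i B j * (one1 l C j)⁻¹) = one1 i B := by
      funext j
      by_cases hj : j = l
      · subst hj
        rw [one1_ne hil, mul_one, mul_inv_cancel]
      · rw [one1_ne hj, one_mul, inv_one, mul_one]
    rwa [e] at h3
  have h3 := same_act hG S h M hk (mul_mem (mul_mem hxP hy) (inv_mem hxP)) hy h2 hB _ hw
  -- `y` commutes with `[x, v]`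
  have h4 : y * (x * v * x⁻¹ * v⁻¹) = (x * v * x⁻¹ * v⁻¹) * y := by
    refine comm_sup hG S h M hk hy hB (mul_mem hw (inv_mem hv)) fun j hj => ?_
    have hji : j = i := by
      by_contra h5
      exact hj (one1_ne h5 B)
    rw [e_div M hw hv, Pi.sub_apply, hC.1 v hv j, hji, one1_ne (Ne.symm hil), ap_one, sub_self]
  have hyw := conj_mem_zl hy hw
  have hyv := conj_mem_zl hy hv
  have h5 : y * (x * v * x⁻¹) * y⁻¹ * (y * v * y⁻¹)⁻¹ = x * v * x⁻¹ * v⁻¹ := by
    calc y * (x * v * x⁻¹) * y⁻¹ * (y * v * y⁻¹)⁻¹ = y * (x * v * x⁻¹ * v⁻¹) * y⁻¹ := by group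
      _ = _ := by rw [h4]; group
  have e1 : x * (y * v * y⁻¹ * v⁻¹) * x⁻¹ = y * v * y⁻¹ * v⁻¹ := by
    calc x * (y * v * y⁻¹ * v⁻¹) * x⁻¹ = (x * y * x⁻¹) * (x * v * x⁻¹) * (x * y * x⁻¹)⁻¹ * (x * v * x⁻¹)⁻¹ := by group
      _ = y * (x * v * x⁻¹) * y⁻¹ * (x * v * x⁻¹)⁻¹ := by rw [h3]
      _ = (x * v * x⁻¹ * v⁻¹) * (y * v * y⁻¹) * (x * v * x⁻¹)⁻¹ := by rw [← h5]; group
      _ = (y * v * y⁻¹) * (x * v * x⁻¹ * v⁻¹) * (x * v * x⁻¹)⁻¹ := by
        rw [zl_ab hG S h (mul_mem hw (inv_mem hv)) hyv]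
      _ = (y * v * y⁻¹) * ((x * v * x⁻¹) * v⁻¹ * (x * v * x⁻¹)⁻¹) := by group
      _ = (y * v * y⁻¹) * (v⁻¹ * (x * v * x⁻¹) * (x * v * x⁻¹)⁻¹) := by rw [zl_ab hG S h hw (inv_mem hv)]
      _ = _ := by group
  exact mul_inv_eq_iff_eq_mul.1 e1

end ncS

/-! ### `IndK` -/

section ind

open Classical in
theorem upd_off {n : ℕ} {K : Type} [Zero K] {J : Set (Fin n)} {i : Fin n} (hi : i ∈ J) (x : K) :
    ∀ l, l ∉ J → (Function.update 0 i x : Fin n → K) l = 0 := by
  intro l hl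
  have h1 : l ≠ i := fun h => hl (by rw [h]; exact hi)
  rw [Function.update_of_ne h1]
  rfl

variable {G : Type u} [Group G] {F : Type} [Field F] [CharP F 2] {S P : Subgroup G} {k : ℕ}

/-- `A` induces on `V` exactly the elements `up (b i)`, `b` supported on `I`. -/
structure IndK (M : NatK F S P (zl S P) (cv S P) k) (A : Subgroup G) (I : Set (Fin k)) (b : G → Fin k → F) : Prop where
  act : ∀ a ∈ A, ActsSL M.e (zl S P) (cv S P) a fun i => up (b a i)
  off : ∀ a ∈ A, ∀ i, i ∉ I → b a i = 0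
  ex : ∀ c : Fin k → F, (∀ i, i ∉ I → c i = 0) → ∃ a ∈ A, b a = c

theorem acts_up_unique (M : NatK F S P (zl S P) (cv S P) k) {a : G} {b c : Fin k → F}
    (h1 : ActsSL M.e (zl S P) (cv S P) a fun i => up (b i)) (h2 : ActsSL M.e (zl S P) (cv S P) a fun i => up (c i)) :
    b = c := by
  obtain ⟨v, hv, hve⟩ := M.surj fun _ => ![0, 1]
  funext i
  have e1 := h1.1 v hv i
  rw [h2.1 v hv i, hve, e_ap_up, e_ap_up] at e1
  have := congrFun e1 0
  simpa using this.symm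

theorem exists_indK (M : NatK F S P (zl S P) (cv S P) k) {A : Subgroup G} (hA : A ≤ S) (hoff : Off (zl S P) A) :
    ∃ I b, IndK M A I b := by
  classical
  obtain ⟨I, h1, h2⟩ := M.off A hA hoff
  choose! b hb using h1
  refine ⟨I, b, fun a ha => (hb a ha).2, fun a ha => (hb a ha).1, fun c hc => ?_⟩
  obtain ⟨a, ha, h3⟩ := h2 c hc
  exact ⟨a, ha, acts_up_unique M (hb a ha).2 h3⟩

theorem IndK.mul {M : NatK F S P (zl S P) (cv S P) k} {A : Subgroup G} {I : Set (Fin k)} {b : G → Fin k → F}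
    (h : IndK M A I b) (hA : A ≤ P) {a a' : G} (ha : a ∈ A) (ha' : a' ∈ A) : b (a * a') = b a + b a' := by
  refine acts_up_unique M (h.act _ (mul_mem ha ha')) ?_
  have h3 := acts_mul M (hA ha) (hA ha') (h.act a ha) (h.act a' ha')
  have e : (fun i => up (b a i) * up (b a' i)) = fun i => up ((b a + b a') i) := by
    funext i
    refine ext_ent ?_ ?_ ?_ ?_ <;> simp [ent_mul, add_comm]
  rwa [e] at h3

theorem IndK.one {M : NatK F S P (zl S P) (cv S P) k} {A : Subgroup G} {I : Set (Fin k)} {b : G → Fin k → F}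
    (h : IndK M A I b) (hA : A ≤ P) : b 1 = 0 := by
  have := h.mul hA (one_mem A) (one_mem A)
  rw [mul_one] at this
  exact left_eq_add.1 this

theorem IndK.inv {M : NatK F S P (zl S P) (cv S P) k} {A : Subgroup G} {I : Set (Fin k)} {b : G → Fin k → F}
    (h : IndK M A I b) (hA : A ≤ P) {a : G} (ha : a ∈ A) : b a⁻¹ = - b a := by
  have := h.mul hA (inv_mem ha) ha
  rw [inv_mul_cancel, h.one hA] at this
  exact eq_neg_of_add_eq_zero_left this.symm

end ind

/-! ### The pair -/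

section pair

variable {G : Type u} [Group G] [Finite G] {F F' : Type} [Field F] [Field F'] [CharP F 2] [CharP F' 2]

/-- The data of a pair in normal position. -/
structure PD (S S' : Sylow 2 G) (P P' : Subgroup G) {k k' : ℕ}
    (M : NatK F (S : Subgroup G) P (zl (S : Subgroup G) P) (cv (S : Subgroup G) P) k)
    (M' : NatK F' (S' : Subgroup G) P' (zl (S' : Subgroup G) P') (cv (S' : Subgroup G) P') k')
    (I : Set (Fin k)) (I' : Set (Fin k')) (b : G → Fin k → F) (c : G → Fin k' → F') : Prop where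
  hG : IsCharacteristicTwoType G
  hp : Pair S S' P P'
  i1 : IndK M (zl (S' : Subgroup G) P') I b
  i2 : IndK M' (zl (S : Subgroup G) P) I' c

variable {S S' : Sylow 2 G} {P P' : Subgroup G} {k k' : ℕ}
  {M : NatK F (S : Subgroup G) P (zl (S : Subgroup G) P) (cv (S : Subgroup G) P) k}
  {M' : NatK F' (S' : Subgroup G) P' (zl (S' : Subgroup G) P') (cv (S' : Subgroup G) P') k'}
  {I : Set (Fin k)} {I' : Set (Fin k')} {b : G → Fin k → F} {c : G → Fin k' → F'}

theorem exists_pd (hG : IsCharacteristicTwoType G) (hp : Pair S S' P P')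
    (hT : NoOver (zl (S : Subgroup G) P) P) (hT' : NoOver (zl (S' : Subgroup G) P') P')
    (M : NatK F (S : Subgroup G) P (zl (S : Subgroup G) P) (cv (S : Subgroup G) P) k)
    (M' : NatK F' (S' : Subgroup G) P' (zl (S' : Subgroup G) P') (cv (S' : Subgroup G) P') k') :
    ∃ I I' b c, PD S S' P P' M M' I I' b c := by
  obtain ⟨I, b, h1⟩ := exists_indK M hp.le (hp.off hG hT')
  obtain ⟨I', c, h2⟩ := exists_indK M' hp.le' (hp.symm.off hG hT)
  exact ⟨I, I', b, c, hG, hp, h1, h2⟩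

namespace PD

theorem symm (d : PD S S' P P' M M' I I' b c) : PD S' S P' P M' M I' I c b := ⟨d.hG, d.hp.symm, d.i2, d.i1⟩

variable (d : PD S S' P P' M M' I I' b c)

include d

theorem VP : zl (S' : Subgroup G) P' ≤ P := d.hp.le.trans d.hp.star.le

theorem V'P : zl (S : Subgroup G) P ≤ P' := d.hp.le'.trans d.hp.star'.le

/-- both descriptions of `[v, a] = 1` -/
theorem iff1 (hk : 0 < k) {a v : G} (ha : a ∈ zl (S' : Subgroup G) P') (hv : v ∈ zl (S : Subgroup G) P) :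
    a * v = v * a ↔ ∀ i, b a i * M.e v i 1 = 0 :=
  comm_iff d.hG S d.hp.star M hk (d.VP ha) (d.i1.act a ha) hv

theorem iff2 (hk' : 0 < k') {a v : G} (ha : a ∈ zl (S' : Subgroup G) P') (hv : v ∈ zl (S : Subgroup G) P) :
    a * v = v * a ↔ ∀ j, c v j * M'.e a j 1 = 0 := by
  rw [← comm_iff d.hG S' d.hp.star' M' hk' (d.V'P hv) (d.i2.act v hv) ha]
  exact eq_comm

theorem key (hk : 0 < k) (hk' : 0 < k') {a v : G} (ha : a ∈ zl (S' : Subgroup G) P')
    (hv : v ∈ zl (S : Subgroup G) P) : (∀ i, b a i * M.e v i 1 = 0) ↔ ∀ j, c v j * M'.e a j 1 = 0 := by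
  rw [← d.iff1 hk ha hv, d.iff2 hk' ha hv]

open Classical in
/-- **Matching.** -/
theorem exists_match (hk : 0 < k) (hk' : 0 < k') {i : Fin k} (hi : i ∈ I) : ∃ j ∈ I',
    (∀ a ∈ zl (S' : Subgroup G) P', b a i = 0 ↔ M'.e a j 1 = 0) ∧
      ∀ v ∈ zl (S : Subgroup G) P, M.e v i 1 ≠ 0 → (∀ l, l ≠ i → M.e v l 1 = 0) →
        c v j ≠ 0 ∧ ∀ l, l ≠ j → c v l = 0 := by
  -- the kernel for a vector of weight one
  have hK : ∀ v ∈ zl (S : Subgroup G) P, M.e v i 1 ≠ 0 → (∀ l, l ≠ i → M.e v l 1 = 0) →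
      ∀ a ∈ zl (S' : Subgroup G) P', b a i = 0 ↔ ∀ j, c v j * M'.e a j 1 = 0 := by
    intro v hv hv1 hv0 a ha
    rw [← d.key hk hk' ha hv]
    constructor
    · intro h1 l
      by_cases hl : l = i
      · rw [hl, h1, zero_mul]
      · rw [hv0 l hl, mul_zero]
    · intro h1
      exact (mul_eq_zero.1 (h1 i)).resolve_right hv1
  -- the support is not empty
  have hS : ∀ v ∈ zl (S : Subgroup G) P, M.e v i 1 ≠ 0 → (∀ l, l ≠ i → M.e v l 1 = 0) → ∃ j, c v j ≠ 0 := by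
    intro v hv hv1 hv0
    by_contra h0
    push Not at h0
    obtain ⟨a, ha, hb⟩ := d.i1.ex (Function.update 0 i 1) (upd_off hi 1)
    have h1 := (hK v hv hv1 hv0 a ha).2 fun j => by rw [h0 j, zero_mul]
    rw [hb, Function.update_self] at h1
    exact one_ne_zero h1
  -- one vector
  obtain ⟨v, hv, hve⟩ := M.surj (Function.update 0 i ![0, 1])
  have hv1 : M.e v i 1 ≠ 0 := by
    rw [hve, Function.update_self]
    exact one_ne_zero
  have hv0 : ∀ l, l ≠ i → M.e v l 1 = 0 := by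
    intro l hl
    rw [hve, Function.update_of_ne hl]; rfl
  obtain ⟨j, hj⟩ := hS v hv hv1 hv0
  have hjI : j ∈ I' := by
    by_contra h0
    exact hj (d.i2.off v hv j h0)
  have h1 : ∀ a ∈ zl (S' : Subgroup G) P', b a i = 0 → M'.e a j 1 = 0 := fun a ha h0 =>
    (mul_eq_zero.1 ((hK v hv hv1 hv0 a ha).1 h0 j)).resolve_left hj
  -- the vector acting on the factor `j` only
  obtain ⟨w, hw, hwc⟩ := d.i2.ex (Function.update 0 j 1) (upd_off hjI 1)
  have h2 : ∀ a ∈ zl (S' : Subgroup G) P', M'.e a j 1 = 0 ↔ ∀ l, b a l * M.e w l 1 = 0 := by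
    intro a ha
    rw [d.key hk hk' ha hw, hwc]
    constructor
    · intro h3 l
      by_cases hl : l = j
      · rw [hl, h3, mul_zero]
      · rw [Function.update_of_ne hl]
        exact zero_mul _
    · intro h3
      have := h3 j
      rwa [Function.update_self, one_mul] at this
  obtain ⟨a₀, ha₀, hae₀⟩ := M'.surj fun _ => ![0, 1]
  have h3 : ∃ l, b a₀ l * M.e w l 1 ≠ 0 := by
    by_contra h0
    push Not at h0
    have := (h2 a₀ ha₀).2 h0
    rw [hae₀] at this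
    exact one_ne_zero this
  obtain ⟨l, hl⟩ := h3
  have hl1 : b a₀ l ≠ 0 := left_ne_zero_of_mul hl
  have hl2 : M.e w l 1 ≠ 0 := right_ne_zero_of_mul hl
  have hlI : l ∈ I := by
    by_contra h0
    exact hl1 (d.i1.off a₀ ha₀ l h0)
  have hli : l = i := by
    by_contra h0
    obtain ⟨a, ha, hb⟩ := d.i1.ex (Function.update 0 l 1) (upd_off hlI 1)
    have h4 := h1 a ha (by rw [hb, Function.update_of_ne (Ne.symm h0)]; rfl)
    have h5 := (h2 a ha).1 h4 l
    rw [hb, Function.update_self, one_mul] at h5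
    exact hl2 h5
  have h6 : ∀ a ∈ zl (S' : Subgroup G) P', b a i = 0 ↔ M'.e a j 1 = 0 := by
    intro a ha
    refine ⟨h1 a ha, fun h4 => ?_⟩
    have h5 := (h2 a ha).1 h4 l
    rw [hli] at h5
    rw [hli] at hl2
    exact (mul_eq_zero.1 h5).resolve_right hl2
  refine ⟨j, hjI, h6, fun u hu hu1 hu0 => ?_⟩
  have h7 : ∀ m, m ≠ j → c u m = 0 := by
    intro m hm
    by_contra h0
    obtain ⟨a, ha, hae⟩ := M'.surj (Function.update 0 m ![0, 1])
    have h8 : b a i = 0 := (h6 a ha).2 (by rw [hae, Function.update_of_ne (Ne.symm hm)]; rfl)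
    have h9 := (hK u hu hu1 hu0 a ha).1 h8 m
    rw [hae, Function.update_self] at h9
    exact h0 ((mul_eq_zero.1 h9).resolve_right one_ne_zero)
  obtain ⟨m, hm⟩ := hS u hu hu1 hu0
  have hmj : m = j := by
    by_contra h0
    exact hm (h7 m h0)
  exact ⟨hmj ▸ hm, h7⟩

end PD

end pair

end Cfsg.Agent.Omega.IId.Ns
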