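import Cfsg.Agent.Omega.IId.Ns.SplitOf
import Cfsg.Agent.Omega.IId.Ns.Side
import Cfsg.Agent.Omega.IId.Ns.Fld
import Cfsg.Agent.Omega.IId.Ns.LemX
import Cfsg.Agent.Omega.HOne.NSPair

/-!
# II.d, nonsplit: `PairF` for a matched pair

* `half_one` : `Half (Lc M i) (Nc M i)` if the stabiliser of the `i`-th factor is the whole Sylow 2-subgroup (`k = 1`);
* `exists_pairF` : the pair `(N_i, N'_j)` over one field;
* `PO` : the output: `PairF` and the second alternative of the dichotomy; `exists_po`.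
-/

set_option autoImplicit false
set_option linter.unusedSectionVars false

namespace Cfsg.Agent.Omega.IId.Ns

open Subgroup Cfsg Cfsg.Agent.ZN Cfsg.Agent.ZN.ChoiceSit Cfsg.Agent.ZN.ChoiceBase Cfsg.Agent.Omega.MinPar
open Cfsg.Agent.Omega.FrameFF Cfsg.Agent.Omega.FFThm Cfsg.Agent.Lib.SL2Mat
open Cfsg.Agent.Omega.NatPair (ap ap_add ap_mul ap_one ap_inj ext2 ap_zero' ap_one' ap_inv_ap ap_ap_inv)
open Cfsg.Agent.Omega.HOne (cv_le conj_mem_zl conj_mem_cv)
open Cfsg.Agent.Omega.HOne.Main (vx SplitPar)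
open Cfsg.Agent.Omega.IId.Cv
open Cfsg.Agent.Omega.HOne.NSMod Cfsg.Agent.Omega.HOne.NSSide Cfsg.Agent.Omega.HOne.NSPair
open Cfsg.Agent.MinSimple.VModule (oddGen oddGen_le zc_comm zc_sq zc_le mem_zc o2_isPGroup)

universe u

section half

variable {G : Type u} [Group G] [Finite G] (hG : IsCharacteristicTwoType G) (S : Sylow 2 G) {P : Subgroup G}
  (h : IsParS (S : Subgroup G) P) {F : Type} [Field F] [Finite F] [CharP F 2] {k : ℕ}
  {M : NatK F (S : Subgroup G) P (zl (S : Subgroup G) P) (cv (S : Subgroup G) P) k}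

include hG h in
/-- HALF* if `S` stabilises the `i`-th factor -/
theorem half_of_sylow (hF : 4 ≤ Nat.card F) {i : Fin k} (hT : (S : Subgroup G) ≤ Tc M i) :
    Half (Lc M i) (Nc M i) := by
  intro H hL hH
  have hk : 0 < k := i.pos
  have hω := exists_omega hF
  have hTH : (S : Subgroup G) ≤ H := hT.trans (le_sup_left.trans hL)
  -- `O₂(H) ≤ S`
  have hOS : o2 H ≤ (S : Subgroup G) := by
    have h1 : IsPGroup 2 ((S : Subgroup G) ⊔ o2 H : Subgroup G) :=
      LemX.isPGroup_sup S.isPGroup' (o2_isPGroup H) (hTH.trans (le_normalizer_o2 H))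
    have h2 := S.is_maximal' h1 le_sup_left
    rw [← h2]; exact le_sup_right
  have hOT := hOS.trans hT
  have h1 := triv_of_norm S (M := M) (K := o2 H) (o2_isPGroup H) (hOS.trans h.le) (i := i)
    (fun w hw => (hOT hw).2) fun B => by
      obtain ⟨x, hx⟩ := exists_Al M i B
      obtain ⟨y, hy, hyx⟩ := Sd.exists_Ec hG S h M hω hx.mem_Fc
      obtain ⟨C, hC⟩ := exists_of_Fc hy.1
      have hCB : C = B := ap_inj fun z => by
        obtain ⟨v, hv, hvi, -⟩ := exists_single (M := M) i z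
        rw [← hvi, ← hC.same hv, hyx v hv, hx.same hv]
      refine ⟨y, hC.of_eq hCB, fun w hw => ?_⟩
      have hyH := hL ((le_sup_right : Ec M i ≤ Lc M i) hy)
      have h2 := (mem_normalizer_iff.1 (le_normalizer_o2 H (inv_mem hyH)) w).1 hw
      rwa [inv_inv] at h2
  have h2 : o2 H ≤ centralizer (Nc M i : Set G) := fun w hw =>
    cent_Nc hG S h hk hF ((hOS.trans h.le) hw) (h1 w hw)
  intro n hn
  have hnc : n ∈ centralizer (o2 H : Set G) := mem_centralizer_iff.2 fun w hw =>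
    (mem_centralizer_iff.1 (h2 hw) n hn).symm
  have hnH : n ∈ H := hTH (Sd.V_le_S hG S h (Nc_le M i hn))
  have hno := hH (mem_inf.2 ⟨hnH, hnc⟩)
  exact mem_zc.2 ⟨hno, fun w hw => mem_centralizer_iff.1 hnc w hw, by
    rw [pow_two]; exact sq_zl hG S h (Nc_le M i hn)⟩

end half

section po

variable {G : Type u} [Group G] [Finite G] {F : Type} [Field F] [Finite F] [CharP F 2]
  (hG : IsCharacteristicTwoType G) {S S' : Sylow 2 G} {P P' : Subgroup G} (hp : Pair S S' P P') {k k' : ℕ}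
  {M : NatK F (S : Subgroup G) P (zl (S : Subgroup G) P) (cv (S : Subgroup G) P) k}
  {M' : NatK F (S' : Subgroup G) P' (zl (S' : Subgroup G) P') (cv (S' : Subgroup G) P') k'}
  (hω : ∃ ω : F, ω ≠ 0 ∧ ω ≠ 1)

include hG hp in
theorem Mt.sideS {i : Fin k} {j : Fin k'} (m : Mt M M' i j) :
    SideS (Tc M i) (Lc M i) (Nc M i) (Uc M i) (Nc M' j) (Sd.natOver hG S hp.star M hω i).e :=
  Sd.sideS_of hG S hp.star M hω (m.le_Tc hp.le) (fun a ha => by
    obtain ⟨c, hc⟩ := m.acts a ha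
    exact ⟨c, hc.2⟩) (fun b => by
    obtain ⟨a, ha, hc⟩ := m.full b
    exact ⟨a, ha, hc.2⟩) fun v hv h0 => (m.cen v (Nc_le M i hv)).2 h0

include hG hp in
/-- **`PairF` for a matched pair.** -/
theorem exists_pairF {i : Fin k} {j : Fin k'} (m : Mt M M' i j) (m' : Mt M' M j i) :
    ∃ e f g e' f' g' : F → G, PairF (Tc M i) (Tc M' j) (Lc M i) (Lc M' j) (Nc M i) (Nc M' j) (Uc M i) (Uc M' j)
      (Sd.natOver hG S hp.star M hω i).e (Sd.natOver hG S' hp.star' M' hω j).e e f g e' f' g' (Nc M i) (Nc M' j) := by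
  have s := m.sideS hG hp hω
  have s' := m'.sideS hG hp.symm hω
  obtain ⟨e, f, g, φ⟩ := Sd.exists_form hG S hp.star M hω s rfl
  obtain ⟨e', f', g', φ'⟩ := Sd.exists_form hG S' hp.star' M' hω s' rfl
  have : Fintype F := Fintype.ofFinite F
  refine ⟨e, f, g, e', f', g', s, s', φ, φ', fun b => ?_, hω⟩
  obtain ⟨t, ht⟩ := (FiniteField.isSquare_of_char_two (ringChar.eq F 2) b)
  exact ⟨t, by rw [ht, pow_two]⟩

/-- The output of the dichotomy. -/
structure PO (M : NatK F (S : Subgroup G) P (zl (S : Subgroup G) P) (cv (S : Subgroup G) P) k)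
    (M' : NatK F (S' : Subgroup G) P' (zl (S' : Subgroup G) P') (cv (S' : Subgroup G) P') k') (i : Fin k) (j : Fin k')
    (π π' : G → Fin 2 → F) (e f g e' f' g' : F → G) : Prop where
  m : Mt M M' i j
  m' : Mt M' M j i
  p : PairF (Tc M i) (Tc M' j) (Lc M i) (Lc M' j) (Nc M i) (Nc M' j) (Uc M i) (Uc M' j) π π' e f g e' f' g'
    (Nc M i) (Nc M' j)
  c1 : ∀ z, ∃ y, e z = g' y
  c2 : ∀ z, ∃ y, e' z = g y
  g1 : ∀ y, g y = 1 → y = 0
  g1' : ∀ y, g' y = 1 → y = 0
  π0 : ∀ v, π v 0 = M.e v i 1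
  π0' : ∀ v, π' v 0 = M'.e v j 1

include hG hp hω in
/-- **The dichotomy.** -/
theorem exists_po {i : Fin k} {j : Fin k'} (m : Mt M M' i j) (m' : Mt M' M j i)
    (hh : Half (Lc M i) (Nc M i)) (hh' : Half (Lc M' j) (Nc M' j))
    (hs : ¬ (SplitPar (S : Subgroup G) P ∧ SplitPar (S' : Subgroup G) P')) :
    ∃ π π' e f g e' f' g', PO M M' i j π π' e f g e' f' g' := by
  obtain ⟨e, f, g, e', f', g', p⟩ := exists_pairF hG hp hω m m'
  rcases p.dich with ⟨h1, h2⟩ | ⟨h1, h2, h3, h4⟩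
  · exfalso
    have hU : Uc M i = Uc M' j := by
      apply le_antisymm
      · intro u hu
        obtain ⟨y, rfl⟩ := p.φ.ND u hu.1 hu
        obtain ⟨y', hy'⟩ := h1 y
        rw [hy']; exact p.φ'.gD y'
      · intro u hu
        obtain ⟨y, rfl⟩ := p.φ'.ND u hu.1 hu
        obtain ⟨y', hy'⟩ := h2 y
        rw [hy']; exact p.φ.gD y'
    by_cases h0 : Uc M i = ⊥
    · exact hs ⟨splitPar_of_Uc hG S hp.star h0, splitPar_of_Uc hG S' hp.star' (by rw [← hU]; exact h0)⟩
    · have hU2 : IsPGroup 2 (Uc M i) := (S.isPGroup'.to_le (Sd.V_le_S hG S hp.star)).to_le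
        (inf_le_left.trans (Nc_le M i))
      have hc := MinSimple.Basic.char2_normalizer hG hU2 h0
      have hL : Lc M i ≤ normalizer (Uc M i : Set G) := (Sd.Lc_le_St S M i).trans (Sd.St_norm_Uc M i)
      have hL' : Lc M' j ≤ normalizer (Uc M i : Set G) := by
        rw [hU]
        exact (Sd.Lc_le_St S' M' j).trans (Sd.St_norm_Uc M' j)
      have a1 := hh _ hL hc
      have a2 := hh' _ hL' hc
      obtain ⟨v, hv, hve⟩ := Nc_ex M i ![0, 1]
      have h5 := (m.cen v (Nc_le M i hv)).1 fun a ha => zc_comm _ _ (a2 ha) _ (a1 hv)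
      rw [hve] at h5
      exact one_ne_zero h5
  · exact ⟨_, _, e, f, g, e', f', g', m, m', p, h1, h2, h3, h4, fun v => Sd.pc_zero S M i v, fun v => Sd.pc_zero S' M' j v⟩

end po

end Cfsg.Agent.Omega.IId.Ns
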