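import Cfsg.Agent.Omega.IId.Ns.PairOf
import Cfsg.Agent.Omega.IId.Ns.BaseV
import Cfsg.Agent.Omega.FrameMulti

/-!
# II.d, nonsplit, all `k`, `k'`: the plug

* `VZ S P` : `V ≤ Ω₁ Z(O₂(N_G(X)))` for all `1 ≠ X ≤ D`; `VZ.inf` : `D ∩ D' = 1`;
* `exists_po_of` : the dichotomy of a matched pair if `D ∩ D' = 1`;
* `nonsplit_of` : the reduction to a matched pair over one field, `4 ≤ |F|`.
-/

set_option autoImplicit false
set_option linter.unusedSectionVars false

namespace Cfsg.Agent.Omega.IId.Ns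

open Subgroup Cfsg Cfsg.Agent.ZN Cfsg.Agent.ZN.ChoiceSit Cfsg.Agent.ZN.ChoiceBase Cfsg.Agent.Omega.MinPar
open Cfsg.Agent.Omega.FrameFF Cfsg.Agent.Omega.FFThm Cfsg.Agent.Lib.SL2Mat
open Cfsg.Agent.Omega.NatPair (ap ap_add ap_mul ap_one ap_inj ext2 ap_zero' ap_one' ap_inv_ap ap_ap_inv)
open Cfsg.Agent.Omega.HOne (cv_le conj_mem_zl conj_mem_cv)
open Cfsg.Agent.Omega.HOne.Main (vx SplitPar)
open Cfsg.Agent.Omega.IId.Cv
open Cfsg.Agent.Omega.HOne.NSMod Cfsg.Agent.Omega.HOne.NSSide Cfsg.Agent.Omega.HOne.NSPair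
open Cfsg.Agent.MinSimple.VModule (oddGen oddGen_le zc_comm zc_sq zc_le mem_zc o2_isPGroup)
open Cfsg.Agent.Omega.FrameMulti (IsNat)

universe u

section vz

variable {G : Type u} [Group G] [Finite G]

/-- `V ≤ Ω₁ Z(O₂(N_G(X)))` for all `1 ≠ X ≤ D` -/
def VZ (S P : Subgroup G) : Prop :=
  ∀ X : Subgroup G, X ≠ ⊥ → X ≤ cv S P → zl S P ≤ zc (o2 (normalizer (X : Set G)))

/-- `D ∩ D' = 1` -/
theorem VZ.inf {S S' : Sylow 2 G} {P P' : Subgroup G} (hp : Pair S S' P P') (hV : VZ (S : Subgroup G) P)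
    (hV' : VZ (S' : Subgroup G) P') : cv (S : Subgroup G) P ⊓ cv (S' : Subgroup G) P' = ⊥ := by
  by_contra h0
  have a1 := hV _ h0 inf_le_left
  have a2 := hV' _ h0 inf_le_right
  apply hp.ne
  rw [commutator_eq_bot_iff_le_centralizer]
  intro x hx
  exact mem_centralizer_iff.2 fun y hy => zc_comm _ _ (a2 hy) _ (a1 hx)

end vz

section po

variable {G : Type u} [Group G] [Finite G] {F : Type} [Field F] [Finite F] [CharP F 2]
  (hG : IsCharacteristicTwoType G) {S S' : Sylow 2 G} {P P' : Subgroup G} (hp : Pair S S' P P') {k k' : ℕ}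
  {M : NatK F (S : Subgroup G) P (zl (S : Subgroup G) P) (cv (S : Subgroup G) P) k}
  {M' : NatK F (S' : Subgroup G) P' (zl (S' : Subgroup G) P') (cv (S' : Subgroup G) P') k'}
  (hω : ∃ ω : F, ω ≠ 0 ∧ ω ≠ 1)

include hG hp hω in
/-- **The dichotomy**, `D ∩ D' = 1`. -/
theorem exists_po_of {i : Fin k} {j : Fin k'} (m : Mt M M' i j) (m' : Mt M' M j i)
    (hD : cv (S : Subgroup G) P ⊓ cv (S' : Subgroup G) P' = ⊥)
    (hs : ¬ (SplitPar (S : Subgroup G) P ∧ SplitPar (S' : Subgroup G) P')) :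
    ∃ π π' e f g e' f' g', PO M M' i j π π' e f g e' f' g' := by
  obtain ⟨e, f, g, e', f', g', p⟩ := exists_pairF hG hp hω m m'
  rcases p.dich with ⟨h1, h2⟩ | ⟨h1, h2, h3, h4⟩
  · exfalso
    have hU : Uc M i = Uc M' j := by
      apply le_antisymm
      · intro u hu
        obtain ⟨y, rfl⟩ := p.φ.ND u hu.1 hu
        obtain ⟨y', hy'⟩ := h1 y
        rw [hy']; exact p.φ'.gD y'
      · intro u hu
        obtain ⟨y, rfl⟩ := p.φ'.ND u hu.1 hu
        obtain ⟨y', hy'⟩ := h2 y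
        rw [hy']; exact p.φ.gD y'
    have h0 : Uc M i = ⊥ := by
      rw [eq_bot_iff, ← hD]
      refine le_inf inf_le_right ?_
      rw [hU]
      exact inf_le_right
    exact hs ⟨splitPar_of_Uc hG S hp.star h0, splitPar_of_Uc hG S' hp.star' (by rw [← hU]; exact h0)⟩
  · exact ⟨_, _, e, f, g, e', f', g', m, m', p, h1, h2, h3, h4, fun v => Sd.pc_zero S M i v, fun v => Sd.pc_zero S' M' j v⟩

end po

/-- **The reduction to a matched pair.** -/
theorem nonsplit_of {G : Type u} [Group G] [Finite G] (hG : IsCharacteristicTwoType G) {S S' : Sylow 2 G}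
    {P P' : Subgroup G} (hp : Pair S S' P P') (hT : NoOver (zl (S : Subgroup G) P) P)
    (hT' : NoOver (zl (S' : Subgroup G) P') P') {k k' : ℕ} (hk : 1 ≤ k) (hk' : 1 ≤ k')
    (hM : IsNat (S : Subgroup G) P k) (hM' : IsNat (S' : Subgroup G) P' k')
    (hs : ¬ (SplitPar (S : Subgroup G) P ∧ SplitPar (S' : Subgroup G) P'))
    (hV : ∀ (F : Type) [Field F] [Finite F] [CharP F 2], 4 ≤ Nat.card F →
      NatK F (S : Subgroup G) P (zl (S : Subgroup G) P) (cv (S : Subgroup G) P) k → VZ (S : Subgroup G) P)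
    (hV' : ∀ (F : Type) [Field F] [Finite F] [CharP F 2], 4 ≤ Nat.card F →
      NatK F (S' : Subgroup G) P' (zl (S' : Subgroup G) P') (cv (S' : Subgroup G) P') k' → VZ (S' : Subgroup G) P')
    (hEnd : ∀ (F : Type) [Field F] [Finite F] [CharP F 2]
      (M : NatK F (S : Subgroup G) P (zl (S : Subgroup G) P) (cv (S : Subgroup G) P) k)
      (M' : NatK F (S' : Subgroup G) P' (zl (S' : Subgroup G) P') (cv (S' : Subgroup G) P') k')
      (i : Fin k) (j : Fin k') (π π' : G → Fin 2 → F) (e f g e' f' g' : F → G),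
      PO M M' i j π π' e f g e' f' g' → VZ (S : Subgroup G) P → VZ (S' : Subgroup G) P' → 4 ≤ Nat.card F → False) :
    False := by
  obtain ⟨F, _, _, _, ⟨M⟩⟩ := hM
  obtain ⟨F', _, _, _, ⟨M₁⟩⟩ := hM'
  obtain ⟨I, I', b, c, d⟩ := exists_pd hG hp hT hT' M M₁
  have hcard := d.card_eq (by omega) (by omega)
  -- `|F| ≥ 4`
  have hF : 4 ≤ Nat.card F := by
    by_contra hlt
    have : Fintype F := Fintype.ofFinite F
    have h1 : 1 < Nat.card F := Finite.one_lt_card
    have h2 : 2 ∣ Nat.card F := two_dvd_card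
    have h3 : Nat.card F = 2 := by omega
    exact hs ⟨splitPar_two hG S hp.star M (by omega) h3, splitPar_two hG S' hp.star' M₁ (by omega) (hcard ▸ h3)⟩
  -- one field
  have : Fintype F := Fintype.ofFinite F
  have : Fintype F' := Fintype.ofFinite F'
  have hσ : Nonempty (F' ≃+* F) := by
    rw [Nat.card_eq_fintype_card, Nat.card_eq_fintype_card] at hcard
    exact ⟨FiniteField.ringEquivOfCardEq hcard.symm⟩
  obtain ⟨σ⟩ := hσ
  obtain ⟨M', hM'⟩ : ∃ M' : NatK F (S' : Subgroup G) P' (zl (S' : Subgroup G) P') (cv (S' : Subgroup G) P') k',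
      M' = natKFld σ M₁ := ⟨_, rfl⟩
  obtain ⟨I, I', b, c, d⟩ := exists_pd hG hp hT hT' M M'
  obtain ⟨i, j, m, m'⟩ := d.exists_mt (by omega) (by omega)
  have hω := exists_omega hF
  have v := hV F hF M
  have v' := hV' F hF M'
  obtain ⟨π, π', e, f, g, e', f', g', o⟩ := exists_po_of hG hp hω m m' (v.inf hp v') hs
  exact hEnd F M M' i j π π' e f g e' f' g' o v v' hF

end Cfsg.Agent.Omega.IId.Ns
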