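import Cfsg.Agent.Lib.FrattiniPGroup
import Mathlib.GroupTheory.PGroup
import Mathlib.GroupTheory.Sylow
import Mathlib.FieldTheory.Finite.Basic
import Mathlib.Algebra.CharP.Two

/-!
# The rank of a 2-group which permutes root groups

`Fr S Λ Q c` : `S` is a 2-group, `Q ≤ Λ ≤ S`, `c : Λ / Q ≅ F ^ k`, `S` permutes the `k` places, `C_S(Λ / Q) = Λ`, and the
elementary abelian sections of `N_S(i) / C_S(i)` have order at most 2.

* `Fr.key` : `|B| |C_{Λ/Q}(B)| |Q| ≤ |Λ| |B ∩ Λ|` for `B / (B ∩ Q)` elementary abelian;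
* `Fr.card_le` : `|B| ≤ |Λ|` for `Q ≤ B ≤ S`, `B / Q` elementary abelian;
* `Fr.le_of_norm` : `S` a Sylow 2-subgroup of `G`, `S ≤ N`, `K` normal in `N`, `S ∩ K = Q`, `X ≤ N` a 2-group modulo `K`,
  normalised by `Λ`, with `X ∩ Λ K ≤ K` ==> `X ≤ K`.
-/

set_option autoImplicit false
set_option linter.unusedSectionVars false

namespace Cfsg.Agent.Omega.IId.Ns.Rk

open Subgroup

universe u

variable {G : Type u} [Group G] {F : Type} [Field F] {k : ℕ}

/-- `g` maps the `i`-th place to the `j`-th. -/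
def Mv (Λ : Subgroup G) (c : G → Fin k → F) (g : G) (i j : Fin k) : Prop :=
  ∀ x ∈ Λ, c (g * x * g⁻¹) j = 0 ↔ c x i = 0

/-- `g` acts trivially on the `i`-th place. -/
def Tr (Λ : Subgroup G) (c : G → Fin k → F) (g : G) (i : Fin k) : Prop :=
  ∀ x ∈ Λ, c (g * x * g⁻¹) i = c x i

structure Fr (S Λ Q : Subgroup G) (c : G → Fin k → F) : Prop where
  LS : Λ ≤ S
  QL : Q ≤ Λ
  S2 : IsPGroup 2 S
  nL : ∀ s ∈ S, ∀ x ∈ Λ, s * x * s⁻¹ ∈ Λ
  mul : ∀ x ∈ Λ, ∀ y ∈ Λ, c (x * y) = c x + c y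
  surj : ∀ b, ∃ x ∈ Λ, c x = b
  ker : ∀ x ∈ Λ, c x = 0 ↔ x ∈ Q
  place : ∀ s ∈ S, ∀ i, ∃ j, Mv Λ c s i j
  cent : ∀ s ∈ S, (∀ i, Tr Λ c s i) → s ∈ Λ
  two : ∀ i, ∀ a ∈ S, ∀ b ∈ S, a * a ∈ Q → b * b ∈ Q → a * b * (a * b) ∈ Q → Mv Λ c a i i → Mv Λ c b i i →
    ¬ Tr Λ c a i → ¬ Tr Λ c b i → Tr Λ c (a * b) i

namespace Fr

variable {S Λ Q : Subgroup G} {c : G → Fin k → F} (fr : Fr S Λ Q c)

include fr

theorem c_one : c 1 = 0 := (fr.ker 1 (one_mem _)).2 (one_mem _)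

theorem c_inv {x : G} (hx : x ∈ Λ) : c x⁻¹ = - c x := by
  have h1 := fr.mul _ hx _ (inv_mem hx)
  rw [mul_inv_cancel, fr.c_one] at h1
  exact (neg_eq_of_add_eq_zero_right h1.symm).symm

theorem exists_single (i : Fin k) (t : F) : ∃ x ∈ Λ, c x i = t ∧ ∀ j, j ≠ i → c x j = 0 := by
  classical
  obtain ⟨x, hx, e⟩ := fr.surj (Pi.single i t)
  exact ⟨x, hx, by rw [e, Pi.single_eq_same], fun j hj => by rw [e, Pi.single_eq_of_ne hj]⟩

theorem mv_mul {a b : G} (hb : b ∈ S) {i j l : Fin k} (h1 : Mv Λ c b i j) (h2 : Mv Λ c a j l) :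
    Mv Λ c (a * b) i l := fun x hx => by
  have e : a * b * x * (a * b)⁻¹ = a * (b * x * b⁻¹) * a⁻¹ := by group
  rw [e, h2 _ (fr.nL b hb x hx), h1 x hx]

theorem mv_inv {a : G} (ha : a ∈ S) {i j : Fin k} (h1 : Mv Λ c a i j) : Mv Λ c a⁻¹ j i := fun x hx => by
  have h2 := h1 _ (fr.nL _ (inv_mem ha) x hx)
  have e : a * (a⁻¹ * x * a⁻¹⁻¹) * a⁻¹ = x := by group
  rw [e] at h2
  exact h2.symm

theorem mv_unique' {a : G} {i i' j : Fin k} (h1 : Mv Λ c a i j) (h2 : Mv Λ c a i' j) : i = i' := by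
  by_contra hne
  obtain ⟨x, hx, e1, e2⟩ := fr.exists_single i 1
  have h3 := h1 x hx
  rw [h2 x hx, e2 i' (Ne.symm hne), e1] at h3
  exact one_ne_zero (h3.1 rfl)

theorem place' {s : G} (hs : s ∈ S) (j : Fin k) : ∃ i, Mv Λ c s i j := by
  obtain ⟨i, hi⟩ := fr.place _ (inv_mem hs) j
  have := fr.mv_inv (inv_mem hs) hi
  rw [inv_inv] at this
  exact ⟨i, this⟩

theorem mv_unique {a : G} (ha : a ∈ S) {i j j' : Fin k} (h1 : Mv Λ c a i j) (h2 : Mv Λ c a i j') : j = j' :=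
  fr.mv_unique' (fr.mv_inv ha h1) (fr.mv_inv ha h2)

/-- the action depends only on the coordinates -/
theorem c_congr {s : G} (hs : s ∈ S) {x y : G} (hx : x ∈ Λ) (hy : y ∈ Λ) (e : c x = c y) :
    c (s * x * s⁻¹) = c (s * y * s⁻¹) := by
  have h1 : c (x * y⁻¹) = 0 := by rw [fr.mul _ hx _ (inv_mem hy), fr.c_inv hy, e, add_neg_cancel]
  have h2 : c (s * (x * y⁻¹) * s⁻¹) = 0 := by
    funext j
    obtain ⟨i, hi⟩ := fr.place' hs j
    rw [Pi.zero_apply, hi _ (mul_mem hx (inv_mem hy)), h1]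
    rfl
  have e2 : s * x * s⁻¹ = s * (x * y⁻¹) * s⁻¹ * (s * y * s⁻¹) := by group
  rw [e2, fr.mul _ (fr.nL s hs _ (mul_mem hx (inv_mem hy))) _ (fr.nL s hs y hy), h2, zero_add]

theorem Q_conj {s : G} (hs : s ∈ S) {q : G} (hq : q ∈ Q) : s * q * s⁻¹ ∈ Q := by
  rw [← fr.ker _ (fr.nL s hs q (fr.QL hq)), fr.c_congr hs (fr.QL hq) (one_mem _)
    ((fr.ker q (fr.QL hq)).2 hq |>.trans fr.c_one.symm)]
  rw [mul_one, mul_inv_cancel, fr.c_one]

/-- the coordinate `i` of the conjugate depends only on the coordinate `i` if the place is fixed -/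
theorem c_congr_i {s : G} (hs : s ∈ S) {i : Fin k} (hm : Mv Λ c s i i) {x y : G} (hx : x ∈ Λ) (hy : y ∈ Λ)
    (e : c x i = c y i) : c (s * x * s⁻¹) i = c (s * y * s⁻¹) i := by
  have h1 : c (x * y⁻¹) i = 0 := by
    rw [fr.mul _ hx _ (inv_mem hy), fr.c_inv hy, Pi.add_apply, Pi.neg_apply, e, add_neg_cancel]
  have h2 := (hm _ (mul_mem hx (inv_mem hy))).2 h1
  have e2 : s * x * s⁻¹ = s * (x * y⁻¹) * s⁻¹ * (s * y * s⁻¹) := by group
  rw [e2, fr.mul _ (fr.nL s hs _ (mul_mem hx (inv_mem hy))) _ (fr.nL s hs y hy), Pi.add_apply, h2, zero_add]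

theorem tr_of_mem {b : G} (hb : b ∈ Λ) (i : Fin k) : Tr Λ c b i := fun x hx => by
  rw [fr.mul _ (mul_mem hb hx) _ (inv_mem hb), fr.mul _ hb _ hx, fr.c_inv hb]
  simp

theorem tr_one (i : Fin k) : Tr Λ c 1 i := fr.tr_of_mem (one_mem _) i

theorem tr_mul {a b : G} (hb : b ∈ S) {i : Fin k} (h1 : Tr Λ c a i) (h2 : Tr Λ c b i) : Tr Λ c (a * b) i :=
  fun x hx => by
  have e : a * b * x * (a * b)⁻¹ = a * (b * x * b⁻¹) * a⁻¹ := by group
  rw [e, h1 _ (fr.nL b hb x hx), h2 x hx]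

theorem tr_inv {a : G} (ha : a ∈ S) {i : Fin k} (h1 : Tr Λ c a i) : Tr Λ c a⁻¹ i := fun x hx => by
  have h2 := h1 _ (fr.nL _ (inv_mem ha) x hx)
  have e : a * (a⁻¹ * x * a⁻¹⁻¹) * a⁻¹ = x := by group
  rw [e] at h2
  exact h2.symm

theorem mv_of_tr {a : G} {i : Fin k} (h1 : Tr Λ c a i) : Mv Λ c a i i := fun x hx => by rw [h1 x hx]

/-- `C_{Λ/Q}(B)` -/
def fix (B : Subgroup G) (hB : B ≤ S) : Subgroup G where
  carrier := {x | x ∈ Λ ∧ ∀ b ∈ B, c (b * x * b⁻¹) = c x}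
  one_mem' := ⟨one_mem _, fun b _ => by rw [mul_one, mul_inv_cancel]⟩
  mul_mem' := by
    rintro x y ⟨hx, hx'⟩ ⟨hy, hy'⟩
    refine ⟨mul_mem hx hy, fun b hb => ?_⟩
    have e : b * (x * y) * b⁻¹ = b * x * b⁻¹ * (b * y * b⁻¹) := by group
    rw [e, fr.mul _ (fr.nL b (hB hb) x hx) _ (fr.nL b (hB hb) y hy), hx' b hb, hy' b hb, fr.mul _ hx _ hy]
  inv_mem' := by
    rintro x ⟨hx, hx'⟩
    refine ⟨inv_mem hx, fun b hb => ?_⟩
    have e : b * x⁻¹ * b⁻¹ = (b * x * b⁻¹)⁻¹ := by group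
    rw [e, fr.c_inv (fr.nL b (hB hb) x hx), hx' b hb, fr.c_inv hx]

theorem mem_fix {B : Subgroup G} (hB : B ≤ S) {x : G} :
    x ∈ fr.fix B hB ↔ x ∈ Λ ∧ ∀ b ∈ B, c (b * x * b⁻¹) = c x := Iff.rfl

theorem fix_anti {B B' : Subgroup G} (hB : B ≤ S) (h : B' ≤ B) : fr.fix B hB ≤ fr.fix B' (h.trans hB) :=
  fun _ hx => ⟨hx.1, fun b hb => hx.2 b (h hb)⟩

/-- the elements of `B` which fix the `i`-th place -/
def stab (B : Subgroup G) (hB : B ≤ S) (i : Fin k) : Subgroup G where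
  carrier := {b | b ∈ B ∧ Mv Λ c b i i}
  one_mem' := ⟨one_mem _, fr.mv_of_tr (fr.tr_one i)⟩
  mul_mem' := by
    rintro a b ⟨ha, ha'⟩ ⟨hb, hb'⟩
    exact ⟨mul_mem ha hb, fr.mv_mul (hB hb) hb' ha'⟩
  inv_mem' := by
    rintro a ⟨ha, ha'⟩
    exact ⟨inv_mem ha, fr.mv_inv (hB ha) ha'⟩

/-- the elements of `B` which act trivially on the `i`-th place -/
def triv (B : Subgroup G) (hB : B ≤ S) (i : Fin k) : Subgroup G where
  carrier := {b | b ∈ B ∧ Tr Λ c b i}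
  one_mem' := ⟨one_mem _, fr.tr_one i⟩
  mul_mem' := by
    rintro a b ⟨ha, ha'⟩ ⟨hb, hb'⟩
    exact ⟨mul_mem ha hb, fr.tr_mul (hB hb) ha' hb'⟩
  inv_mem' := by
    rintro a ⟨ha, ha'⟩
    exact ⟨inv_mem ha, fr.tr_inv (hB ha) ha'⟩

/-- the action of `S` on the coordinates -/
noncomputable def rho (s : G) (w : Fin k → F) : Fin k → F := c (s * (fr.surj w).choose * s⁻¹)

theorem rho_c {s : G} (hs : s ∈ S) {x : G} (hx : x ∈ Λ) : fr.rho s (c x) = c (s * x * s⁻¹) :=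
  fr.c_congr hs (fr.surj (c x)).choose_spec.1 hx (fr.surj (c x)).choose_spec.2

/-- a 2-group of elements of `S` fixes a nonzero vector of an invariant coordinate subspace -/
theorem exists_fix [Finite G] [Finite F] [CharP F 2] {B : Subgroup G} (hB : B ≤ S) (O : Set (Fin k)) {i : Fin k}
    (hi : i ∈ O) (hO : ∀ b ∈ B, ∀ j ∈ O, ∀ l, Mv Λ c b j l → l ∈ O) :
    ∃ x ∈ fr.fix B hB, c x ≠ 0 ∧ ∀ j, j ∉ O → c x j = 0 := by
  classical
  have : Fact (Nat.Prime 2) := ⟨Nat.prime_two⟩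
  let W : AddSubgroup (Fin k → F) :=
    { carrier := {w | ∀ j, j ∉ O → w j = 0}
      zero_mem' := fun j _ => rfl
      add_mem' := fun {a b} ha hb j hj => by rw [Pi.add_apply, ha j hj, hb j hj, add_zero]
      neg_mem' := fun {a} ha j hj => by rw [Pi.neg_apply, ha j hj, neg_zero] }
  have hW : ∀ {w : Fin k → F}, w ∈ W ↔ ∀ j, j ∉ O → w j = 0 := Iff.rfl
  have hinv : ∀ b ∈ B, ∀ w ∈ W, fr.rho b w ∈ W := by
    intro b hb w hw j hj
    obtain ⟨x, hx, rfl⟩ := fr.surj w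
    rw [fr.rho_c (hB hb) hx]
    obtain ⟨l, hl⟩ := fr.place' (hB hb) j
    rw [hl x hx]
    exact hw l fun hlO => hj (hO b hb l hlO j hl)
  let act : MulAction B W :=
    { smul := fun b w => ⟨fr.rho b w, hinv b b.2 w w.2⟩
      one_smul := fun w => by
        apply Subtype.ext
        obtain ⟨x, hx, e⟩ := fr.surj (w : Fin k → F)
        change fr.rho ((1 : B) : G) w = w
        rw [← e, fr.rho_c (hB (1 : B).2) hx, Subgroup.coe_one, one_mul, inv_one, mul_one]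
      mul_smul := fun a b w => by
        apply Subtype.ext
        obtain ⟨x, hx, e⟩ := fr.surj (w : Fin k → F)
        change fr.rho ((a * b : B) : G) w = fr.rho a (fr.rho b w)
        rw [← e, fr.rho_c (hB (a * b).2) hx, fr.rho_c (hB b.2) hx, fr.rho_c (hB a.2) (fr.nL b (hB b.2) x hx)]
        congr 1
        rw [Subgroup.coe_mul]; group }
  have hB2 : IsPGroup 2 B := fr.S2.to_le hB
  have h0 : (0 : W) ∈ MulAction.fixedPoints B W := by
    intro b
    apply Subtype.ext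
    change fr.rho b 0 = 0
    have e : (0 : Fin k → F) = c 1 := fr.c_one.symm
    rw [e, fr.rho_c (hB b.2) (one_mem _), mul_one, mul_inv_cancel]
  have hsg : ∀ j, j ∉ O → (Pi.single i 1 : Fin k → F) j = 0 := fun j hj => by
    refine Pi.single_eq_of_ne (fun h => hj ?_) 1
    rw [h]; exact hi
  have hne : (⟨Pi.single i 1, hsg⟩ : W) ≠ 0 := fun h => by
    have h1 := congrFun (congrArg Subtype.val h) i
    simp at h1
  have h2 : 2 ∣ Nat.card W := by
    have h3 : addOrderOf (⟨Pi.single i 1, hsg⟩ : W) = 2 := by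
      apply addOrderOf_eq_prime _ hne
      apply Subtype.ext
      rw [AddSubgroup.coe_nsmul, two_nsmul]
      funext j
      exact CharTwo.add_self_eq_zero _
    rw [← h3]
    exact addOrderOf_dvd_natCard _
  obtain ⟨w, hw, hw0⟩ := hB2.exists_fixed_point_of_prime_dvd_card_of_fixed_point W h2 h0
  obtain ⟨x, hx, e⟩ := fr.surj (w : Fin k → F)
  refine ⟨x, ⟨hx, fun b hb => ?_⟩, fun h => hw0 ?_, fun j hj => by rw [e]; exact w.2 j hj⟩
  · have h3 := congrArg Subtype.val (hw ⟨b, hb⟩)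
    change fr.rho b w = w at h3
    rw [← e, fr.rho_c (hB hb) hx] at h3
    exact h3
  · apply Subtype.ext
    rw [← e, h]
    rfl

/-- **the bound** -/
theorem key [Finite G] [Finite F] [CharP F 2] : ∀ n : ℕ, ∀ (B : Subgroup G) (hB : B ≤ S), Nat.card B = n →
    (∀ b ∈ B, b * b ∈ Q) → Nat.card B * Nat.card (fr.fix B hB) ≤ Nat.card Λ * Nat.card ↥(B ⊓ Λ) := by
  classical
  have : Fact (Nat.Prime 2) := ⟨Nat.prime_two⟩
  intro n
  induction n using Nat.strong_induction_on with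
  | _ n ih =>
    intro B hB hn hsq
    by_contra hlt
    rw [not_le] at hlt
    -- Step A
    have stepA : ∀ B' : Subgroup G, ∀ h : B' ≤ B, B'.relIndex B = 2 → B ⊓ Λ ≤ B' →
        fr.fix B' (h.trans hB) ≤ fr.fix B hB := by
      intro B' h h2 hL
      have e1 : Nat.card B' * 2 = Nat.card B := by
        have h0 := Subgroup.relIndex_mul_relIndex ⊥ B' B bot_le h
        rwa [Subgroup.relIndex_bot_left, Subgroup.relIndex_bot_left, h2] at h0
      have hpos : 0 < Nat.card B' := Nat.card_pos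
      have e2 : B' ⊓ Λ = B ⊓ Λ := le_antisymm (inf_le_inf_right _ h) (le_inf hL inf_le_right)
      have h3 := ih (Nat.card B') (by omega) B' (h.trans hB) rfl (fun b hb => hsq b (h hb))
      rw [e2] at h3
      have h4 : Nat.card B' * Nat.card (fr.fix B' (h.trans hB)) < Nat.card B' * (2 * Nat.card (fr.fix B hB)) := by
        calc _ ≤ _ := h3
          _ < _ := hlt
          _ = _ := by rw [← e1]; ring
      have h5 := Nat.lt_of_mul_lt_mul_left h4
      have h6 := Subgroup.card_dvd_of_le (fr.fix_anti hB h)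
      obtain ⟨m, hm⟩ := h6
      have h7 : 0 < Nat.card (fr.fix B hB) := Nat.card_pos
      have h8 : 0 < Nat.card (fr.fix B' (h.trans hB)) := Nat.card_pos
      have hm1 : m = 1 := by
        rcases m with _ | _ | m
        · rw [hm] at h8; simp at h8
        · rfl
        · exfalso
          rw [hm] at h5
          nlinarith
      rw [hm1, mul_one] at hm
      exact (Subgroup.eq_of_le_of_card_ge (fr.fix_anti hB h) hm.le).ge
    -- Step B
    obtain ⟨b₀, hb₀, i₀, hi₀⟩ : ∃ b₀ ∈ B, ∃ i₀, ¬ Tr Λ c b₀ i₀ := by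
      by_contra hcon
      push Not at hcon
      have hBL : B ≤ Λ := fun b hb => fr.cent b (hB hb) (hcon b hb)
      have e1 : B ⊓ Λ = B := inf_eq_left.2 hBL
      rw [e1, mul_comm] at hlt
      have h1 : Nat.card (fr.fix B hB) ≤ Nat.card Λ := Subgroup.card_le_of_le fun _ hx => hx.1
      exact absurd (Nat.mul_le_mul_left (Nat.card B) h1) (not_le.2 hlt)
    by_cases hmv : ∀ b ∈ B, Mv Λ c b i₀ i₀
    · -- Case 2
      have h1 : fr.triv B hB i₀ ≤ B := fun _ hb => hb.1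
      have h2 : (fr.triv B hB i₀).relIndex B = 2 := by
        rw [Subgroup.relIndex, Subgroup.index_eq_two_iff]
        refine ⟨⟨b₀, hb₀⟩, fun b => ?_⟩
        rw [mem_subgroupOf, mem_subgroupOf]
        by_cases hb : Tr Λ c b i₀
        · right
          refine ⟨⟨b.2, hb⟩, fun h3 => hi₀ ?_⟩
          have h4 := fr.tr_mul (hB (mul_mem b.2 hb₀)) (fr.tr_inv (hB b.2) hb) h3.2
          have e : (b : G)⁻¹ * (b * b₀) = b₀ := by group
          rwa [e] at h4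
        · left
          refine ⟨⟨mul_mem b.2 hb₀, ?_⟩, fun h3 => hb h3.2⟩
          exact fr.two i₀ b (hB b.2) b₀ (hB hb₀) (hsq b b.2) (hsq b₀ hb₀) (hsq _ (mul_mem b.2 hb₀)) (hmv b b.2)
            (hmv b₀ hb₀) hb hi₀
      have h3 := stepA _ h1 h2 fun x hx => ⟨hx.1, fr.tr_of_mem hx.2 i₀⟩
      apply hi₀
      intro x hx
      obtain ⟨y, hy, e1, e2⟩ := fr.exists_single i₀ (c x i₀)
      rw [fr.c_congr_i (hB hb₀) (hmv b₀ hb₀) hx hy e1.symm, ← e1]
      have h4 : y ∈ fr.fix (fr.triv B hB i₀) (h1.trans hB) := by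
        refine ⟨hy, fun b hb => ?_⟩
        funext j
        by_cases hj : j = i₀
        · subst hj; exact hb.2 y hy
        · obtain ⟨l, hl⟩ := fr.place' (hB hb.1) j
          have hli : l ≠ i₀ := fun h => hj (fr.mv_unique (hB hb.1) (h ▸ hl) (hmv b hb.1))
          rw [e2 j hj, hl y hy, e2 l hli]
      exact congrFun ((h3 h4).2 b₀ hb₀) i₀
    · -- Case 1
      push Not at hmv
      obtain ⟨b₁, hb₁, hmv⟩ := hmv
      have h1 : fr.stab B hB i₀ ≤ B := fun _ hb => hb.1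
      have hne : (fr.stab B hB i₀).subgroupOf B ≠ ⊤ := by
        rw [Ne, subgroupOf_eq_top]
        exact fun h => hmv (h hb₁).2
      obtain ⟨C, hC, hCs⟩ := (eq_top_or_exists_le_coatom ((fr.stab B hB i₀).subgroupOf B)).resolve_left hne
      have hB2 : IsPGroup 2 B := fr.S2.to_le hB
      have hidx := Cfsg.Agent.Lib.FrattiniPGroup.index_of_coatom hB2 hC
      set B' : Subgroup G := C.map B.subtype with hB'
      have hB'B : B' ≤ B := by rw [hB']; exact map_subtype_le C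
      have hmem : ∀ {x : G} (hx : x ∈ B), x ∈ B' ↔ (⟨x, hx⟩ : B) ∈ C := by
        intro x hx
        rw [hB', mem_map]
        constructor
        · rintro ⟨y, hy, e⟩
          have : y = ⟨x, hx⟩ := Subtype.ext e
          rwa [this] at hy
        · intro h
          exact ⟨⟨x, hx⟩, h, rfl⟩
      have hst : fr.stab B hB i₀ ≤ B' := fun x hx => (hmem (h1 hx)).2 (hCs (mem_subgroupOf.2 hx))
      have e2 : B'.relIndex B = 2 := by
        rw [Subgroup.relIndex]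
        have e3 : B'.subgroupOf B = C := by
          ext x
          rw [mem_subgroupOf, hmem x.2]
        rw [e3, hidx]
      have h3 := stepA B' hB'B e2 fun x hx => hst ⟨hx.1, fr.mv_of_tr (fr.tr_of_mem hx.2 i₀)⟩
      let O : Set (Fin k) := {j | ∃ b ∈ B', Mv Λ c b i₀ j}
      obtain ⟨x, hx, hx0, hxO⟩ := fr.exists_fix (hB'B.trans hB) O (i := i₀)
        ⟨1, one_mem _, fr.mv_of_tr (fr.tr_one i₀)⟩ (by
          rintro b hb j ⟨b', hb', hj⟩ l hl
          exact ⟨b * b', mul_mem hb hb', fr.mv_mul (hB (hB'B hb')) hj hl⟩)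
      have h4 := h3 hx
      obtain ⟨a, ha, haB⟩ : ∃ a ∈ B, a ∉ B' := by
        by_contra hcon
        push Not at hcon
        have : B ≤ B' := hcon
        rw [Subgroup.relIndex_eq_one.2 this] at e2
        exact absurd e2 (by norm_num)
      obtain ⟨j, hj⟩ : ∃ j, c x j ≠ 0 := by
        by_contra hcon
        push Not at hcon
        exact hx0 (funext hcon)
      obtain ⟨b, hb, hbj⟩ : j ∈ O := by
        by_contra h
        exact hj (hxO j h)
      obtain ⟨j', hj'⟩ := fr.place a (hB ha) j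
      have h5 : c x j' ≠ 0 := by
        rw [← h4.2 a ha]
        exact fun h => hj ((hj' x hx.1).1 h)
      obtain ⟨b', hb', hbj'⟩ : j' ∈ O := by
        by_contra h
        exact h5 (hxO j' h)
      have h6 : Mv Λ c (b'⁻¹ * (a * b)) i₀ i₀ :=
        fr.mv_mul (mul_mem (hB ha) (hB (hB'B hb))) (fr.mv_mul (hB (hB'B hb)) hbj hj')
          (fr.mv_inv (hB (hB'B hb')) hbj')
      have h7 : b'⁻¹ * (a * b) ∈ B' := hst ⟨mul_mem (inv_mem (hB'B hb')) (mul_mem ha (hB'B hb)), h6⟩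
      apply haB
      have h8 := mul_mem (mul_mem hb' h7) (inv_mem hb)
      have e : b' * (b'⁻¹ * (a * b)) * b⁻¹ = a := by group
      rwa [e] at h8

theorem card_le [Finite G] [Finite F] [CharP F 2] {B : Subgroup G} (hB : B ≤ S)
    (hsq : ∀ b ∈ B, b * b ∈ Q) : Nat.card B ≤ Nat.card Λ := by
  have h1 := fr.key _ B hB rfl hsq
  have h2 : B ⊓ Λ ≤ fr.fix B hB := by
    rintro x ⟨hxB, hx⟩
    refine ⟨hx, fun b hb => ?_⟩
    have h3 : b * x * b⁻¹ * x⁻¹ ∈ Q := by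
      have e : b * x * b⁻¹ * x⁻¹ = b * x * (b * x) * (x⁻¹ * (b * b)⁻¹ * x⁻¹⁻¹) * (x * x)⁻¹ := by group
      rw [e]
      exact mul_mem (mul_mem (hsq _ (mul_mem hb hxB)) (fr.Q_conj (hB (inv_mem hxB)) (inv_mem (hsq b hb))))
        (inv_mem (hsq x hxB))
    have e2 : b * x * b⁻¹ = b * x * b⁻¹ * x⁻¹ * x := by group
    rw [e2, fr.mul _ (fr.QL h3) _ hx, (fr.ker _ (fr.QL h3)).2 h3, zero_add]
  have h3 := Subgroup.card_le_of_le h2
  have h4 : 0 < Nat.card (fr.fix B hB) := Nat.card_pos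
  by_contra hlt
  rw [not_le] at hlt
  have h5 : Nat.card Λ * Nat.card ↥(B ⊓ Λ) < Nat.card B * Nat.card (fr.fix B hB) :=
    calc _ ≤ Nat.card Λ * Nat.card (fr.fix B hB) := Nat.mul_le_mul_left _ h3
      _ < _ := Nat.mul_lt_mul_of_pos_right hlt h4
  exact absurd h1 (not_le.2 h5)

end Fr

/-! ### An elementary abelian subgroup of maximal order -/

/-- a 2-subgroup `X` normalised by an elementary abelian 2-subgroup `Λ` of maximal order meets it -/
theorem eq_bot_of_max {Γ : Type u} [Group Γ] [Finite Γ] {Λ X : Subgroup Γ} (hΛ : ∀ x ∈ Λ, x * x = 1)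
    (hX : IsPGroup 2 X) (hΛX : ∀ l ∈ Λ, ∀ x ∈ X, l * x * l⁻¹ ∈ X) (hdis : ∀ x ∈ X, x ∈ Λ → x = 1)
    (hmax : ∀ B : Subgroup Γ, (∀ b ∈ B, b * b = 1) → Nat.card B ≤ Nat.card Λ) : X = ⊥ := by
  have : Fact (Nat.Prime 2) := ⟨Nat.prime_two⟩
  by_contra hne
  let act : MulAction Λ X :=
    { smul := fun l x => ⟨l * x * (l : Γ)⁻¹, hΛX l l.2 x x.2⟩
      one_smul := fun x => by
        apply Subtype.ext
        change ((1 : Λ) : Γ) * x * ((1 : Λ) : Γ)⁻¹ = x
        rw [Subgroup.coe_one, one_mul, inv_one, mul_one]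
      mul_smul := fun a b x => by
        apply Subtype.ext
        change ((a * b : Λ) : Γ) * x * ((a * b : Λ) : Γ)⁻¹ = a * (b * x * (b : Γ)⁻¹) * (a : Γ)⁻¹
        rw [Subgroup.coe_mul]; group }
  have hΛ2 : IsPGroup 2 Λ := fun x => ⟨1, by
    apply Subtype.ext
    rw [pow_one, Subgroup.coe_pow, pow_two]
    exact hΛ x x.2⟩
  have h1 : (1 : X) ∈ MulAction.fixedPoints Λ X := fun l => by
    apply Subtype.ext
    change (l : Γ) * ((1 : X) : Γ) * (l : Γ)⁻¹ = ((1 : X) : Γ)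
    rw [Subgroup.coe_one, mul_one, mul_inv_cancel]
  have h2 : 2 ∣ Nat.card X := by
    obtain ⟨m, hm⟩ := IsPGroup.iff_card.1 hX
    rw [hm]
    apply dvd_pow_self
    rintro rfl
    rw [pow_zero] at hm
    exact hne (Subgroup.eq_bot_of_card_eq _ hm)
  obtain ⟨x, hx, hx1⟩ := hΛ2.exists_fixed_point_of_prime_dvd_card_of_fixed_point X h2 h1
  have hx1' : (x : Γ) ≠ 1 := fun h => hx1 (Subtype.ext h.symm)
  have hcx : ∀ l ∈ Λ, l * (x : Γ) = x * l := fun l hl => by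
    have h3 := congrArg Subtype.val (hx ⟨l, hl⟩)
    change l * (x : Γ) * l⁻¹ = x at h3
    calc l * (x : Γ) = l * x * l⁻¹ * l := by group
      _ = _ := by rw [h3]
  -- a power of order 2
  obtain ⟨y, hyX, hy1, hyy, hcy⟩ : ∃ y ∈ X, y ≠ 1 ∧ y * y = 1 ∧ ∀ l ∈ Λ, l * y = y * l := by
    obtain ⟨m, hm⟩ := hX x
    have hm' : (x : Γ) ^ 2 ^ m = 1 := by simpa using congrArg Subtype.val hm
    classical
    have hex : ∃ m, (x : Γ) ^ 2 ^ m = 1 := ⟨m, hm'⟩
    obtain ⟨m', hm1⟩ : ∃ m', Nat.find hex = m' + 1 := by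
      refine Nat.exists_eq_succ_of_ne_zero fun h => ?_
      have := Nat.find_spec hex
      rw [h, pow_zero, pow_one] at this
      exact hx1' this
    refine ⟨(x : Γ) ^ 2 ^ m', pow_mem x.2 _, fun h => ?_, ?_, fun l hl => ?_⟩
    · exact Nat.find_min hex (by omega : m' < Nat.find hex) h
    · rw [← pow_two, ← pow_mul, ← pow_succ, ← hm1]
      exact Nat.find_spec hex
    · have h4 : Commute l (x : Γ) := hcx l hl
      exact (h4.pow_right _)
  have hcomm : ∀ l ∈ Λ, ∀ l' ∈ Λ, l * l' = l' * l := fun l hl l' hl' => by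
    have h3 := hΛ _ (mul_mem hl hl')
    calc l * l' = l * (l * l' * (l * l')) * l' := by rw [h3, mul_one]
      _ = (l * l) * l' * l * (l' * l') := by group
      _ = _ := by rw [hΛ l hl, hΛ l' hl', one_mul, mul_one]
  let B : Subgroup Γ :=
    { carrier := {g | ∃ l ∈ Λ, g = l ∨ g = l * y}
      one_mem' := ⟨1, one_mem _, Or.inl rfl⟩
      mul_mem' := by
        rintro _ _ ⟨l, hl, rfl | rfl⟩ ⟨l', hl', rfl | rfl⟩
        · exact ⟨_, mul_mem hl hl', Or.inl rfl⟩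
        · exact ⟨_, mul_mem hl hl', Or.inr (mul_assoc _ _ _).symm⟩
        · exact ⟨_, mul_mem hl hl', Or.inr (by rw [mul_assoc, ← hcy _ hl', mul_assoc])⟩
        · refine ⟨_, mul_mem hl hl', Or.inl ?_⟩
          calc l * y * (l' * y) = l * (y * l') * y := by group
            _ = l * (l' * y) * y := by rw [hcy l' hl']
            _ = l * l' * (y * y) := by group
            _ = _ := by rw [hyy, mul_one]
      inv_mem' := by
        rintro _ ⟨l, hl, rfl | rfl⟩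
        · exact ⟨_, inv_mem hl, Or.inl rfl⟩
        · refine ⟨_, inv_mem hl, Or.inr ?_⟩
          rw [mul_inv_rev, inv_eq_of_mul_eq_one_left hyy, hcy _ (inv_mem hl)] }
  have hB : ∀ b ∈ B, b * b = 1 := by
    rintro _ ⟨l, hl, rfl | rfl⟩
    · exact hΛ _ hl
    · calc l * y * (l * y) = l * (y * l) * y := by group
        _ = l * (l * y) * y := by rw [hcy l hl]
        _ = l * l * (y * y) := by group
        _ = 1 := by rw [hΛ l hl, hyy, mul_one]
  have hΛB : Λ ≤ B := fun l hl => ⟨l, hl, Or.inl rfl⟩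
  have h5 := Subgroup.eq_of_le_of_card_ge hΛB (hmax B hB)
  have hyB : y ∈ B := ⟨1, one_mem _, Or.inr (one_mul y).symm⟩
  rw [← h5] at hyB
  exact hy1 (hdis y hyX hyB)

/-- the bound for the subgroups of a Sylow 2-subgroup is enough -/
theorem max_of_sylow {Γ : Type u} [Group Γ] [Finite Γ] (S : Sylow 2 Γ) {n : ℕ}
    (h : ∀ B : Subgroup Γ, B ≤ S → (∀ b ∈ B, b * b = 1) → Nat.card B ≤ n) (B : Subgroup Γ)
    (hB : ∀ b ∈ B, b * b = 1) : Nat.card B ≤ n := by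
  have : Fact (Nat.Prime 2) := ⟨Nat.prime_two⟩
  have hB2 : IsPGroup 2 B := fun x => ⟨1, by
    apply Subtype.ext
    rw [pow_one, Subgroup.coe_pow, pow_two]
    exact hB x x.2⟩
  obtain ⟨R, hR⟩ := hB2.exists_le_sylow
  obtain ⟨g, hg⟩ := MulAction.exists_smul_eq Γ R S
  have h1 : B.map (MulAut.conj g).toMonoidHom ≤ S := by
    rintro _ ⟨x, hx, rfl⟩
    rw [← hg]
    refine Subgroup.mem_pointwise_smul_iff_inv_smul_mem.2 ?_
    rw [← map_inv, MulAut.smul_def]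
    have e : MulAut.conj g⁻¹ ((MulAut.conj g).toMonoidHom x) = x := by
      change g⁻¹ * (g * x * g⁻¹) * g⁻¹⁻¹ = x
      group
    rw [e]
    exact hR hx
  have h2 : ∀ b ∈ B.map (MulAut.conj g).toMonoidHom, b * b = 1 := by
    rintro _ ⟨x, hx, rfl⟩
    rw [← map_mul, hB x hx, map_one]
  have h3 := h _ h1 h2
  have h4 := Nat.card_congr (B.equivMapOfInjective (MulAut.conj g).toMonoidHom (MulAut.conj g).injective).toEquiv
  rwa [h4]

theorem card_map_quot [Finite G] {N K A : Subgroup G} (hA : A ≤ N) [(K.subgroupOf N).Normal] :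
    Nat.card ((A.subgroupOf N).map (QuotientGroup.mk' (K.subgroupOf N))) * Nat.card ↥(A ⊓ K) = Nat.card A := by
  have h1 := Subgroup.relIndex_ker (A.subgroupOf N) (QuotientGroup.mk' (K.subgroupOf N))
  rw [QuotientGroup.ker_mk', Subgroup.relIndex_subgroupOf hA] at h1
  rw [← h1]
  have h2 := Subgroup.relIndex_mul_relIndex ⊥ (A ⊓ K) A bot_le inf_le_left
  rw [Subgroup.relIndex_bot_left, Subgroup.relIndex_bot_left, Subgroup.inf_relIndex_left] at h2
  rw [mul_comm]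
  exact h2

/-- **`X ≤ K`** -/
theorem Fr.le_of_norm [Finite G] [Finite F] [CharP F 2] {S : Sylow 2 G} {Λ Q : Subgroup G} {c : G → Fin k → F}
    (fr : Fr (S : Subgroup G) Λ Q c) {N K : Subgroup G} (hSN : (S : Subgroup G) ≤ N)
    (hKN : K ≤ N) (hK : N ≤ normalizer (K : Set G)) (hQK : Q ≤ K) (hSK : (S : Subgroup G) ⊓ K ≤ Q)
    {X : Subgroup G} (hXN : X ≤ N) (hX2 : ∀ x ∈ X, ∃ m : ℕ, x ^ 2 ^ m ∈ K)
    (hΛX : ∀ l ∈ Λ, ∀ x ∈ X, l * x * l⁻¹ ∈ X) (hdis : ∀ x ∈ X, ∀ l ∈ Λ, l⁻¹ * x ∈ K → x ∈ K)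
    (hsqΛ : ∀ x ∈ Λ, x * x ∈ Q) : X ≤ K := by
  have : Fact (Nat.Prime 2) := ⟨Nat.prime_two⟩
  have hn : (K.subgroupOf N).Normal := (normal_subgroupOf_iff_le_normalizer hKN).2 hK
  have hΛN : Λ ≤ N := fr.LS.trans hSN
  set π := QuotientGroup.mk' (K.subgroupOf N) with hπ
  have hπ1 : ∀ {x : G} (hx : x ∈ N), π ⟨x, hx⟩ = 1 ↔ x ∈ K := by
    intro x hx
    rw [hπ, QuotientGroup.mk'_apply, QuotientGroup.eq_one_iff, mem_subgroupOf]
  let S' : Sylow 2 N := S.subtype hSN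
  let S₁ : Sylow 2 (N ⧸ K.subgroupOf N) := S'.mapSurjective (QuotientGroup.mk'_surjective (K.subgroupOf N))
  have hS₁ : (S₁ : Subgroup (N ⧸ K.subgroupOf N)) = ((S : Subgroup G).subgroupOf N).map π := rfl
  set Λ₁ := (Λ.subgroupOf N).map π with hΛ₁
  set X₁ := (X.subgroupOf N).map π with hX₁
  have hΛc : Nat.card Λ₁ * Nat.card Q = Nat.card Λ := by
    have h1 := card_map_quot (K := K) hΛN
    have e : Λ ⊓ K = Q := le_antisymm ((inf_le_inf_right _ fr.LS).trans hSK) (le_inf fr.QL hQK)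
    rwa [e] at h1
  have hmax : ∀ B : Subgroup (N ⧸ K.subgroupOf N), (∀ b ∈ B, b * b = 1) → Nat.card B ≤ Nat.card Λ₁ := by
    refine max_of_sylow S₁ fun B hB hsq => ?_
    rw [hS₁] at hB
    set A : Subgroup G := ((B.comap π).map N.subtype) ⊓ (S : Subgroup G) with hA
    have hmemA : ∀ {x : G} (hx : x ∈ N), x ∈ A ↔ x ∈ (S : Subgroup G) ∧ π ⟨x, hx⟩ ∈ B := by
      intro x hx
      rw [hA, mem_inf, mem_map]
      constructor
      · rintro ⟨⟨y, hy, e⟩, h2⟩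
        have : y = ⟨x, hx⟩ := Subtype.ext e
        rw [this] at hy
        exact ⟨h2, hy⟩
      · rintro ⟨h2, h3⟩
        exact ⟨⟨⟨x, hx⟩, h3, rfl⟩, h2⟩
    have hAS : A ≤ (S : Subgroup G) := inf_le_right
    have h1 := fr.card_le hAS (fun b hb => by
      refine hSK (mem_inf.2 ⟨mul_mem (hAS hb) (hAS hb), ?_⟩)
      rw [← hπ1 (mul_mem (hSN (hAS hb)) (hSN (hAS hb)))]
      have h2 := ((hmemA (hSN (hAS hb))).1 hb).2
      exact hsq _ h2)
    have h2 := card_map_quot (K := K) (hAS.trans hSN)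
    have e1 : A ⊓ K = Q := by
      apply le_antisymm ((inf_le_inf_right _ hAS).trans hSK)
      intro x hx
      exact mem_inf.2 ⟨(hmemA (hKN (hQK hx))).2 ⟨fr.LS (fr.QL hx), by
        rw [(hπ1 (hKN (hQK hx))).2 (hQK hx)]; exact one_mem _⟩, hQK hx⟩
    have e2 : (A.subgroupOf N).map π = B := by
      apply le_antisymm
      · rintro _ ⟨x, hx, rfl⟩
        exact ((hmemA x.2).1 (mem_subgroupOf.1 hx)).2
      · intro b hb
        obtain ⟨x, hx, rfl⟩ := hB hb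
        exact ⟨x, mem_subgroupOf.2 ((hmemA x.2).2 ⟨mem_subgroupOf.1 hx, hb⟩), rfl⟩
    rw [← hπ, e1, e2] at h2
    have h3 : 0 < Nat.card Q := Nat.card_pos
    rw [← h2, ← hΛc] at h1
    exact Nat.le_of_mul_le_mul_right h1 h3
  have hX₁b : X₁ = ⊥ := by
    refine eq_bot_of_max (Λ := Λ₁) ?_ ?_ ?_ ?_ hmax
    · rintro _ ⟨x, hx, rfl⟩
      rw [← map_mul]
      exact (hπ1 (x * x).2).2 (hQK (hsqΛ _ (mem_subgroupOf.1 hx)))
    · rintro ⟨_, x, hx, rfl⟩
      obtain ⟨m, hm⟩ := hX2 x (mem_subgroupOf.1 hx)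
      refine ⟨m, Subtype.ext ?_⟩
      rw [Subgroup.coe_pow, Subgroup.coe_one]
      change (π x) ^ 2 ^ m = 1
      rw [← map_pow]
      exact (hπ1 (x ^ 2 ^ m).2).2 hm
    · rintro _ ⟨l, hl, rfl⟩ _ ⟨x, hx, rfl⟩
      rw [← map_mul, ← map_inv, ← map_mul]
      exact ⟨_, mem_subgroupOf.2 (hΛX l (mem_subgroupOf.1 hl) x (mem_subgroupOf.1 hx)), rfl⟩
    · rintro _ ⟨x, hx, rfl⟩ ⟨l, hl, e⟩
      refine (hπ1 x.2).2 (hdis x (mem_subgroupOf.1 hx) l (mem_subgroupOf.1 hl) ?_)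
      have h1 : π (l⁻¹ * x) = 1 := by rw [map_mul, map_inv, e, inv_mul_cancel]
      exact (hπ1 (l⁻¹ * x).2).1 h1
  intro x hx
  have h1 : π ⟨x, hXN hx⟩ ∈ X₁ := ⟨_, mem_subgroupOf.2 hx, rfl⟩
  rw [hX₁b, mem_bot] at h1
  exact (hπ1 _).1 h1

end Cfsg.Agent.Omega.IId.Ns.Rk
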