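import Cfsg.Agent.Omega.IId.Ns.Match
import Cfsg.Agent.Omega.IId.Cv.SplitTwo

/-!
# II.d: `U_i = 1` implies that `V` splits

* `Nc_mv`, `Uc_mv` : `g ∈ P` mapping the `i`-th factor to the `j`-th maps `N_i` to `N_j`, `U_i` to `U_j`;
* `splitPar_of_Uc` : `Uc M i = ⊥` for one `i` implies `SplitPar S P` (any `k`);
* `Uc_ne` : if `SplitPar S P` fails, then all `Uc M i ≠ ⊥`; `four_le` : `|F| ≥ 4`.
-/

set_option autoImplicit false
set_option linter.unusedSectionVars false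

namespace Cfsg.Agent.Omega.IId.Ns

open Subgroup Cfsg Cfsg.Agent.ZN Cfsg.Agent.ZN.ChoiceSit Cfsg.Agent.ZN.ChoiceBase Cfsg.Agent.Omega.MinPar
open Cfsg.Agent.Omega.FrameFF Cfsg.Agent.Omega.FFThm Cfsg.Agent.Lib.SL2Mat
open Cfsg.Agent.Omega.NatPair (ap ap_add ap_mul ap_one ap_inj ext2 ap_zero' ap_one' ap_inv_ap ap_ap_inv)
open Cfsg.Agent.Omega.HOne (cv_le conj_mem_zl conj_mem_cv)
open Cfsg.Agent.Omega.HOne.Main (vx SplitPar)
open Cfsg.Agent.Omega.IId.Cv
open Cfsg.Agent.MinSimple.VModule (oddGen oddGen_le)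
open scoped commutatorElement

universe u

section gen

variable {G : Type u} [Group G] {F : Type} [Field F] {S P : Subgroup G} {k : ℕ}
  {M : NatK F S P (zl S P) (cv S P) k}

theorem Nc_mv {i j : Fin k} {g : G} (hg : g ∈ P) (hm : Mv M g i j) {n : G} (hn : n ∈ Nc M i) :
    g * n * g⁻¹ ∈ Nc M j := by
  induction hn using closure_induction with
  | mem x hx =>
    obtain ⟨y, hy, v, hv, rfl⟩ := hx
    obtain ⟨B, hB⟩ := exists_of_Fc hy
    obtain ⟨B', hB'⟩ := conj_Al hg hm hB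
    have e : g * (y * v * y⁻¹ * v⁻¹) * g⁻¹ =
      (g * y * g⁻¹) * (g * v * g⁻¹) * (g * y * g⁻¹)⁻¹ * (g * v * g⁻¹)⁻¹ := by group
    rw [e]
    exact mem_Nc hB' (conj_mem_zl hg hv)
  | one => rw [mul_one, mul_inv_cancel]; exact one_mem _
  | mul x y _ _ hx hy =>
    have e : g * (x * y) * g⁻¹ = (g * x * g⁻¹) * (g * y * g⁻¹) := by group
    rw [e]; exact mul_mem hx hy
  | inv x _ hx =>
    have e : g * x⁻¹ * g⁻¹ = (g * x * g⁻¹)⁻¹ := by group
    rw [e]; exact inv_mem hx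

theorem Uc_mv {i j : Fin k} {g : G} (hg : g ∈ P) (hm : Mv M g i j) {n : G} (hn : n ∈ Uc M i) :
    g * n * g⁻¹ ∈ Uc M j := mem_inf.2 ⟨Nc_mv hg hm hn.1, conj_mem_cv hg hn.2⟩

theorem Uc_bot_all (hSP : S ≤ P) {i : Fin k} (hi : Uc M i = ⊥) (j : Fin k) : Uc M j = ⊥ := by
  rw [eq_bot_iff]
  intro u hu
  obtain ⟨t, ht, h1⟩ := M.trans j i
  have h2 := Uc_mv (hSP ht) (fun v hv => h1 v hv) hu
  rw [hi, mem_bot] at h2
  have e : u = t⁻¹ * (t * u * t⁻¹) * t := by group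
  rw [mem_bot, e, h2]; group

end gen

section split

variable {G : Type u} [Group G] [Finite G] (hG : IsCharacteristicTwoType G) (S : Sylow 2 G) {P : Subgroup G}
  (h : IsParS (S : Subgroup G) P) {F : Type} [Field F] [CharP F 2] {k : ℕ}
  {M : NatK F (S : Subgroup G) P (zl (S : Subgroup G) P) (cv (S : Subgroup G) P) k}

include hG h in
/-- an element of `⨆ i ∈ s, N_i` with zero coordinates is trivial -/
theorem iSup_aux (hU : ∀ i, Uc M i = ⊥) (s : Finset (Fin k)) : ∃ W : Subgroup G, W ≤ zl (S : Subgroup G) P ∧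
    (∀ i ∈ s, Nc M i ≤ W) ∧ (W ≤ ⨆ i, Nc M i) ∧ (∀ w ∈ W, ∀ i, i ∉ s → M.e w i = 0) ∧
      ∀ w ∈ W, M.e w = 0 → w = 1 := by
  classical
  induction s using Finset.induction with
  | empty =>
    refine ⟨⊥, bot_le, fun i hi => absurd hi (Finset.notMem_empty i), bot_le, fun w hw i _ => ?_, fun w hw _ => hw⟩
    rw [mem_bot.1 hw, e_one M]; rfl
  | insert i s his ih =>
    obtain ⟨W, h1, h2, h3, h4, h5⟩ := ih
    have hN := Nc_le M i
    let K : Subgroup G :=
      { carrier := {x | ∃ n ∈ Nc M i, ∃ w ∈ W, x = n * w}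
        one_mem' := ⟨1, one_mem _, 1, one_mem _, (mul_one 1).symm⟩
        mul_mem' := by
          rintro _ _ ⟨n, hn, w, hw, rfl⟩ ⟨n', hn', w', hw', rfl⟩
          refine ⟨n * n', mul_mem hn hn', w * w', mul_mem hw hw', ?_⟩
          calc n * w * (n' * w') = n * (w * n') * w' := by group
            _ = n * (n' * w) * w' := by rw [zl_ab hG S h (h1 hw) (hN hn')]
            _ = _ := by group
        inv_mem' := by
          rintro _ ⟨n, hn, w, hw, rfl⟩
          refine ⟨n⁻¹, inv_mem hn, w⁻¹, inv_mem hw, ?_⟩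
          rw [mul_inv_rev, zl_ab hG S h (h1 (inv_mem hw)) (hN (inv_mem hn))] }
    refine ⟨K, ?_, ?_, ?_, ?_, ?_⟩
    · rintro _ ⟨n, hn, w, hw, rfl⟩
      exact mul_mem (hN hn) (h1 hw)
    · intro j hj x hx
      rcases Finset.mem_insert.1 hj with rfl | hj
      · exact ⟨x, hx, 1, one_mem _, (mul_one x).symm⟩
      · exact ⟨1, one_mem _, x, h2 j hj hx, (one_mul x).symm⟩
    · rintro _ ⟨n, hn, w, hw, rfl⟩
      exact mul_mem (le_iSup (fun i => Nc M i) i hn) (h3 hw)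
    · rintro _ ⟨n, hn, w, hw, rfl⟩ j hj
      rw [Finset.mem_insert, not_or] at hj
      rw [M.mul _ (hN hn) _ (h1 hw), Pi.add_apply, Nc_e M hn j hj.1, h4 w hw j hj.2, add_zero]
    · rintro _ ⟨n, hn, w, hw, rfl⟩ h0
      rw [M.mul _ (hN hn) _ (h1 hw)] at h0
      have h6 : M.e n = 0 := by
        funext j
        by_cases hj : j = i
        · subst hj
          have := congrFun h0 j
          rw [Pi.add_apply, h4 w hw j his, add_zero] at this
          exact this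
        · exact Nc_e M hn j hj
      have h7 : n = 1 := by
        have h8 : n ∈ Uc M i := mem_inf.2 ⟨hn, (M.ker n (hN hn)).1 h6⟩
        rw [hU i] at h8
        exact mem_bot.1 h8
      rw [h6, zero_add] at h0
      rw [h7, h5 w hw h0, mul_one]

/-- `V = (∏ N_i) D` -/
theorem exists_div_mem (v : G) (hv : v ∈ zl (S : Subgroup G) P) : ∃ w ∈ (⨆ i, Nc M i : Subgroup G),
    w ∈ zl (S : Subgroup G) P ∧ w⁻¹ * v ∈ cv (S : Subgroup G) P := by
  classical
  have h1 : ∀ s : Finset (Fin k), ∃ w ∈ (⨆ i, Nc M i : Subgroup G), w ∈ zl (S : Subgroup G) P ∧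
      (∀ i ∈ s, M.e w i = M.e v i) ∧ ∀ i, i ∉ s → M.e w i = 0 := by
    intro s
    induction s using Finset.induction with
    | empty => exact ⟨1, one_mem _, one_mem _, fun i hi => absurd hi (Finset.notMem_empty i), fun i _ => by
        rw [e_one M]; rfl⟩
    | insert i s his ih =>
      obtain ⟨w, hw, hwV, h1, h2⟩ := ih
      obtain ⟨u, hu, hue⟩ := Nc_ex M i (M.e v i)
      have huV := Nc_le M i hu
      refine ⟨u * w, mul_mem (le_iSup (fun i => Nc M i) i hu) hw, mul_mem huV hwV, fun j hj => ?_, fun j hj => ?_⟩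
      · rw [M.mul _ huV _ hwV, Pi.add_apply]
        by_cases hji : j = i
        · subst hji; rw [hue, h2 j his, add_zero]
        · rw [Nc_e M hu j hji, zero_add]
          exact h1 j ((Finset.mem_insert.1 hj).resolve_left hji)
      · rw [Finset.mem_insert, not_or] at hj
        rw [M.mul _ huV _ hwV, Pi.add_apply, Nc_e M hu j hj.1, h2 j hj.2, add_zero]
  obtain ⟨w, hw, hwV, h2, -⟩ := h1 Finset.univ
  refine ⟨w, hw, hwV, (M.ker _ (mul_mem (inv_mem hwV) hv)).1 ?_⟩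
  rw [M.mul _ (inv_mem hwV) _ hv, e_inv M hwV]
  funext i
  rw [Pi.add_apply, Pi.neg_apply, h2 i (Finset.mem_univ i), neg_add_cancel]; rfl

/-- `∏ N_i` is `P`-invariant -/
theorem iSup_norm {g : G} (hg : g ∈ P) {w : G} (hw : w ∈ (⨆ i, Nc M i : Subgroup G)) :
    g * w * g⁻¹ ∈ (⨆ i, Nc M i : Subgroup G) := by
  have h1 : (⨆ i, Nc M i : Subgroup G) ≤ (⨆ i, Nc M i : Subgroup G).comap (MulAut.conj g).toMonoidHom := by
    refine iSup_le fun i n hn => ?_
    obtain ⟨j, hj⟩ := exists_Mv (M := M) hg i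
    exact le_iSup (fun i => Nc M i) j (Nc_mv hg hj hn)
  exact h1 hw

include hG h in
/-- **`U_i = 1` implies `SplitPar`.** -/
theorem splitPar_of_Uc {i : Fin k} (hi : Uc M i = ⊥) : SplitPar (S : Subgroup G) P := by
  obtain ⟨W, h1, h2, -, -, h5⟩ := iSup_aux hG S h (fun j => Uc_bot_all h.le hi j) Finset.univ
  have h3 : (⨆ i, Nc M i : Subgroup G) ≤ W := iSup_le fun j => h2 j (Finset.mem_univ j)
  have h4 : vx (S : Subgroup G) P ≤ (⨆ i, Nc M i : Subgroup G) := by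
    unfold vx
    rw [commutator_le]
    intro v hv x hx
    obtain ⟨w, hw, hwV, hd⟩ := exists_div_mem S (M := M) v hv
    have hxP : x ∈ P := oddGen_le P hx
    obtain ⟨d, hdd⟩ : ∃ d, d = w⁻¹ * v := ⟨_, rfl⟩
    rw [← hdd] at hd
    have e1 : v = w * d := by rw [hdd]; group
    have h6 : d⁻¹ * x = x * d⁻¹ := mem_centralizer_iff.1 (inv_mem hd.2) x hx |>.symm
    have e2 : ⁅v, x⁆ = w * (x * w⁻¹ * x⁻¹) := by
      rw [commutatorElement_def, e1]
      calc w * d * x * (w * d)⁻¹ * x⁻¹ = w * (d * (x * d⁻¹)) * w⁻¹ * x⁻¹ := by group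
        _ = w * (d * (d⁻¹ * x)) * w⁻¹ * x⁻¹ := by rw [h6]
        _ = _ := by group
    rw [e2]
    exact mul_mem hw (iSup_norm S hxP (inv_mem hw))
  unfold SplitPar
  rw [eq_bot_iff]
  rintro x ⟨hx, hx'⟩
  exact mem_bot.2 (h5 x (h3 (h4 hx)) ((M.ker x (cv_le _ _ hx')).2 hx'))

include hG h in
theorem Uc_ne (hs : ¬ SplitPar (S : Subgroup G) P) (i : Fin k) : Uc M i ≠ ⊥ := fun hi =>
  hs (splitPar_of_Uc hG S h hi)

end split

end Cfsg.Agent.Omega.IId.Ns
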